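import Mathlib

/-!
Burnside fusion in an abelian Sylow subgroup: a real element forces an automizer of even order.
-/

set_option autoImplicit false

namespace CfsgLib.BurnsideAutomizer

variable {G : Type*} [Group G] [Finite G] {p : ℕ} [Fact p.Prime]

/-- If an abelian Sylow subgroup contains an element `x` with `x² ≠ 1` conjugate to its inverse,
then the automizer has even order. -/
theorem two_dvd_index_of_isConj_inv (P : Sylow p G) (hP : IsMulCommutative (P : Subgroup G))
    {x : G} (hx : x ∈ (P : Subgroup G)) (hxne : x⁻¹ ≠ x) (hconj : IsConj x x⁻¹) :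
    2 ∣ ((Subgroup.centralizer ((P : Subgroup G) : Set G)).subgroupOf
      (Subgroup.normalizer ((P : Subgroup G) : Set G))).index := by
  obtain ⟨c, hc⟩ := isConj_iff.1 hconj
  have hc' : c⁻¹⁻¹ * x * c⁻¹ = x⁻¹ := by rw [inv_inv]; exact hc
  obtain ⟨n, hn, e⟩ := P.conj_eq_normalizer_conj_of_mem (_hP := hP) x c⁻¹ hx
    (by rw [hc']; exact inv_mem hx)
  rw [hc'] at e
  by_contra hodd
  set C := (Subgroup.centralizer ((P : Subgroup G) : Set G)).subgroupOf
      (Subgroup.normalizer ((P : Subgroup G) : Set G))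
  have hk : (⟨n, hn⟩ : Subgroup.normalizer ((P : Subgroup G) : Set G)) ^ C.index ∈ C :=
    C.pow_index_mem _
  have hcent : n ^ C.index ∈ Subgroup.centralizer ((P : Subgroup G) : Set G) := by
    simpa [C, Subgroup.mem_subgroupOf] using hk
  have hcomm : x * n ^ C.index = n ^ C.index * x :=
    Subgroup.mem_centralizer_iff.1 hcent x hx
  have h1 : x * n = n * x⁻¹ := by rw [e]; group
  have h2 : x⁻¹ * n = n * x := by
    calc x⁻¹ * n = x⁻¹ * (n * x⁻¹) * x := by group
      _ = x⁻¹ * (x * n) * x := by rw [h1]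
      _ = n * x := by group
  have hpow : ∀ j : ℕ, x * n ^ j = n ^ j * (if Even j then x else x⁻¹) := by
    intro j
    induction j with
    | zero => simp
    | succ j ih =>
      rw [pow_succ, ← mul_assoc, ih]
      by_cases hj : Even j
      · rw [if_pos hj, if_neg (by simp [Nat.even_add_one, hj]), mul_assoc, h1, ← mul_assoc]
      · rw [if_neg hj, if_pos (by simp [Nat.even_add_one, hj]), mul_assoc, h2, ← mul_assoc]
  rw [hpow, if_neg (fun h => hodd h.two_dvd)] at hcomm
  exact hxne (mul_left_cancel hcomm)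

omit [Finite G] in
/-- An element of `p`-power order of an odd prime with `x⁻¹ = x` is trivial. -/
theorem inv_ne_self_of_orderOf {x : G} (h : 2 < orderOf x) : x⁻¹ ≠ x := by
  intro e
  have h2 : x ^ 2 = 1 := by rw [pow_two]; nth_rw 1 [← e]; exact inv_mul_cancel x
  have := Nat.le_of_dvd two_pos (orderOf_dvd_of_pow_eq_one h2)
  omega

/-- Some conjugate of a `p`-element lies in the given Sylow `p`-subgroup. -/
theorem exists_conj_mem_sylow (P : Sylow p G) {x : G} {k : ℕ} (hx : x ^ p ^ k = 1) :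
    ∃ g : G, g * x * g⁻¹ ∈ (P : Subgroup G) := by
  have hpg : IsPGroup p (Subgroup.zpowers x) := by
    rintro ⟨y, m, rfl⟩
    refine ⟨k, Subtype.ext ?_⟩
    simp only [SubmonoidClass.coe_pow, OneMemClass.coe_one]
    rw [← zpow_natCast (x ^ m), ← zpow_mul, mul_comm, zpow_mul, zpow_natCast, hx, one_zpow]
  obtain ⟨Q, hQ⟩ := hpg.exists_le_sylow
  obtain ⟨g, rfl⟩ := MulAction.exists_smul_eq G Q P
  exact ⟨g, by
    rw [← SetLike.mem_coe, Sylow.coe_subgroup_smul]
    exact ⟨x, hQ (Subgroup.mem_zpowers x), rfl⟩⟩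

/-- Every `p`-subgroup is abelian as soon as one Sylow `p`-subgroup is. -/
theorem commute_of_isPGroup (P : Sylow p G) (hP : IsMulCommutative (P : Subgroup G))
    {Q : Subgroup G} (hQ : IsPGroup p Q) {a b : G} (ha : a ∈ Q) (hb : b ∈ Q) :
    a * b = b * a := by
  obtain ⟨R, hR⟩ := hQ.exists_le_sylow
  obtain ⟨g, rfl⟩ := MulAction.exists_smul_eq G R P
  have mem : ∀ z, z ∈ Q → g * z * g⁻¹ ∈ ((g • R : Sylow p G) : Subgroup G) := by
    intro z hz
    rw [← SetLike.mem_coe, Sylow.coe_subgroup_smul]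
    exact ⟨z, hR hz, rfl⟩
  have h := setLike_mul_comm (S := Subgroup G) (mem a ha) (mem b hb)
  apply mul_left_cancel (a := g)
  apply mul_right_cancel (b := g⁻¹)
  simpa [mul_assoc] using h

end CfsgLib.BurnsideAutomizer
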