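import Cfsg.Agent.Lib.ChevStr.Parabolic

set_option autoImplicit false

/-!
Real functionals on the root space, the Weyl action on them, and supports of monomial elements.
-/

namespace CfsgLib.KnownSimple.ChevLevels

open Cfsg.Lie CfsgLib.ChevStr
open scoped MatrixGroups

variable {l : ℕ}

/-- The functional with values `lam` on the fundamental roots. -/
def ev (lam : Fin l → ℝ) : (Fin l → ℤ) →+ ℝ where
  toFun v := ∑ i, lam i * (v i : ℝ)
  map_zero' := by simp
  map_add' v w := by simp [mul_add, Finset.sum_add_distrib]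

theorem ev_apply (lam : Fin l → ℝ) (v : Fin l → ℤ) : ev lam v = ∑ i, lam i * (v i : ℝ) := rfl

theorem ev_single (lam : Fin l → ℝ) (i : Fin l) : ev lam (Pi.single i 1) = lam i := by
  rw [ev_apply, Fintype.sum_eq_single i]
  · simp
  · intro j hj; simp [hj]

theorem ev_nonneg {lam : Fin l → ℝ} (h : ∀ i, 0 ≤ lam i) {v : Fin l → ℤ} (hv : 0 ≤ v) :
    0 ≤ ev lam v := by
  rw [ev_apply]
  refine Finset.sum_nonneg fun i _ => mul_nonneg (h i) ?_
  have hi : (0 : ℤ) ≤ v i := hv i
  exact_mod_cast hi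

variable {D : ChevalleyDatum} {F : Type*} [Field F] (C : ChevCore D F)

/-- The linear extension of a permutation of the roots. -/
def rootAct (w : Equiv.Perm (Fin D.nroots)) : (Fin D.rank → ℤ) →+ (Fin D.rank → ℤ) where
  toFun v := ∑ j, v j • C.R.α (w ⟨D.simple j.val, C.R.simple_lt j⟩)
  map_zero' := by simp
  map_add' v v' := by simp [add_smul, Finset.sum_add_distrib]

theorem rootAct_α {w : Equiv.Perm (Fin D.nroots)} (hw : w ∈ C.hR.weyl) (s : Fin D.nroots) :
    rootAct C w (C.R.α s) = C.R.α (w s) := (C.hR.α_weyl w hw s).symm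

theorem rootAct_one (v : Fin D.rank → ℤ) : rootAct C 1 v = v := by
  show ∑ j, v j • C.R.α (D.simple j.val) = v
  simp only [C.R.α_simple]
  exact (pi_eq_sum_univ' v).symm

theorem rootAct_mul {u : Equiv.Perm (Fin D.nroots)} (hu : u ∈ C.hR.weyl)
    (w : Equiv.Perm (Fin D.nroots)) (v : Fin D.rank → ℤ) :
    rootAct C (u * w) v = rootAct C u (rootAct C w v) := by
  show ∑ j, v j • C.R.α ((u * w) ⟨D.simple j.val, C.R.simple_lt j⟩) =
    rootAct C u (∑ j, v j • C.R.α (w ⟨D.simple j.val, C.R.simple_lt j⟩))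
  rw [map_sum]
  refine Finset.sum_congr rfl fun j _ => ?_
  rw [map_zsmul, rootAct_α C hu, Equiv.Perm.mul_apply]

/-- The functional composed with a permutation of the roots. -/
def pull (lam : Fin D.rank → ℝ) (w : Equiv.Perm (Fin D.nroots)) : Fin D.rank → ℝ :=
  fun j => ev lam (C.R.α (w ⟨D.simple j.val, C.R.simple_lt j⟩))

theorem ev_pull (lam : Fin D.rank → ℝ) (w : Equiv.Perm (Fin D.nroots)) (v : Fin D.rank → ℤ) :
    ev (pull C lam w) v = ev lam (rootAct C w v) := by
  show _ = ev lam (∑ j, v j • C.R.α (w ⟨D.simple j.val, C.R.simple_lt j⟩))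
  rw [map_sum, ev_apply]
  refine Finset.sum_congr rfl fun j _ => ?_
  rw [map_zsmul, zsmul_eq_mul, mul_comm]
  rfl

theorem pull_one (lam : Fin D.rank → ℝ) : pull C lam 1 = lam := by
  funext j
  show ev lam (C.R.α (D.simple j.val)) = lam j
  rw [C.R.α_simple, ev_single]

theorem pull_mul (lam : Fin D.rank → ℝ) {u : Equiv.Perm (Fin D.nroots)} (hu : u ∈ C.hR.weyl)
    (w : Equiv.Perm (Fin D.nroots)) : pull C lam (u * w) = pull C (pull C lam u) w := by
  funext j
  show ev lam _ = ev (pull C lam u) (C.R.α (w ⟨D.simple j.val, C.R.simple_lt j⟩))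
  rw [ev_pull, rootAct_α C hu, Equiv.Perm.mul_apply]

theorem pull_sPerm_of_zero {lam : Fin D.rank → ℝ} {i : Fin D.rank} (h : lam i = 0) :
    pull C lam (C.hR.sPerm i) = lam := by
  funext j
  show ev lam (C.R.α (C.hR.sPerm i ⟨D.simple j.val, C.R.simple_lt j⟩)) = lam j
  rw [C.hR.sPerm_val, C.hR.α_refl i _ (C.R.simple_lt j), map_sub, map_zsmul, ev_single, h,
    smul_zero, sub_zero, C.R.α_simple, ev_single]

/-- A non-zero entry `(a, b)` has the weight of `a` the image of the weight of `b`. -/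
def MonoSupp (n : GL D.Idx F) (w : Equiv.Perm (Fin D.nroots)) : Prop :=
  ∀ a b, (n : Matrix D.Idx D.Idx F) a b ≠ 0 → C.R.wt a = rootAct C w (C.R.wt b)

theorem MonoSupp.mul {n m : GL D.Idx F} {u w : Equiv.Perm (Fin D.nroots)} (hu : u ∈ C.hR.weyl)
    (hn : MonoSupp C n u) (hm : MonoSupp C m w) : MonoSupp C (n * m) (u * w) := by
  intro a b hab
  rw [Units.val_mul, Matrix.mul_apply] at hab
  obtain ⟨c, -, hc⟩ := Finset.exists_ne_zero_of_sum_ne_zero hab
  obtain ⟨h1, h2⟩ := mul_ne_zero_iff.1 hc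
  rw [hn a c h1, hm c b h2, rootAct_mul C hu]

theorem monoSupp_torus (c : Fin D.rank → Fˣ) : MonoSupp C (C.R.torus c) 1 := by
  intro a b hab
  obtain rfl : a = b := by_contra fun h => hab (C.apply_torus_of_ne c h)
  rw [rootAct_one]

theorem monoSupp_nS (i : Fin D.rank) : MonoSupp C (C.nS i) (C.hR.sPerm i) := by
  intro a b hab
  rw [C.coe_nS] at hab
  rcases C.n_shape i a b hab with ⟨j, j', rfl, rfl⟩ | ⟨s, s', rfl, rfl, rfl⟩
  · simp [map_zero]
  · rw [C.R.wt_inr, C.R.wt_inr, rootAct_α C (C.hR.sPerm_mem i)]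

theorem monoSupp_of_moves {n : GL D.Idx F} (hn : n ∈ D.monomialSubgroup F)
    {w : Equiv.Perm (Fin D.nroots)} (hw : C.Moves n w) :
    MonoSupp C n w ∧ MonoSupp C n⁻¹ w⁻¹ := by
  obtain ⟨v, hv, -, hv1, hv2⟩ : ∃ v, C.Moves n v ∧ C.Moves n⁻¹ v⁻¹ ∧ MonoSupp C n v ∧
      MonoSupp C n⁻¹ v⁻¹ := by
    rw [C.monomialSubgroup_eq, ← Subgroup.closure_eq (C.R.torus (F := F)).range,
      ← Subgroup.closure_union] at hn
    refine Subgroup.closure_induction (p := fun n _ => ∃ v, C.Moves n v ∧ C.Moves n⁻¹ v⁻¹ ∧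
      MonoSupp C n v ∧ MonoSupp C n⁻¹ v⁻¹) ?_ ?_ ?_ ?_ hn
    · rintro x (⟨c, rfl⟩ | ⟨i, rfl⟩)
      · refine ⟨1, C.moves_torus c, ?_, monoSupp_torus C c, ?_⟩
        · simpa [map_inv] using C.moves_torus c⁻¹
        · rw [inv_one, ← map_inv]; exact monoSupp_torus C c⁻¹
      · refine ⟨_, ChevCore.Acts.moves C (C.acts_nS i),
          ChevCore.Acts.moves C (ChevCore.Acts.inv C (C.acts_nS i)), monoSupp_nS C i, ?_⟩
        obtain ⟨c, hc⟩ := C.nS_inv i
        rw [hc, inv_eq_of_mul_eq_one_right (C.hR.sPerm_mul_self i), ← one_mul (C.hR.sPerm i)]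
        exact MonoSupp.mul C (one_mem _) (monoSupp_torus C c) (monoSupp_nS C i)
    · refine ⟨1, ChevCore.Acts.moves C C.acts_one,
        by simpa using ChevCore.Acts.moves C C.acts_one, ?_, ?_⟩
      · simpa using monoSupp_torus C 1
      · simpa using monoSupp_torus C 1
    · rintro x y _ _ ⟨v, hv, hv', hv1, hv2⟩ ⟨u, hu, hu', hu1, hu2⟩
      exact ⟨v * u, ChevCore.Moves.mul C hv hu, by simpa using ChevCore.Moves.mul C hu' hv',
        MonoSupp.mul C hv.1 hv1 hu1, by simpa using MonoSupp.mul C hu'.1 hu2 hv2⟩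
    · rintro x _ ⟨v, hv, hv', hv1, hv2⟩
      exact ⟨v⁻¹, hv', by simpa using hv, hv2, by simpa using hv1⟩
  obtain rfl := ChevCore.Moves.unique C hw hv
  exact ⟨hv1, hv2⟩

/-- Conjugating by a monomial element moves supports along the Weyl action. -/
theorem supp_conj {n : GL D.Idx F} (hn : n ∈ D.monomialSubgroup F) {w : Equiv.Perm (Fin D.nroots)}
    (hw : C.Moves n w) {lam : Fin D.rank → ℝ} {M : Matrix D.Idx D.Idx F}
    (hM : Supp C.R.wt {v | 1 ≤ ev lam v} M) :
    Supp C.R.wt {v | 1 ≤ ev (pull C lam w) v}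
      ((↑n⁻¹ : Matrix D.Idx D.Idx F) * M * (n : Matrix D.Idx D.Idx F)) := by
  obtain ⟨h1, h2⟩ := monoSupp_of_moves C hn hw
  intro a b hab
  rw [Matrix.mul_apply] at hab
  obtain ⟨d, -, hd⟩ := Finset.exists_ne_zero_of_sum_ne_zero hab
  obtain ⟨hd1, hd2⟩ := mul_ne_zero_iff.1 hd
  rw [Matrix.mul_apply] at hd1
  obtain ⟨c, -, hc⟩ := Finset.exists_ne_zero_of_sum_ne_zero hd1
  obtain ⟨hc1, hc2⟩ := mul_ne_zero_iff.1 hc
  have e1 : rootAct C w (C.R.wt a) = C.R.wt c := by
    rw [h2 a c hc1, ← rootAct_mul C hw.1, mul_inv_cancel, rootAct_one]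
  have h3 := hM c d hc2
  show 1 ≤ ev (pull C lam w) (C.R.wt a - C.R.wt b)
  rw [ev_pull, map_sub (rootAct C w), e1, ← h1 d b hd2]
  exact h3

/-- The sum of squares of the values on all roots. -/
def normSq (lam : Fin D.rank → ℝ) : ℝ := ∑ s : Fin D.nroots, ev lam (C.R.α s) ^ 2

theorem normSq_pull (lam : Fin D.rank → ℝ) {w : Equiv.Perm (Fin D.nroots)} (hw : w ∈ C.hR.weyl) :
    normSq C (pull C lam w) = normSq C lam := by
  unfold normSq
  simp only [ev_pull, rootAct_α C hw]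
  exact Equiv.sum_comp w fun s => ev lam (C.R.α s) ^ 2

theorem sq_le_normSq (lam : Fin D.rank → ℝ) (i : Fin D.rank) : lam i ^ 2 ≤ normSq C lam := by
  have h := Finset.single_le_sum (f := fun s : Fin D.nroots => ev lam (C.R.α s) ^ 2)
    (fun s _ => sq_nonneg _) (Finset.mem_univ ⟨D.simple i.val, C.R.simple_lt i⟩)
  simpa [normSq, C.R.α_simple, ev_single] using h

theorem normSq_mid (x y : Fin D.rank → ℝ) :
    normSq C (fun i => (x i + y i) / 2) + normSq C (fun i => x i - y i) / 4 =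
      (normSq C x + normSq C y) / 2 := by
  have e1 : ∀ v, ev (fun i => (x i + y i) / 2) v = (ev x v + ev y v) / 2 := fun v => by
    simp only [ev_apply, ← Finset.sum_add_distrib, Finset.sum_div]
    exact Finset.sum_congr rfl fun i _ => by ring
  have e2 : ∀ v, ev (fun i => x i - y i) v = ev x v - ev y v := fun v => by
    simp only [ev_apply, ← Finset.sum_sub_distrib]
    exact Finset.sum_congr rfl fun i _ => by ring
  simp only [normSq, e1, e2, Finset.sum_div, ← Finset.sum_add_distrib]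
  exact Finset.sum_congr rfl fun s _ => by ring

theorem continuous_normSq : Continuous (normSq C) := by
  unfold normSq
  simp only [ev_apply]
  fun_prop

/-- Every functional is moved into the dominant chamber. -/
theorem exists_dominant (lam : Fin D.rank → ℝ) : ∃ w ∈ C.hR.weyl, ∀ i, 0 ≤ pull C lam w i := by
  classical
  set A : Equiv.Perm (Fin D.nroots) → Finset (Fin D.nroots) := fun w =>
    Finset.univ.filter fun s => D.IsPosRoot s ∧ ev lam (C.R.α (w s)) < 0
  obtain ⟨w, hw, hmin⟩ := (Finset.univ.filter fun w => w ∈ C.hR.weyl).exists_min_image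
    (fun w => (A w).card) ⟨1, by simp⟩
  rw [Finset.mem_filter] at hw
  refine ⟨w, hw.2, fun i => le_of_not_gt fun hi => ?_⟩
  set p : Fin D.nroots := ⟨D.simple i.val, C.R.simple_lt i⟩
  have hp : p ∈ A w := Finset.mem_filter.2 ⟨Finset.mem_univ _, C.R.simple_pos i, hi⟩
  have hsub : (A (w * C.hR.sPerm i)).image (C.hR.sPerm i) ⊆ (A w).erase p := by
    intro t ht
    obtain ⟨s, hs, rfl⟩ := Finset.mem_image.1 ht
    obtain ⟨-, hsp, hsv⟩ := Finset.mem_filter.1 hs
    rw [Equiv.Perm.mul_apply] at hsv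
    have hne : s.val ≠ D.simple i.val := fun e => by
      obtain rfl : s = p := Fin.ext e
      rw [show C.hR.sPerm i p = ⟨D.neg p, C.R.neg_lt p p.isLt⟩ from Fin.ext (C.hR.refl_simple_self i),
        C.hR.apply_neg hw.2 p, C.R.α_neg _ (w p).isLt, map_neg] at hsv
      have hi' : ev lam (C.R.α (w p)) < 0 := hi
      linarith
    refine Finset.mem_erase.2 ⟨fun e => ?_, Finset.mem_filter.2
      ⟨Finset.mem_univ _, C.hR.refl_pos i hsp hne, hsv⟩⟩
    have h2 : s = C.hR.sPerm i p := by rw [← e, C.hR.sPerm_sPerm]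
    rw [show C.hR.sPerm i p = ⟨D.neg p, C.R.neg_lt p p.isLt⟩ from
      Fin.ext (C.hR.refl_simple_self i)] at h2
    subst h2
    exact C.R.not_pos_and_neg hsp ((C.R.isNeg_neg_iff p.isLt).2 (C.R.simple_pos i))
  have h1 := Finset.card_le_card hsub
  rw [Finset.card_image_of_injective _ (C.hR.sPerm i).injective, Finset.card_erase_of_mem hp] at h1
  have h2 := hmin (w * C.hR.sPerm i)
    (Finset.mem_filter.2 ⟨Finset.mem_univ _, mul_mem hw.2 (C.hR.sPerm_mem i)⟩)
  have h3 := Finset.card_pos.2 ⟨p, hp⟩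
  omega

/-- The indices on which a functional vanishes. -/
def zeroSet (lam : Fin D.rank → ℝ) : Set ℕ := {i | ∀ h : i < D.rank, lam ⟨i, h⟩ = 0}

theorem mem_finSet_zeroSet {lam : Fin D.rank → ℝ} {i : Fin D.rank} :
    i ∈ finSet D (zeroSet lam) ↔ lam i = 0 :=
  mem_finSet.trans ⟨fun h => h i.isLt, fun h _ => h⟩

/-- Dominant functionals in one orbit are equal, through the stabiliser. -/
theorem dominant_unique {lam lam' : Fin D.rank → ℝ} (h : ∀ i, 0 ≤ lam i) (h' : ∀ i, 0 ≤ lam' i) :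
    ∀ {w : Equiv.Perm (Fin D.nroots)}, w ∈ C.hR.weyl → pull C lam' w = lam →
      lam = lam' ∧ w ∈ C.hR.weylSub (finSet D (zeroSet lam)) := by
  suffices ∀ (k : ℕ) (w : Equiv.Perm (Fin D.nroots)), w ∈ C.hR.weyl → (C.hR.invSet w).card = k →
      pull C lam' w = lam → lam = lam' ∧ w ∈ C.hR.weylSub (finSet D (zeroSet lam)) from
    fun {w} hw e => this _ w hw rfl e
  intro k
  induction k using Nat.strong_induction_on with
  | _ k ih =>
    intro w hw hk e
    by_cases h0 : C.hR.invSet w = ∅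
    · obtain rfl := C.hR.eq_one_of_invSet_eq_empty hw h0
      rw [pull_one] at e
      exact ⟨e.symm, one_mem _⟩
    · obtain ⟨i, -, hi⟩ := C.hR.weylSub_exists_neg (J := Finset.univ)
        (by rw [C.hR.weylSub_univ]; exact hw) h0
      have hle : lam i ≤ 0 := by
        have e' : ev lam' (C.R.α (w ⟨D.simple i.val, C.R.simple_lt i⟩)) = lam i := congrFun e i
        have := ev_nonneg h' (v := -C.R.α (w ⟨D.simple i.val, C.R.simple_lt i⟩))
          (neg_nonneg.2 ((C.R.isNeg_iff _).1 hi).2)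
        rw [map_neg, e'] at this
        linarith
      have hi0 : lam i = 0 := le_antisymm hle (h i)
      have hc := C.hR.invSet_mul_sPerm_of_neg hw i hi
      obtain ⟨h1, h2⟩ := ih (C.hR.invSet (w * C.hR.sPerm i)).card (by omega) (w * C.hR.sPerm i)
        (mul_mem hw (C.hR.sPerm_mem i)) rfl
        (by rw [pull_mul C lam' hw, e, pull_sPerm_of_zero C hi0])
      have h3 := mul_mem h2 (C.hR.sPerm_mem_sub (mem_finSet_zeroSet.2 hi0))
      rw [mul_assoc, C.hR.sPerm_mul_self i, mul_one] at h3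
      exact ⟨h1, h3⟩

end CfsgLib.KnownSimple.ChevLevels
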