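import Cfsg.Agent.Lib.ChevStr.Bruhat

set_option autoImplicit false

/-!
Every `p`-subgroup of a Chevalley group in characteristic `p` is conjugate into `U`.
-/

namespace CfsgLib.KnownSimple.ChevPSylow

open Cfsg.Lie CfsgLib.ChevStr
open scoped MatrixGroups

variable {D : ChevalleyDatum} {F : Type*} [Field F] (C : ChevCore D F)

/-- A power of `u h` is a unipotent element times the power of `h`. -/
theorem pow_decomp {u h : GL D.Idx F} (hu : u ∈ D.posUnipotent F) (hh : h ∈ D.diagonalSubgroup F)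
    (C : ChevCore D F) : ∀ k : ℕ, ∃ v ∈ D.posUnipotent F, (u * h) ^ k = v * h ^ k
  | 0 => ⟨1, one_mem _, by simp⟩
  | k + 1 => by
    obtain ⟨v, hv, hv'⟩ := pow_decomp hu hh C k
    refine ⟨v * (h ^ k * u * (h ^ k)⁻¹), mul_mem hv
      ((Subgroup.mem_normalizer_iff.1 (C.diagonal_normalizes_pos (pow_mem hh k)) u).1 hu), ?_⟩
    rw [pow_succ, hv', pow_succ]
    group

include C in
theorem mem_posUnipotent_of_pow (p : ℕ) [Fact p.Prime] [CharP F p] {y : GL D.Idx F}
    (hy : y ∈ D.borelSubgroup F) {n : ℕ} (hn : y ^ p ^ n = 1) : y ∈ D.posUnipotent F := by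
  obtain ⟨u, hu, c, rfl⟩ := C.mem_borel.1 hy
  have hc : C.R.torus c ∈ D.diagonalSubgroup F := by
    rw [C.diagonalSubgroup_eq]; exact ⟨c, rfl⟩
  obtain ⟨v, hv, hv'⟩ := pow_decomp hu hc C (p ^ n)
  rw [hn] at hv'
  have hv1 : C.R.torus c ^ p ^ n = v⁻¹ := (eq_inv_iff_mul_eq_one.2 (by
    have : v⁻¹ * (v * C.R.torus c ^ p ^ n) = v⁻¹ * 1 := by rw [← hv']
    rw [inv_mul_cancel_left, mul_one] at this
    rw [this, inv_mul_cancel]))
  have h1 : C.R.torus c ^ p ^ n = 1 :=
    (Subgroup.eq_bot_iff_forall _).1 C.posUnipotent_inf_diagonal _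
      (Subgroup.mem_inf.2 ⟨by rw [hv1]; exact inv_mem hv, pow_mem hc _⟩)
  suffices C.R.torus c = 1 by rwa [this, mul_one]
  have h2 := congrArg Units.val h1
  rw [Units.val_pow_eq_pow_val, Units.val_one, C.R.coe_torus, Matrix.diagonal_pow,
    ← Matrix.diagonal_one] at h2
  have h3 := Matrix.diagonal_injective h2
  refine Units.ext ?_
  rw [C.R.coe_torus, Units.val_one, ← Matrix.diagonal_one]
  congr 1
  funext a
  have h4 := congrFun h3 a
  simp only [Pi.pow_apply] at h4
  refine iterateFrobenius_inj F p n ?_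
  simp only [iterateFrobenius_def, one_pow]
  exact h4

include C in
theorem not_dvd_index [Fintype F] (p : ℕ) [Fact p.Prime] [CharP F p] :
    ¬ p ∣ ((D.borelSubgroup F).subgroupOf (D.group F)).index := by
  classical
  have h1 := Subgroup.card_mul_index ((D.borelSubgroup F).subgroupOf (D.group F))
  rw [Nat.card_congr (Subgroup.subgroupOfEquivOfLe C.borel_le_group).toEquiv, C.card_group] at h1
  rw [Nat.eq_of_mul_eq_mul_left Nat.card_pos h1]
  intro hdvd
  have hone : (1 : Equiv.Perm (Fin D.nroots)) ∈ C.hR.weylSet :=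
    C.hR.mem_weylSet.2 (one_mem _)
  rw [← Finset.add_sum_erase _ _ hone] at hdvd
  have hinv : C.hR.invSet (1 : Equiv.Perm (Fin D.nroots)) = ∅ :=
    Finset.eq_empty_iff_forall_notMem.2 fun s hs => by
      rw [C.hR.mem_invSet, Equiv.Perm.one_apply] at hs
      exact C.R.not_pos_and_neg hs.1 hs.2
  rw [hinv, Finset.card_empty, pow_zero] at hdvd
  have hrest : p ∣ ∑ w ∈ C.hR.weylSet.erase 1, Fintype.card F ^ (C.hR.invSet w).card := by
    refine Finset.dvd_sum fun w hw => dvd_pow ?_ ?_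
    · obtain ⟨k, -, hk⟩ := FiniteField.card F p
      rw [hk]
      exact dvd_pow_self p k.ne_zero
    · rw [Finset.mem_erase] at hw
      rw [Ne, Finset.card_eq_zero]
      exact fun h => hw.1 (C.hR.eq_one_of_invSet_eq_empty (C.hR.mem_weylSet.1 hw.2) h)
  exact (Fact.out : p.Prime).one_lt.ne' (Nat.dvd_one.1 ((Nat.dvd_add_left hrest).1 hdvd))

include C in
theorem exists_conj_le_posUnipotent [Fintype F] (p : ℕ) [Fact p.Prime] [CharP F p]
    {U : Subgroup (GL D.Idx F)} (hUG : U ≤ D.group F) (hU : IsPGroup p U) :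
    ∃ g ∈ D.group F, ∀ u ∈ U, g⁻¹ * u * g ∈ D.posUnipotent F := by
  set B := (D.borelSubgroup F).subgroupOf (D.group F) with hB
  have hU' : IsPGroup p (U.subgroupOf (D.group F)) :=
    hU.comap_of_injective (D.group F).subtype (D.group F).subtype_injective
  obtain ⟨x, hx⟩ := hU'.nonempty_fixed_point_of_prime_not_dvd_card (↥(D.group F) ⧸ B)
    (not_dvd_index C p)
  induction x using QuotientGroup.induction_on with | _ g => ?_
  refine ⟨g, g.2, fun u hu => ?_⟩
  obtain ⟨n, hn⟩ := hU ⟨u, hu⟩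
  have hn' : u ^ p ^ n = 1 := congrArg Subtype.val hn
  refine mem_posUnipotent_of_pow C p (n := n) ?_ ?_
  · have h1 := hx ⟨⟨u, hUG hu⟩, hu⟩
    change ((⟨u, hUG hu⟩ * g : ↥(D.group F)) : ↥(D.group F) ⧸ B) = _ at h1
    have h2 := QuotientGroup.eq.1 h1.symm
    rw [hB, Subgroup.mem_subgroupOf] at h2
    simpa [mul_assoc] using h2
  · have h5 := conj_pow (i := p ^ n) (a := (g : GL D.Idx F)⁻¹) (b := u)
    rw [inv_inv] at h5
    rw [h5, hn']
    group

end CfsgLib.KnownSimple.ChevPSylow
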