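import Cfsg.Prelude.Def_ChevAutomorphisms
import Cfsg.Prelude.Def_LieTypes
import Cfsg.Prelude.Def_ChevB2

set_option autoImplicit false

/-!
Diagonal matrices of root-lattice characters conjugate the root elements of a Chevalley datum
to root elements, given a decidable consistency property of the chain table.
-/

namespace CfsgLib.KnownSimple

open Cfsg.Lie

variable (D : ChevalleyDatum)

/-- successive entries of one chain differ by `r` -/
def chainSeqOK (r : ℕ) : ℕ → List (ℕ × ℤ) → Bool
  | _, [] => true
  | prev, (k, _) :: tl => decide (D.chainRoot r prev 1 = some k) && (decide (k < D.nroots) && chainSeqOK r k tl)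

/-- every chain of the table is consistent -/
def chainTableOK : Bool :=
  (List.range D.nroots).all fun r =>
    (D.chain.getD r #[]).toList.all fun e => decide (e.1 < D.nroots) && chainSeqOK D r e.1 e.2.toList

theorem chainTableOK_chevG2 : chainTableOK chevG2 = true := by decide +kernel
theorem chainTableOK_chevB2 : chainTableOK chevB2 = true := by decide +kernel
theorem chainTableOK_chevD4 : chainTableOK chevD4 = true := by decide +kernel
theorem chainTableOK_chevF4 : chainTableOK chevF4 = true := by decide +kernel
theorem chainTableOK_chevE6 : chainTableOK chevE6 = true := by decide +kernel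
theorem chainTableOK_chevE7 : chainTableOK chevE7 = true := by decide +kernel
theorem chainTableOK_chevE8 : chainTableOK chevE8 = true := by decide +kernel

theorem chainTableOK_of_mem
    (hD : D ∈ [chevG2, chevB2, chevD4, chevF4, chevE6, chevE7, chevE8]) : chainTableOK D = true := by
  simp only [List.mem_cons, List.not_mem_nil, or_false] at hD
  rcases hD with rfl | rfl | rfl | rfl | rfl | rfl | rfl
  exacts [chainTableOK_chevG2, chainTableOK_chevB2, chainTableOK_chevD4, chainTableOK_chevF4,
    chainTableOK_chevE6, chainTableOK_chevE7, chainTableOK_chevE8]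

variable {D} {F : Type*} [Field F]

theorem char_chainSeq {χ : ℕ → Fˣ} (hχ : D.IsRootCharacter χ) {r : ℕ} (hr : r < D.nroots) :
    ∀ (l : List (ℕ × ℤ)) (prev : ℕ), prev < D.nroots → chainSeqOK D r prev l = true →
      ∀ (i : ℕ) (q : ℕ × ℤ), l[i]? = some q → χ q.1 = χ r ^ (i + 1) * χ prev := by
  intro l
  induction l with
  | nil => intro prev _ _ i q h; simp at h
  | cons a tl ih =>
    intro prev hp hok i q h
    obtain ⟨k, M⟩ := a
    simp only [chainSeqOK, Bool.and_eq_true, decide_eq_true_eq] at hok
    obtain ⟨hk, hkn, htl⟩ := hok
    have hχk : χ k = χ r * χ prev := hχ.2 r prev k hr hp hk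
    cases i with
    | zero =>
      simp at h
      subst h
      simpa using hχk
    | succ j =>
      simp at h
      rw [ih k hkn htl j q h, hχk, ← mul_assoc, ← pow_succ]

/-- The values of a root character along a chain. -/
theorem char_chainCoeff (htab : chainTableOK D = true) {χ : ℕ → Fˣ} (hχ : D.IsRootCharacter χ)
    {r : ℕ} (hr : r < D.nroots) {s u : ℕ} {km : ℕ × ℤ} (h : km ∈ D.chainCoeff r s u) :
    χ u = χ r ^ km.1 * χ s := by
  simp only [ChevalleyDatum.chainCoeff, List.mem_flatMap, List.mem_filter, List.mem_map,
    decide_eq_true_eq] at h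
  obtain ⟨e, ⟨he, hes⟩, ⟨⟨k, M⟩, i⟩, ⟨hq, hqu⟩, rfl⟩ := h
  simp only at hqu
  subst hqu
  subst hes
  simp only [chainTableOK, List.all_eq_true, List.mem_range, Bool.and_eq_true, decide_eq_true_eq] at htab
  obtain ⟨he1, hseq⟩ := htab r hr e he
  have hi : e.2.toList[i]? = some (k, M) := List.mk_mem_zipIdx_iff_getElem?.mp hq
  exact char_chainSeq hχ hr e.2.toList e.1 he1 hseq i (k, M) hi

/-- Diagonal conjugation of a root element. -/
theorem charDiag_conj_x (htab : chainTableOK D = true) {χ : ℕ → Fˣ} (hχ : D.IsRootCharacter χ)
    {r : ℕ} (hr : r < D.nroots) (t : F) :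
    D.charDiag F χ * D.x F r t * D.charDiag F (fun s => (χ s)⁻¹) = D.x F r ((χ r : F) * t) := by
  have hne : (χ r : F) ≠ 0 := (χ r).ne_zero
  ext row col
  simp only [ChevalleyDatum.charDiag, ChevalleyDatum.x, dif_pos hr, Matrix.mul_diagonal,
    Matrix.diagonal_mul]
  simp only [ChevalleyDatum.xMat, Matrix.of_apply]
  rcases col with i | s
  · rcases row with i' | u
    · simp
    · simp only [Sum.elim_inl, Sum.elim_inr, mul_one]
      split_ifs with hu
      · subst hu; ring
      · simp
  · by_cases hsr : s = (⟨r, hr⟩ : Fin D.nroots)
    · subst hsr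
      rcases row with i' | u
      · simp
      · simp only [Sum.elim_inr, if_true]
        split_ifs with hu
        · subst hu; simp
        · simp
    · dsimp only
      rw [if_neg hsr, if_neg hsr]
      by_cases hsn : s.val = D.negIdx.getD r 0
      · have hχs : χ s.val = (χ r)⁻¹ := by rw [hsn]; exact hχ.1 r hr
        rw [if_pos hsn, if_pos hsn]
        rcases row with i' | u
        · simp [hχs]; ring
        · simp only [Sum.elim_inr, hχs, inv_inv]
          split_ifs with h1 h2
          · subst h1; rw [hχs]; simp
          · subst h2; ring
          · simp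
      · rw [if_neg hsn, if_neg hsn]
        rcases row with i' | u
        · simp
        · simp only [Sum.elim_inr, Units.val_inv_eq_inv_val, mul_add, add_mul]
          congr 1
          · split_ifs with h1
            · subst h1; simp
            · simp
          · rw [← List.sum_map_mul_left, ← List.sum_map_mul_right]
            apply congrArg List.sum
            apply List.map_congr_left
            intro km hkm
            have h := char_chainCoeff htab hχ hr hkm
            rw [h, Units.val_mul, Units.val_pow_eq_pow_val, mul_pow]
            field_simp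

end CfsgLib.KnownSimple
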