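import Cfsg.Agent.Lib.ChevStr.Bruhat
import Cfsg.Agent.Lib.ChevStr.InstanceTables
import Cfsg.Prelude.Def_ChevAutomorphisms

set_option autoImplicit false

/-!
The root elements of the fundamental roots and their negatives generate the Chevalley group.
-/

namespace CfsgLib.KnownSimple

open Cfsg.Lie CfsgLib.ChevStr
open scoped MatrixGroups

variable {D : ChevalleyDatum} {F : Type*} [Field F] (C : ChevCore D F)

theorem group_le_of_simple {S : Subgroup (GL D.Idx F)}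
    (h : ∀ (i : Fin D.rank) (t : F), C.xGL (D.simple i.val) t ∈ S ∧ C.xGL (D.neg (D.simple i.val)) t ∈ S) :
    D.group F ≤ S := by
  have hn : ∀ i : Fin D.rank, C.nS i ∈ S := by
    intro i
    rw [ChevCore.nS, ChevCore.nGL, ChevalleyDatum.nWord, C.wordGL_cons, C.wordGL_cons, C.wordGL_cons,
      C.wordGL_nil, mul_one]
    exact mul_mem (h i _).1 (mul_mem (h i _).2 (h i _).1)
  refine C.group_le fun r t hr => ?_
  obtain ⟨w, hw, k, hk⟩ := C.exists_simple_image ⟨r, hr⟩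
  obtain ⟨n, hnmem, -, e, he⟩ := C.exists_rep hw
  obtain ⟨h1, -, h2⟩ := he ⟨D.simple k.val, C.R.simple_lt k⟩
  have hnS : n ∈ S := (Subgroup.closure_le S).2 (by rintro _ ⟨i, rfl⟩; exact hn i) hnmem
  have h3 := h2 ((e (D.simple k.val) : F) * t)
  rw [hk, ← mul_assoc, show ((e (D.simple k.val) : F) * (e (D.simple k.val) : F)) = 1 by
    rcases h1 with h | h <;> simp [h], one_mul] at h3
  rw [← h3]
  exact mul_mem (mul_mem hnS (h k _).1) (inv_mem hnS)

include C in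
/-- two endomorphisms agreeing on the simple root elements agree -/
theorem hom_eq_of_simple {φ ψ : ↥(D.group F) →* ↥(D.group F)}
    (h : ∀ (g : ↥(D.group F)) (i : Fin D.rank) (t : F),
      (((g : GL D.Idx F) : Matrix D.Idx D.Idx F) = D.x F (D.simple i.val) t → φ g = ψ g) ∧
      (((g : GL D.Idx F) : Matrix D.Idx D.Idx F) = D.x F (D.neg (D.simple i.val)) t → φ g = ψ g)) :
    φ = ψ := by
  refine MonoidHom.ext fun y => ?_
  have hle : D.group F ≤ (MonoidHom.eqLocus φ ψ).map (D.group F).subtype :=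
    group_le_of_simple C fun i t =>
      ⟨⟨⟨_, C.xGL_mem_group _ t⟩, (h ⟨_, C.xGL_mem_group _ t⟩ i t).1 (C.coe_xGL _ t), rfl⟩,
        ⟨⟨_, C.xGL_mem_group _ t⟩, (h ⟨_, C.xGL_mem_group _ t⟩ i t).2 (C.coe_xGL _ t), rfl⟩⟩
  obtain ⟨z, hz, hzy⟩ := hle y.2
  obtain rfl : z = y := Subtype.ext hzy
  exact hz

include C in
theorem field_graph_comm {f g : ↥(D.group F) ≃* ↥(D.group F)} (hf : D.IsFieldAut f) (hg : D.IsGraphAut g)
    (y : ↥(D.group F)) : f (g y) = g (f y) := by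
  obtain ⟨σ, hσ⟩ := hf
  obtain ⟨π, -, hπ⟩ := hg
  have h := hom_eq_of_simple C (φ := f.toMonoidHom.comp g.toMonoidHom) (ψ := g.toMonoidHom.comp f.toMonoidHom)
    fun z i t => ⟨fun hz => ?_, fun hz => ?_⟩
  · exact DFunLike.congr_fun h y
  · refine Subtype.ext (Units.ext ?_)
    show ((f (g z) : GL D.Idx F) : Matrix D.Idx D.Idx F) = ((g (f z) : GL D.Idx F) : Matrix D.Idx D.Idx F)
    rw [hσ _ _ _ (C.R.simple_lt (π i)) ((hπ z i t).1 hz),
      (hπ (f z) i (σ t)).1 (hσ z _ t (C.R.simple_lt i) hz), map_pow]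
  · refine Subtype.ext (Units.ext ?_)
    show ((f (g z) : GL D.Idx F) : Matrix D.Idx D.Idx F) = ((g (f z) : GL D.Idx F) : Matrix D.Idx D.Idx F)
    rw [hσ _ _ _ (C.R.neg_lt _ (C.R.simple_lt (π i))) ((hπ z i t).2 hz),
      (hπ (f z) i (σ t)).2 (hσ z _ t (C.R.neg_lt _ (C.R.simple_lt i)) hz), map_pow]

end CfsgLib.KnownSimple
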