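import Cfsg.Agent.Lib.ChevStr.Parabolic
import Cfsg.Agent.Lib.ChevStr.Mem

set_option autoImplicit false

/-!
The centraliser of the unipotent radical in a proper standard parabolic subgroup lies in the radical.
-/

namespace CfsgLib.KnownSimple.ChevRadical

open Cfsg.Lie CfsgLib.ChevStr
open scoped MatrixGroups

/-- every root with vanishing `i`-th coefficient can be moved by a positive root with nonzero one -/
def radCheck (D : ChevalleyDatum) : Bool :=
  (List.range D.rank).all fun i => (List.range D.nroots).all fun r =>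
    decide ((D.coroot.getD r #[]).getD i 0 ≠ 0) ||
      (List.range D.nroots).any fun s => decide (D.IsPosRoot s) &&
        decide ((D.coroot.getD s #[]).getD i 0 ≠ 0) && (D.chainRoot r s 1).isSome

variable {D : ChevalleyDatum}

theorem radCheck_spec (hchk : radCheck D = true) (i : Fin D.rank) {r : ℕ} (hr : r < D.nroots)
    (h0 : (D.coroot.getD r #[]).getD i.val 0 = 0) :
    ∃ s k, D.IsPosRoot s ∧ (D.coroot.getD s #[]).getD i.val 0 ≠ 0 ∧
      D.chainRoot r s 1 = some k := by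
  simp only [radCheck, List.all_eq_true, List.mem_range, Bool.or_eq_true, List.any_eq_true,
    Bool.and_eq_true, decide_eq_true_eq, Option.isSome_iff_exists] at hchk
  rcases hchk i.val i.isLt r hr with h | ⟨s, -, ⟨h1, h2⟩, k, hk⟩
  · exact absurd h0 h
  · exact ⟨s, k, h1, h2, hk⟩

variable {F : Type*} [Field F] (C : ChevCore D F) {J : Set ℕ}

theorem isClosed_radRoots : C.R.IsClosed (C.radRoots J) := by
  refine ⟨fun r hr => hr.1, fun r hr s hs k hk => ⟨C.R.combo_pos hr.1 hs.1 hk, fun hin => ?_⟩⟩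
  obtain ⟨-, a, b, ha, hb, hab⟩ := hk
  have h1 := C.hR.outHom_pos hr.1 hr.2
  have h2 := C.hR.outHom_pos hs.1 hs.2
  have h3 := congrArg (outHom D J) hab
  rw [C.hR.outHom_of_inRootSub hin, map_add, map_zsmul, map_zsmul, smul_eq_mul, smul_eq_mul] at h3
  have ha' : (1 : ℤ) ≤ a := by omega
  have hb' : (1 : ℤ) ≤ b := by omega
  nlinarith

/-- A root element of a nonzero parameter lies only in the subgroups of sets containing its root. -/
theorem root_mem_of_mem_Ucl {S : Set ℕ} (hS : C.R.IsClosed S) {r : ℕ} (hr : r < D.nroots) {u : F}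
    (hu : u ≠ 0) (h : C.xGL r u ∈ C.Ucl S) : r ∈ S := by
  rcases C.R.pos_or_neg hr with hp | hn
  · by_contra hrS
    have hT : C.R.IsClosed {m | D.IsPosRoot m ∧ r ≤ m} := by
      refine ⟨fun m hm => hm.1, fun a ha b hb k hk => ⟨C.R.combo_pos ha.1 hb.1 hk, ?_⟩⟩
      have h1 := (C.R.combo_lt ha.1 hb.1 hk).1
      have h2 := ha.2
      omega
    have h1 := C.Ucl_inf hS hT h (C.xGL_mem_Ucl (S := {m | D.IsPosRoot m ∧ r ≤ m}) ⟨hp, le_rfl⟩ u)
    have h2 : C.xGL r u ∈ uniGroup C.R.wt (C.keyAbove (vecKey (C.R.α r))) (C.keyAbove_add _) := by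
      refine C.Ucl_le_keyAbove (fun s hs => hS.1 s hs.1) (fun s hs => ?_) h1
      have hsr : s ≠ r := fun e => hrS (e ▸ hs.1)
      have hle : r ≤ s := hs.2.2
      exact C.R.key_lt (by omega) (hS.1 s hs.1).1
    obtain ⟨i, hi⟩ := C.exists_coroot_ne_zero (F := F) hr
    have e1 := C.entry_mul hp u (one_mem _) i
    have e0 := C.entry_mul hp 0 h2 i
    rw [mul_one] at e1
    rw [C.xGL_zero, one_mul] at e0
    exact hu (mul_left_cancel₀ hi (e1.symm.trans e0))
  · exfalso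
    refine hu ((C.xGL_eq_one_iff hr).1 ((Subgroup.eq_bot_iff_forall _).1 C.borel_inf_negUnipotent _
      ⟨?_, C.xGL_mem_negUnipotent hn u⟩))
    exact C.Ucl_le (fun s hs t => C.pos_mem_borel (hS.1 s hs) t) h

theorem borel_le_normalizer {S : Set ℕ} (hS : ∀ s ∈ S, D.IsPosRoot s)
    (h : ∀ r, D.IsPosRoot r → ∀ s ∈ S, ∀ k, C.R.IsCombo r s k → k ∈ S) :
    D.borelSubgroup F ≤ Subgroup.normalizer (C.Ucl S : Set (GL D.Idx F)) := by
  refine sup_le (C.posUnipotent_le fun r t hr => C.pos_normalizes hr hS (h r hr) t) ?_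
  rw [C.diagonalSubgroup_eq]
  exact C.torus_normalizes S

/-- A cell meeting the centraliser of the radical raises every radical root. -/
theorem le_of_centralises {n a b c : GL D.Idx F} {w : Equiv.Perm (Fin D.nroots)}
    (hn : n = a * c * b) (ha : a ∈ D.borelSubgroup F) (hb : b ∈ D.borelSubgroup F)
    (hc : ∀ x ∈ D.unipotentRadical F J, c * x * c⁻¹ = x) (hw : C.Moves n w) (s : Fin D.nroots)
    (hs : (s : ℕ) ∈ C.radRoots J) : ((w s : Fin D.nroots) : ℕ) ∈ C.radRoots J ∧ s ≤ w s := by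
  set S : Set ℕ := {r | r ∈ C.radRoots J ∧ (s : ℕ) ≤ r} with hSdef
  have hclo : C.R.IsClosed S := by
    refine ⟨fun r hr => hr.1.1, fun p hp q hq k hk =>
      ⟨(isClosed_radRoots C).2 p hp.1 q hq.1 k hk, ?_⟩⟩
    have h1 := (C.R.combo_lt hp.1.1 hq.1.1 hk).1
    have h2 := hp.2
    omega
  have hnorm : D.borelSubgroup F ≤ Subgroup.normalizer (C.Ucl S : Set (GL D.Idx F)) := by
    refine borel_le_normalizer C hclo.1 fun p hp q hq k hk => ⟨⟨C.R.combo_pos hp hq.1.1 hk, ?_⟩, ?_⟩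
    · intro hin
      obtain ⟨-, i, j, hi, hj, hij⟩ := hk
      have h1 : 0 ≤ outHom D J (C.R.α p) := by
        rw [outHom_apply]
        exact Finset.sum_nonneg fun m _ => ((C.R.isPos_iff p).1 hp).2 m
      have h2 := C.hR.outHom_pos hq.1.1 hq.1.2
      have h3 := congrArg (outHom D J) hij
      rw [C.hR.outHom_of_inRootSub hin, map_add, map_zsmul, map_zsmul, smul_eq_mul, smul_eq_mul] at h3
      have hj' : (1 : ℤ) ≤ j := by omega
      nlinarith
    · have h1 := (C.R.combo_lt hp hq.1.1 hk).2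
      have h2 := hq.2
      omega
  have hSle : C.Ucl S ≤ D.unipotentRadical F J := by
    rw [C.radical_eq]; exact C.Ucl_mono fun r hr => hr.1
  set x := C.xGL s 1 with hx
  have hxS : x ∈ C.Ucl S := C.xGL_mem_Ucl (S := S) ⟨hs, le_rfl⟩ 1
  have h1 : b * x * b⁻¹ ∈ C.Ucl S := (Subgroup.mem_normalizer_iff.1 (hnorm hb) x).1 hxS
  have h2 : n * x * n⁻¹ = (a * b) * x * (a * b)⁻¹ := by
    calc n * x * n⁻¹ = a * (c * (b * x * b⁻¹) * c⁻¹) * a⁻¹ := by rw [hn]; group
      _ = a * (b * x * b⁻¹) * a⁻¹ := by rw [hc _ (hSle h1)]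
      _ = _ := by group
  obtain ⟨u, hu⟩ := hw.2 s 1
  have hu0 : u ≠ 0 := by
    rintro rfl
    rw [C.xGL_zero, mul_inv_eq_one, mul_eq_left, C.xGL_eq_one_iff s.isLt] at hu
    exact one_ne_zero hu
  have h3 : C.xGL (w s) u ∈ C.Ucl S := by
    rw [← hu, h2]
    exact (Subgroup.mem_normalizer_iff.1 (hnorm (mul_mem ha hb)) x).1 hxS
  exact root_mem_of_mem_Ucl C hclo (w s).isLt hu0 h3

include C in
theorem parabolic_le_group : D.parabolicSubgroup F J ≤ D.group F := by
  rw [← C.normalizer_radical_inf_group (J := J)]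
  exact inf_le_right

/-- A permutation in the Weyl group fixing the radical roots is trivial. -/
theorem eq_one_of_fix (hchk : radCheck D = true) (hJ : ∃ i, i < D.rank ∧ i ∉ J)
    {w : Equiv.Perm (Fin D.nroots)} (hw : w ∈ C.hR.weyl)
    (hfix : ∀ s : Fin D.nroots, (s : ℕ) ∈ C.radRoots J → w s = s) : w = 1 := by
  obtain ⟨i, hi, hiJ⟩ := hJ
  refine Equiv.ext fun r => ?_
  rw [Equiv.Perm.one_apply]
  by_cases hin : D.InRootSub J r.val
  · have hα0 : C.R.α r ⟨i, hi⟩ = 0 := (C.hR.inRootSub_iff.1 hin).2 _ fun h => hiJ (mem_finSet.1 h)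
    obtain ⟨s, k, hsp, hsi, hk⟩ := radCheck_spec hchk ⟨i, hi⟩ r.isLt
      ((C.hR.coroot_zero_iff _ _ r.isLt).2 hα0)
    obtain ⟨hkn, hαk⟩ := C.R.chainRoot_spec le_rfl hk
    have hαs : C.R.α s ⟨i, hi⟩ ≠ 0 := fun h => hsi ((C.hR.coroot_zero_iff _ _ hsp.1).2 h)
    have hαs' : 0 ≤ C.R.α s ⟨i, hi⟩ := ((C.R.isPos_iff s).1 hsp).2 _
    have hki : C.R.α k ⟨i, hi⟩ = C.R.α s ⟨i, hi⟩ := by
      rw [hαk, Pi.add_apply, Pi.smul_apply, hα0, smul_zero, zero_add]
    have hnotin : ∀ m, C.R.α m ⟨i, hi⟩ ≠ 0 → ¬ D.InRootSub J m := fun m hm h =>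
      hm ((C.hR.inRootSub_iff.1 h).2 _ fun h' => hiJ (mem_finSet.1 h'))
    have hkp : D.IsPosRoot k := (C.R.pos_or_neg hkn).resolve_right fun hneg => by
      have : C.R.α k ⟨i, hi⟩ ≤ 0 := ((C.R.isNeg_iff k).1 hneg).2 _
      omega
    have hws := hfix ⟨s, hsp.1⟩ ⟨hsp, hnotin s hαs⟩
    have hwk := hfix ⟨k, hkn⟩ ⟨hkp, hnotin k (by rw [hki]; exact hαs)⟩
    have hcombo := C.hR.combo_weyl hw (r := r) (s := ⟨s, hsp.1⟩) (k := ⟨k, hkn⟩) (a := 1) (b := 1)
      (by rw [hαk, one_smul]; simp)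
    rw [hws, hwk, one_smul, one_smul] at hcombo
    simp only at hcombo
    rw [hαk, Nat.cast_one, one_smul] at hcombo
    exact Fin.ext (C.R.α_inj (w r).isLt r.isLt (add_right_cancel hcombo).symm)
  · rcases C.R.pos_or_neg r.isLt with hp | hn
    · exact hfix r ⟨hp, hin⟩
    · have hrad : D.neg r ∈ C.radRoots J := ⟨(C.R.isPos_neg_iff r.isLt).2 hn, fun h => hin (by
        have := C.hR.inRootSub_neg h
        rwa [C.R.neg_neg r r.isLt] at this)⟩
      have h1 := hfix ⟨D.neg r, C.R.neg_lt r r.isLt⟩ hrad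
      have h2 := C.hR.apply_neg hw r
      rw [h1] at h2
      refine Fin.ext ?_
      have h3 := congrArg D.neg h2
      simp only at h3
      rw [C.R.neg_neg r r.isLt, C.R.neg_neg _ (w r).isLt] at h3
      exact h3.symm

include C in
theorem mem_borel_of_centralises (hchk : radCheck D = true) (hJ : ∃ i, i < D.rank ∧ i ∉ J)
    {c : GL D.Idx F} (hcP : c ∈ D.parabolicSubgroup F J)
    (hc : ∀ x ∈ D.unipotentRadical F J, c * x * c⁻¹ = x) : c ∈ D.borelSubgroup F := by
  obtain ⟨n, hn, hcell⟩ := C.exists_bigCell (parabolic_le_group C hcP)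
  obtain ⟨a, ha, b, hb, hcab⟩ := C.mem_bigCell.1 hcell
  obtain ⟨w, hw, hw'⟩ := C.exists_moves hn
  have hcinv : ∀ x ∈ D.unipotentRadical F J, c⁻¹ * x * c⁻¹⁻¹ = x := by
    intro x hx
    conv_lhs => rw [← hc x hx]
    group
  have h1 := le_of_centralises C (n := n) (a := a⁻¹) (b := b⁻¹) (by rw [hcab]; group) (inv_mem ha)
    (inv_mem hb) hc hw
  have h2 := le_of_centralises C (n := n⁻¹) (a := b) (b := a) (by rw [hcab]; group) hb ha hcinv hw'
  have hw1 : w = 1 := eq_one_of_fix C hchk hJ hw.1 fun s hs => by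
    obtain ⟨h3, h4⟩ := h1 s hs
    obtain ⟨-, h5⟩ := h2 (w s) h3
    rw [Equiv.Perm.inv_def, Equiv.symm_apply_apply] at h5
    exact le_antisymm h5 h4
  subst hw1
  rw [hcab]
  exact mul_mem (mul_mem ha (le_sup_right (a := D.posUnipotent F)
    (C.mem_diagonal_of_moves_one hn hw))) hb

/-- The element of the Weyl group of `J` turning all its positive roots negative. -/
theorem exists_longest_sub : ∃ w ∈ C.hR.weylSub (finSet D J), ∀ s : Fin D.nroots,
    D.IsPosRoot s → D.InRootSub J s.val → D.IsNegRoot (w s) := by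
  classical
  obtain ⟨w, hw, hmax⟩ := (Finset.univ.filter fun w => w ∈ C.hR.weylSub (finSet D J)).exists_max_image
    (fun w => (C.hR.invSet w).card) ⟨1, by simp⟩
  rw [Finset.mem_filter] at hw
  have hwW := C.hR.weylSub_le _ hw.2
  refine ⟨w, hw.2, fun s hs hin => (C.R.isNeg_iff _).2 ⟨(w s).isLt, ?_⟩⟩
  rw [C.hR.α_weyl w hwW s]
  refine Finset.sum_nonpos fun j _ => ?_
  by_cases hj : j ∈ finSet D J
  · have hneg : D.IsNegRoot (w ⟨D.simple j.val, C.R.simple_lt j⟩) :=
      (C.R.pos_or_neg (w _).isLt).resolve_left fun hp => by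
        have h1 := C.hR.invSet_mul_sPerm hwW j hp
        have h2 := hmax (w * C.hR.sPerm j)
          (Finset.mem_filter.2 ⟨Finset.mem_univ _, mul_mem hw.2 (C.hR.sPerm_mem_sub hj)⟩)
        omega
    exact smul_nonpos_of_nonneg_of_nonpos (((C.R.isPos_iff _).1 hs).2 j) ((C.R.isNeg_iff _).1 hneg).2
  · simp [(C.hR.inRootSub_iff.1 hin).2 j hj]

include C in
theorem posUnipotent_decomp {u : GL D.Idx F} (hu : u ∈ D.posUnipotent F) :
    ∃ z ∈ D.unipotentRadical F J, ∃ v ∈ C.Ucl {r | D.IsPosRoot r ∧ D.InRootSub J r}, u = z * v := by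
  set V := C.Ucl {r | D.IsPosRoot r ∧ D.InRootSub J r}
  have hV : V ≤ Subgroup.normalizer (D.unipotentRadical F J : Set (GL D.Idx F)) :=
    (C.Ucl_le fun r hr t => C.xGL_mem_parabolic hr.2 t).trans C.parabolic_le_normalizer
  have hle : D.posUnipotent F ≤ D.unipotentRadical F J ⊔ V := by
    refine C.posUnipotent_le fun r t hr => ?_
    by_cases hin : D.InRootSub J r
    · exact le_sup_right (a := D.unipotentRadical F J)
        (C.xGL_mem_Ucl (S := {r | D.IsPosRoot r ∧ D.InRootSub J r}) ⟨hr, hin⟩ t)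
    · refine le_sup_left (b := V) ?_
      rw [C.radical_eq]
      exact C.xGL_mem_Ucl (S := C.radRoots J) ⟨hr, hin⟩ t
  have h := hle hu
  rw [← SetLike.mem_coe, Subgroup.coe_mul_of_right_le_normalizer_left _ _ hV] at h
  obtain ⟨z, hz, v, hv, rfl⟩ := h
  exact ⟨z, hz, v, hv, rfl⟩

/-- A centralising element is a radical element times a torus element. -/
theorem exists_radical_torus (hchk : radCheck D = true) (hJ : ∃ i, i < D.rank ∧ i ∉ J)
    {c : GL D.Idx F} (hcP : c ∈ D.parabolicSubgroup F J)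
    (hc : ∀ x ∈ D.unipotentRadical F J, c * x * c⁻¹ = x) :
    ∃ z ∈ D.unipotentRadical F J, ∃ t, c = z * C.R.torus t := by
  obtain ⟨u, hu, t, rfl⟩ := C.mem_borel.1 (mem_borel_of_centralises C hchk hJ hcP hc)
  obtain ⟨z, hz, v, hv, rfl⟩ := posUnipotent_decomp C (J := J) hu
  obtain ⟨w, hw, hneg⟩ := exists_longest_sub C (J := J)
  obtain ⟨n, hnP, hnN, hact⟩ := C.exists_rep_sub (F := F) hw
  have hnnorm := C.parabolic_le_normalizer hnP
  set d := n * (z * v * C.R.torus t) * n⁻¹ with hd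
  have hdc : ∀ x ∈ D.unipotentRadical F J, d * x * d⁻¹ = x := by
    intro x hx
    have h1 : n⁻¹ * x * n ∈ D.unipotentRadical F J := by
      have := (Subgroup.mem_normalizer_iff.1 (inv_mem hnnorm) x).1 hx
      simpa using this
    calc d * x * d⁻¹ = n * ((z * v * C.R.torus t) * (n⁻¹ * x * n) * (z * v * C.R.torus t)⁻¹) * n⁻¹ := by
          rw [hd]; group
      _ = x := by rw [hc _ h1]; group
  have hdB := mem_borel_of_centralises C hchk hJ (mul_mem (mul_mem hnP hcP) (inv_mem hnP)) hdc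
  have hzB : n * z * n⁻¹ ∈ D.borelSubgroup F :=
    C.radical_le_borel ((Subgroup.mem_normalizer_iff.1 hnnorm z).1 hz)
  have htB := C.conj_torus_mem_borel hnN t
  have hvneg : n * v * n⁻¹ ∈ D.negUnipotent F :=
    C.conj_Ucl_le (ChevCore.Acts.moves C hact)
      (fun s hs t => C.xGL_mem_negUnipotent (hneg s hs.1 hs.2) t) v hv
  have hvB : n * v * n⁻¹ ∈ D.borelSubgroup F := by
    rw [show n * v * n⁻¹ = (n * z * n⁻¹)⁻¹ * d * (n * C.R.torus t * n⁻¹)⁻¹ by rw [hd]; group]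
    exact mul_mem (mul_mem (inv_mem hzB) hdB) (inv_mem htB)
  have hv1 : v = 1 := by
    have := (Subgroup.eq_bot_iff_forall _).1 C.borel_inf_negUnipotent _ ⟨hvB, hvneg⟩
    simpa using this
  exact ⟨z, hz, t, by rw [hv1, mul_one]⟩

/-- Conjugation by `U` moves a root element only upwards. -/
theorem conj_eq_mul {s : ℕ} (hs : D.IsPosRoot s) (t : F) {g : GL D.Idx F}
    (hg : g ∈ D.posUnipotent F) :
    ∃ m ∈ C.Ucl {r | D.IsPosRoot r ∧ s < r}, g * C.xGL s t * g⁻¹ = C.xGL s t * m := by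
  set S : Set ℕ := {r | D.IsPosRoot r ∧ s < r}
  have hnorm : D.borelSubgroup F ≤ Subgroup.normalizer (C.Ucl S : Set (GL D.Idx F)) :=
    borel_le_normalizer C (fun r hr => hr.1) fun p hp q hq k hk => by
      have h1 := (C.R.combo_lt hp hq.1 hk).2
      exact ⟨C.R.combo_pos hp hq.1 hk, hq.2.trans h1⟩
  rw [C.posUnipotent_eq] at hg
  have hB : C.Ucl {r | D.IsPosRoot r} ≤ D.borelSubgroup F := C.Ucl_le fun r hr u => C.pos_mem_borel hr u
  refine Subgroup.closure_induction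
    (p := fun g _ => ∃ m ∈ C.Ucl S, g * C.xGL s t * g⁻¹ = C.xGL s t * m) ?_ ?_ ?_ ?_ hg
  · rintro _ ⟨r, hr, u, rfl⟩
    by_cases hrs : r = s
    · subst hrs
      exact ⟨1, one_mem _, by rw [mul_one, mul_inv_eq_iff_eq_mul, ← C.xGL_add, ← C.xGL_add, add_comm]⟩
    · have hne : r ≠ D.neg s := fun e => C.R.not_pos_and_neg hr (by
        rw [e, C.R.isNeg_neg_iff hs.1]; exact hs)
      have hW : C.wordGL (D.commWord F s r t u) ∈ C.Ucl S :=
        C.commWord_mem (S := S) (fun k hk => ⟨C.R.combo_pos hs hr hk, (C.R.combo_lt hs hr hk).1⟩) t u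
      refine ⟨C.xGL r u * C.wordGL (D.commWord F s r t u) * (C.xGL r u)⁻¹,
        (Subgroup.mem_normalizer_iff.1 (hnorm (C.pos_mem_borel hr u)) _).1 hW, ?_⟩
      rw [C.xGL_comm hs.1 hr.1 hrs hne t u]
      group
  · exact ⟨1, one_mem _, by group⟩
  · rintro x y hx hy ⟨m, hm, hm'⟩ ⟨m', hm'', hm3⟩
    refine ⟨m * (x * m' * x⁻¹), mul_mem hm
      ((Subgroup.mem_normalizer_iff.1 (hnorm (hB hx)) _).1 hm''), ?_⟩
    calc x * y * C.xGL s t * (x * y)⁻¹ = x * (y * C.xGL s t * y⁻¹) * x⁻¹ := by group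
      _ = (x * C.xGL s t * x⁻¹) * (x * m' * x⁻¹) := by rw [hm3]; group
      _ = _ := by rw [hm', mul_assoc]
  · rintro x hx ⟨m, hm, hm'⟩
    refine ⟨x⁻¹ * m⁻¹ * x⁻¹⁻¹,
      (Subgroup.mem_normalizer_iff.1 (hnorm (inv_mem (hB hx))) _).1 (inv_mem hm), ?_⟩
    calc x⁻¹ * C.xGL s t * x⁻¹⁻¹ = x⁻¹ * (C.xGL s t * m) * m⁻¹ * x := by group
      _ = x⁻¹ * (x * C.xGL s t * x⁻¹) * m⁻¹ * x := by rw [hm']
      _ = _ := by group

include C in
/-- The centraliser of the radical in the parabolic subgroup lies in the radical. -/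
theorem mem_radical_of_centralises (hchk : radCheck D = true) (hJ : ∃ i, i < D.rank ∧ i ∉ J)
    {c : GL D.Idx F} (hcP : c ∈ D.parabolicSubgroup F J)
    (hc : ∀ x ∈ D.unipotentRadical F J, c * x * c⁻¹ = x) : c ∈ D.unipotentRadical F J := by
  obtain ⟨z, hz, t, rfl⟩ := exists_radical_torus C hchk hJ hcP hc
  have hrad : ∀ s ∈ C.radRoots J, C.R.torusChar t (C.R.α s) = 1 := by
    intro s hs
    have hxs : C.xGL s 1 ∈ D.unipotentRadical F J := by
      rw [C.radical_eq]; exact C.xGL_mem_Ucl hs 1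
    have h1 := hc _ hxs
    have h2 : z * C.R.torus t * C.xGL s 1 * (z * C.R.torus t)⁻¹ =
        z * C.xGL s ((C.R.torusChar t (C.R.α s) : F) * 1) * z⁻¹ := by
      have := C.acts_torus t ⟨s, hs.1.1⟩ 1
      simp only at this
      rw [← this]; group
    rw [h2, mul_one] at h1
    have hzU : z ∈ D.posUnipotent F := by
      rw [C.radical_eq] at hz
      exact C.Ucl_le (fun r hr u => C.xGL_mem_posUnipotent hr.1 u) hz
    obtain ⟨m, hm, hm'⟩ := conj_eq_mul C hs.1 (C.R.torusChar t (C.R.α s) : F) hzU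
    rw [hm'] at h1
    have hm2 : m ∈ uniGroup C.R.wt (C.keyAbove (vecKey (C.R.α s))) (C.keyAbove_add _) :=
      C.Ucl_le_keyAbove (S := {r | D.IsPosRoot r ∧ s < r}) (fun r hr => hr.1)
        (fun r hr => C.R.key_lt hr.2 hr.1.1) hm
    obtain ⟨i, hi⟩ := C.exists_coroot_ne_zero (F := F) hs.1.1
    have e1 := C.entry_mul hs.1 (C.R.torusChar t (C.R.α s) : F) hm2 i
    have e0 := C.entry_mul hs.1 1 (one_mem _) i
    rw [mul_one, ← h1] at e0
    exact Units.ext (mul_left_cancel₀ hi (e1.symm.trans e0))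
  have hall : ∀ r, r < D.nroots → C.R.torusChar t (C.R.α r) = 1 := by
    obtain ⟨i, hi, hiJ⟩ := hJ
    intro r hr
    by_cases hin : D.InRootSub J r
    · have hα0 : C.R.α r ⟨i, hi⟩ = 0 := (C.hR.inRootSub_iff.1 hin).2 _ fun h => hiJ (mem_finSet.1 h)
      obtain ⟨s, k, hsp, hsi, hk⟩ := radCheck_spec hchk ⟨i, hi⟩ hr
        ((C.hR.coroot_zero_iff _ _ hr).2 hα0)
      obtain ⟨hkn, hαk⟩ := C.R.chainRoot_spec le_rfl hk
      have hαs : C.R.α s ⟨i, hi⟩ ≠ 0 := fun h => hsi ((C.hR.coroot_zero_iff _ _ hsp.1).2 h)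
      have hαs' : 0 ≤ C.R.α s ⟨i, hi⟩ := ((C.R.isPos_iff s).1 hsp).2 _
      have hki : C.R.α k ⟨i, hi⟩ = C.R.α s ⟨i, hi⟩ := by
        rw [hαk, Pi.add_apply, Pi.smul_apply, hα0, smul_zero, zero_add]
      have hnotin : ∀ m, C.R.α m ⟨i, hi⟩ ≠ 0 → ¬ D.InRootSub J m := fun m hm h =>
        hm ((C.hR.inRootSub_iff.1 h).2 _ fun h' => hiJ (mem_finSet.1 h'))
      have hkp : D.IsPosRoot k := (C.R.pos_or_neg hkn).resolve_right fun hneg => by
        have : C.R.α k ⟨i, hi⟩ ≤ 0 := ((C.R.isNeg_iff k).1 hneg).2 _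
        omega
      have h1 := hrad k ⟨hkp, hnotin k (by rw [hki]; exact hαs)⟩
      rw [hαk, Nat.cast_one, one_smul, C.R.torusChar_add, hrad s ⟨hsp, hnotin s hαs⟩, mul_one] at h1
      exact h1
    · rcases C.R.pos_or_neg hr with hp | hn
      · exact hrad r ⟨hp, hin⟩
      · have h1 := hrad (D.neg r) ⟨(C.R.isPos_neg_iff hr).2 hn, fun h => hin (by
          have := C.hR.inRootSub_neg h
          rwa [C.R.neg_neg r hr] at this)⟩
        rw [C.R.α_neg r hr, ← neg_one_zsmul, C.R.torusChar_zsmul, zpow_neg_one, inv_eq_one] at h1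
        exact h1
  have ht : C.R.torus t = 1 := by
    refine Units.ext ?_
    rw [C.R.coe_torus, Units.val_one, ← Matrix.diagonal_one]
    congr 1
    funext a
    rcases a with j | s
    · simp [C.R.torusChar_zero]
    · simp [hall s.val s.isLt]
  rw [ht, mul_one]
  exact hz

include C in
theorem isPGroup_radical [Fintype F] (p : ℕ) [Fact p.Prime] [CharP F p] :
    IsPGroup p (D.unipotentRadical F J) := by
  obtain ⟨n, -, hcard⟩ := FiniteField.card F p
  rw [C.radical_eq]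
  refine IsPGroup.of_card (n := (n : ℕ) * (C.radRoots J).ncard) ?_
  rw [C.card_Ucl (isClosed_radRoots C), hcard, pow_mul]

theorem radCheckG2 : radCheck chevG2 = true := by decide +kernel
theorem radCheckB2 : radCheck chevB2 = true := by decide +kernel
theorem radCheckD4 : radCheck chevD4 = true := by decide +kernel
theorem radCheckF4 : radCheck chevF4 = true := by decide +kernel
theorem radCheckE6 : radCheck chevE6 = true := by decide +kernel
theorem radCheckE7 : radCheck chevE7 = true := by decide +kernel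
theorem radCheckE8 : radCheck chevE8 = true := by decide +kernel

theorem radCheck_of_mem
    (hD : D ∈ [chevG2, chevB2, chevD4, chevF4, chevE6, chevE7, chevE8]) : radCheck D = true := by
  simp only [List.mem_cons, List.not_mem_nil, or_false] at hD
  rcases hD with rfl | rfl | rfl | rfl | rfl | rfl | rfl
  exacts [radCheckG2, radCheckB2, radCheckD4, radCheckF4, radCheckE6, radCheckE7, radCheckE8]

end CfsgLib.KnownSimple.ChevRadical
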