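import Cfsg.Agent.Lib.KnownSimple.EvenSubsetModule
import Cfsg.Agent.Lib.ClassicalGroups.OrthCard
import Cfsg.Agent.Classical.SLGen
import Cfsg.Agent.Classical.SLBasic

/-!
`O⁺_6(2) ≅ Sym 8` and `GL_4(2) ≅ Alt 8`.
-/

set_option autoImplicit false

namespace CfsgLib.KnownSimple.GLFourTwo

open Matrix

abbrev I6 := Fin 3 ⊕ Fin 3

abbrev O6 := ↥(Cfsg.isometryGroup (ZMod 2) (Cfsg.quadFormPlus 3 (ZMod 2)))

theorem card_O6 : Nat.card O6 = 40320 := by
  rw [CfsgLib.ClassicalGroups.card_isometry_plus (F := ZMod 2) 2, ZMod.card]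
  norm_num [Finset.prod_range_succ]

theorem exists_symEightEquiv : Nonempty (Equiv.Perm (Fin 8) ≃* O6) := by
  obtain ⟨φ, hφ⟩ := CfsgLib.KnownSimple.EvenSubsetModule.sym_embeds_plus (k := 1) le_rfl odd_one
  refine ⟨MulEquiv.ofBijective (show Equiv.Perm (Fin 8) →* O6 from φ) ?_⟩
  haveI : Finite O6 := Nat.finite_of_card_ne_zero (by rw [card_O6]; norm_num)
  refine Function.Injective.bijective_of_nat_card_le hφ ?_
  rw [Nat.card_eq_fintype_card (α := Equiv.Perm (Fin 8)), Fintype.card_perm, Fintype.card_fin]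
  exact (card_O6).trans_le (by decide)

/-- `Sym 8 ≅ O⁺_6(2)`. -/
noncomputable def symEightEquiv : Equiv.Perm (Fin 8) ≃* O6 := exists_symEightEquiv.some

section ext

variable {R : Type*} [CommRing R]

/-- Oriented pairs, complementary ones opposite. -/
def pairs : I6 → Fin 4 × Fin 4 := Sum.elim ![(0, 1), (0, 2), (0, 3)] ![(2, 3), (3, 1), (1, 2)]

/-- Second compound matrix. -/
def ext (A : Matrix (Fin 4) (Fin 4) R) : Matrix I6 I6 R :=
  Matrix.of fun a b => A (pairs a).1 (pairs b).1 * A (pairs a).2 (pairs b).2 -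
    A (pairs a).2 (pairs b).1 * A (pairs a).1 (pairs b).2

theorem ext_mul (A B : Matrix (Fin 4) (Fin 4) R) : ext (A * B) = ext A * ext B := by
  apply Matrix.ext
  intro a b
  rw [Matrix.mul_apply, Fintype.sum_sum_type]
  simp only [ext, Matrix.of_apply, Matrix.mul_apply, Fin.sum_univ_three, Fin.sum_univ_four, pairs,
    Sum.elim_inl, Sum.elim_inr, Matrix.cons_val_zero, Matrix.cons_val_one, Matrix.cons_val_two,
    Matrix.head_cons, Matrix.tail_cons, Matrix.cons_val]
  generalize (Sum.elim ![((0 : Fin 4), (1 : Fin 4)), (0, 2), (0, 3)] ![(2, 3), (3, 1), (1, 2)] a) = p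
  generalize (Sum.elim ![((0 : Fin 4), (1 : Fin 4)), (0, 2), (0, 3)] ![(2, 3), (3, 1), (1, 2)] b) = q
  ring

theorem ext_quadratic {F : Type*} [Field F] (A : Matrix (Fin 4) (Fin 4) F) (v : I6 → F) :
    Cfsg.quadFormPlus 3 F (ext A *ᵥ v) = A.det * Cfsg.quadFormPlus 3 F v := by
  rw [Matrix.det_succ_row_zero]
  simp only [Cfsg.quadFormPlus, Matrix.mulVec, dotProduct, Fintype.sum_sum_type, Fin.sum_univ_three,
    Fin.sum_univ_four, Matrix.det_fin_three, ext, Matrix.of_apply, pairs, Sum.elim_inl, Sum.elim_inr,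
    Matrix.cons_val_zero, Matrix.cons_val_one, Matrix.cons_val_two, Matrix.head_cons, Matrix.tail_cons,
    Matrix.cons_val, Matrix.submatrix_apply]
  norm_num [Fin.succAbove, Fin.ext_iff]
  simp [Fin.succ, Fin.castSucc, Fin.castAdd, Fin.castLE]
  ring

end ext

theorem ext_one : ext (1 : Matrix (Fin 4) (Fin 4) (ZMod 2)) = 1 := by decide +kernel

theorem det_GL_two {n : ℕ} (g : GL (Fin n) (ZMod 2)) : g.val.det = 1 := by
  have : g.val.det ≠ 0 := ((Matrix.isUnit_iff_isUnit_det _).1 g.isUnit).ne_zero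
  revert this
  generalize g.val.det = d
  revert d; decide

/-- The exterior square representation. -/
def extHom : GL (Fin 4) (ZMod 2) →* O6 :=
  (Units.map ({ toFun := ext, map_one' := ext_one, map_mul' := ext_mul } :
    Matrix (Fin 4) (Fin 4) (ZMod 2) →* Matrix I6 I6 (ZMod 2))).codRestrict _ fun g u _ => by
      show Cfsg.quadFormPlus 3 (ZMod 2) (ext g.val *ᵥ u) = _
      rw [ext_quadratic, det_GL_two, one_mul]

theorem isSimple_GL : IsSimpleGroup (GL (Fin 4) (ZMod 2)) := by
  haveI := Cfsg.Agent.Classical.psl_isSimpleGroup (F := ZMod 2) (ι := Fin 4) (by simp)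
  have hc : Subgroup.center (Matrix.SpecialLinearGroup (Fin 4) (ZMod 2)) = ⊥ := by
    rw [← Subgroup.card_eq_one, Cfsg.Agent.Classical.card_center_sl 4 (by norm_num), ZMod.card]
    norm_num
  have hbij : Function.Bijective
      (Matrix.SpecialLinearGroup.toGL : Matrix.SpecialLinearGroup (Fin 4) (ZMod 2) → GL (Fin 4) (ZMod 2)) :=
    ⟨Matrix.SpecialLinearGroup.toGL_injective, by
      intro g
      obtain ⟨s, hs⟩ : ∃ s : Matrix.SpecialLinearGroup (Fin 4) (ZMod 2), (s : Matrix _ _ (ZMod 2)) = g.val :=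
        ⟨⟨g.val, det_GL_two g⟩, rfl⟩
      exact ⟨s, Units.ext ((Matrix.SpecialLinearGroup.coe_GL_coe_matrix s).trans hs)⟩⟩
  let e : GL (Fin 4) (ZMod 2) ≃* Matrix.ProjectiveSpecialLinearGroup (Fin 4) (ZMod 2) :=
    (MulEquiv.ofBijective Matrix.SpecialLinearGroup.toGL hbij).symm.trans
      (QuotientGroup.quotientBot.symm.trans (QuotientGroup.quotientMulEquivOfEq hc.symm))
  exact e.isSimpleGroup

theorem extHom_injective : Function.Injective extHom := by
  rw [← MonoidHom.ker_eq_bot_iff]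
  haveI := isSimple_GL
  rcases IsSimpleGroup.eq_bot_or_eq_top_of_normal extHom.ker inferInstance with h | h
  · exact h
  · exfalso
    let t : GL (Fin 4) (ZMod 2) :=
      ⟨!![1, 1, 0, 0; 0, 1, 0, 0; 0, 0, 1, 0; 0, 0, 0, 1], !![1, 1, 0, 0; 0, 1, 0, 0; 0, 0, 1, 0; 0, 0, 0, 1],
        by decide +kernel, by decide +kernel⟩
    have ht : t ∈ extHom.ker := h ▸ Subgroup.mem_top t
    have h1 : ext t.val = 1 := congrArg (fun g : O6 => g.1.val) (MonoidHom.mem_ker.1 ht)
    revert h1
    decide +kernel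

theorem card_GL : Nat.card (GL (Fin 4) (ZMod 2)) = 20160 := by
  rw [Matrix.card_GL_field, ZMod.card]
  decide

/-- `GL_4(2)` into `Sym 8`. -/
noncomputable def toSymEight : GL (Fin 4) (ZMod 2) →* Equiv.Perm (Fin 8) :=
  symEightEquiv.symm.toMonoidHom.comp extHom

theorem toSymEight_range : toSymEight.range = alternatingGroup (Fin 8) := by
  refine Equiv.Perm.eq_alternatingGroup_of_index_eq_two ?_
  have hinj : Function.Injective toSymEight := symEightEquiv.symm.injective.comp extHom_injective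
  have h := toSymEight.range.card_mul_index
  rw [← Nat.card_congr (MonoidHom.ofInjective hinj).toEquiv, card_GL,
    Nat.card_eq_fintype_card (α := Equiv.Perm (Fin 8)), Fintype.card_perm, Fintype.card_fin,
    show Nat.factorial 8 = 20160 * 2 by decide] at h
  exact Nat.eq_of_mul_eq_mul_left (by norm_num) h

/-- `GL_4(2) ≅ Alt 8`. -/
noncomputable def glFourTwoEquivAlt : GL (Fin 4) (ZMod 2) ≃* alternatingGroup (Fin 8) :=
  (MonoidHom.ofInjective (f := toSymEight) (symEightEquiv.symm.injective.comp extHom_injective)).trans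
    (MulEquiv.subgroupCongr toSymEight_range)

end CfsgLib.KnownSimple.GLFourTwo
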