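import Cfsg.Prelude.Def_Classical

/-!
Quadratic forms over `ZMod 2` with the polarization of `quadFormPlus m`: Gauss sums, types.
-/

set_option autoImplicit false

namespace CfsgLib.KnownSimple.QuadTwo

open Cfsg

abbrev V (m : ℕ) := Fin m ⊕ Fin m → ZMod 2

abbrev W (k : ℕ) := (Fin k ⊕ Fin k) ⊕ Fin 2 → ZMod 2

abbrev Q (m : ℕ) : V m → ZMod 2 := quadFormPlus m (ZMod 2)

/-- The polar form of `quadFormPlus m`. -/
def B (m : ℕ) : V m →ₗ[ZMod 2] V m →ₗ[ZMod 2] ZMod 2 :=
  LinearMap.mk₂ (ZMod 2)
    (fun u v => ∑ i, (u (.inl i) * v (.inr i) + u (.inr i) * v (.inl i)))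
    (by intros; simp [← Finset.sum_add_distrib]; congr 1; ext i; ring)
    (by intros; simp [Finset.mul_sum]; congr 1; ext i; ring)
    (by intros; simp [← Finset.sum_add_distrib]; congr 1; ext i; ring)
    (by intros; simp [Finset.mul_sum]; congr 1; ext i; ring)

theorem zsub (a b : ZMod 2) : a - b = a + b := CharTwo.sub_eq_add a b

theorem zeq_one {a : ZMod 2} (h : a ≠ 0) : a = 1 := by
  revert a; decide

theorem zself (a : ZMod 2) : a * a = a := by revert a; decide

theorem zadd (a : ZMod 2) : a + a = 0 := CharTwo.add_self_eq_zero a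

theorem B_apply {m : ℕ} (u v : V m) :
    B m u v = ∑ i, (u (.inl i) * v (.inr i) + u (.inr i) * v (.inl i)) := rfl

theorem Q_add {m : ℕ} (u v : V m) : Q m (u + v) = Q m u + Q m v + B m u v := by
  simp only [quadFormPlus, B_apply, Pi.add_apply, ← Finset.sum_add_distrib]
  exact Finset.sum_congr rfl fun i _ => by ring

theorem polar_eq {m : ℕ} (u v : V m) : Q m (u + v) - Q m u - Q m v = B m u v := by
  rw [Q_add]; ring

theorem Q_smul {m : ℕ} (c : ZMod 2) (v : V m) : Q m (c • v) = c * Q m v := by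
  simp only [quadFormPlus, Pi.smul_apply, smul_eq_mul, Finset.mul_sum]
  exact Finset.sum_congr rfl fun i _ => by linear_combination (v (.inl i) * v (.inr i)) * zself c

theorem B_comm {m : ℕ} (u v : V m) : B m u v = B m v u := by
  simp only [B_apply]
  exact Finset.sum_congr rfl fun i _ => by ring

theorem B_self {m : ℕ} (u : V m) : B m u u = 0 := by
  rw [B_apply]
  exact Finset.sum_eq_zero fun i _ => by rw [mul_comm (u (.inr i))]; exact zadd _

/-- The vector representing a linear functional with respect to `B`. -/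
def rep {m : ℕ} (φ : V m →ₗ[ZMod 2] ZMod 2) : V m :=
  Sum.elim (fun i => φ (Pi.single (.inr i) 1)) (fun i => φ (Pi.single (.inl i) 1))

theorem B_rep {m : ℕ} (φ : V m →ₗ[ZMod 2] ZMod 2) (v : V m) : B m v (rep φ) = φ v := by
  conv_rhs => rw [pi_eq_sum_univ' v, map_sum, Fintype.sum_sum_type]
  simp [B_apply, rep, Finset.sum_add_distrib, Pi.single, Function.update_apply, eq_comm]

theorem B_ext {m : ℕ} {w w' : V m} (h : ∀ v, B m v w = B m v w') : w = w' := by
  funext j
  cases j with
  | inl i => simpa [B_apply, Pi.single_apply] using h (Pi.single (.inr i) 1)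
  | inr i => simpa [B_apply, Pi.single_apply] using h (Pi.single (.inl i) 1)

/-- `q` has the polarization of `quadFormPlus m`. -/
abbrev HasPolar {m : ℕ} (q : V m → ZMod 2) : Prop :=
  ∀ u v, q (u + v) = q u + q v + (Q m (u + v) - Q m u - Q m v)

theorem HasPolar.add' {m : ℕ} {q : V m → ZMod 2} (hq : HasPolar q) (u v : V m) :
    q (u + v) = q u + q v + B m u v := by
  rw [hq, polar_eq]

theorem HasPolar.smul {m : ℕ} {q : V m → ZMod 2} (hq : HasPolar q) (c : ZMod 2) (v : V m) :
    q (c • v) = c * q v := by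
  have h0 : q 0 = 0 := by
    have := hq.add' (0 : V m) 0
    simpa [zadd] using this
  by_cases h : c = 0
  · subst h; simp [h0]
  · rw [zeq_one h]; simp

theorem hasPolar_shift {m : ℕ} (w : V m) : HasPolar (fun v => Q m v + B m v w) := by
  intro u v
  rw [polar_eq]
  simp only [Q_add, map_add, LinearMap.add_apply]
  ring

theorem HasPolar.exists_shift {m : ℕ} {q : V m → ZMod 2} (hq : HasPolar q) :
    ∃ w : V m, q = fun v => Q m v + B m v w := by
  let φ : V m →ₗ[ZMod 2] ZMod 2 :=
    { toFun := fun v => q v + Q m v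
      map_add' := fun u v => by
        rw [hq.add', Q_add]
        linear_combination zadd (B m u v)
      map_smul' := fun c v => by
        rw [hq.smul, Q_smul, RingHom.id_apply, smul_eq_mul, mul_add] }
  refine ⟨rep φ, funext fun v => ?_⟩
  rw [B_rep]
  show q v = Q m v + (q v + Q m v)
  linear_combination -(zadd (Q m v))

/-- The bijection between vectors and forms with the given polarization. -/
noncomputable def shiftEquiv (m : ℕ) : V m ≃ {q : V m → ZMod 2 // HasPolar q} :=
  Equiv.ofBijective (fun w => ⟨_, hasPolar_shift w⟩)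
    ⟨fun w w' h => B_ext fun v => by simpa using congrFun (Subtype.ext_iff.1 h) v,
      fun ⟨q, hq⟩ => by
        obtain ⟨w, rfl⟩ := hq.exists_shift
        exact ⟨w, rfl⟩⟩

/-- The nontrivial additive character of `ZMod 2`. -/
def chi (x : ZMod 2) : ℤ := if x = 0 then 1 else -1

theorem chi_add (x y : ZMod 2) : chi (x + y) = chi x * chi y := by revert x y; decide

theorem chi_sum {ι : Type*} (s : Finset ι) (f : ι → ZMod 2) :
    chi (∑ i ∈ s, f i) = ∏ i ∈ s, chi (f i) := by
  classical
  induction s using Finset.induction with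
  | empty => simp [chi]
  | insert a s ha ih => rw [Finset.sum_insert ha, Finset.prod_insert ha, chi_add, ih]

/-- The Gauss sum. -/
def gauss {X : Type*} [Fintype X] (q : X → ZMod 2) : ℤ := ∑ v, chi (q v)

theorem gauss_equiv {X Y : Type*} [Fintype X] [Fintype Y] {q : X → ZMod 2} {q' : Y → ZMod 2}
    (g : X ≃ Y) (h : ∀ v, q v = q' (g v)) : gauss q = gauss q' :=
  Fintype.sum_equiv g _ _ fun v => by rw [h]

theorem gauss_Q (m : ℕ) : gauss (Q m) = 2 ^ m := by
  let e : V m ≃ (Fin m → ZMod 2 × ZMod 2) :=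
    (Equiv.sumArrowEquivProdArrow _ _ _).trans (Equiv.arrowProdEquivProdArrow _ _ _).symm
  refine (gauss_equiv e (q' := fun f => ∑ i, (f i).1 * (f i).2) (fun v => rfl)).trans ?_
  rw [gauss]
  simp only [chi_sum]
  rw [← Fintype.prod_sum (fun _ : Fin m => fun p : ZMod 2 × ZMod 2 => chi (p.1 * p.2))]
  have : (∑ p : ZMod 2 × ZMod 2, chi (p.1 * p.2)) = 2 := by decide
  simp [this]

theorem chi_Q_add {m : ℕ} (v w : V m) : chi (Q m v + B m v w) = chi (Q m w) * chi (Q m (v + w)) := by
  rw [← chi_add, Q_add]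
  congr 1
  linear_combination -(zadd (Q m w))

theorem gauss_shift {m : ℕ} (w : V m) :
    gauss (fun v => Q m v + B m v w) = chi (Q m w) * 2 ^ m := by
  rw [← gauss_Q m, gauss, gauss, Finset.mul_sum]
  exact Fintype.sum_equiv (Equiv.addRight w) _ _ fun v => chi_Q_add v w

theorem gauss_minus (k : ℕ) :
    gauss (quadFormMinus k (ZMod 2) 1 1) = - (2 ^ (k + 1)) := by
  refine (gauss_equiv (Equiv.sumArrowEquivProdArrow _ _ _)
    (q' := fun p : V k × (Fin 2 → ZMod 2) =>
      Q k p.1 + (p.2 0 ^ 2 + 1 * p.2 0 * p.2 1 + 1 * p.2 1 ^ 2)) (fun v => rfl)).trans ?_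
  rw [gauss, Fintype.sum_prod_type]
  simp only [chi_add, ← Finset.mul_sum]
  rw [← Finset.sum_mul]
  have h : (∑ z : Fin 2 → ZMod 2,
      chi (z 0 ^ 2) * chi (1 * z 0 * z 1) * chi (1 * z 1 ^ 2)) = -2 := by decide
  rw [h]
  have := gauss_Q k
  rw [gauss] at this
  rw [this, pow_succ]
  ring

/-- The transvection `v ↦ v + B(v,w) w`. -/
def transvection {m : ℕ} (w : V m) : V m ≃ₗ[ZMod 2] V m :=
  LinearEquiv.ofInvolutive (LinearMap.id + ((B m).flip w).smulRight w) fun v => by
    ext j
    simp [B_self]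
    linear_combination zadd (B m v w * w j)

theorem transvection_apply {m : ℕ} (w v : V m) : transvection w v = v + B m v w • w := rfl

theorem shift_equiv_of_singular {m : ℕ} {q : V m → ZMod 2} (hq : HasPolar q) {w : V m}
    (hw : q w = 0) (v : V m) : q v + B m v w = q (transvection w v) := by
  rw [transvection_apply, hq.add', hq.smul, hw, map_smul, smul_eq_mul, zself]
  ring

/-- Siegel transformation. -/
theorem exists_isometry_move {m : ℕ} (e r : V m) (he : Q m e = 0) (hr : Q m r = 0)
    (her : B m e r = 0) :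
    ∃ T : V m ≃ₗ[ZMod 2] V m, (∀ v, T v = v + (B m v r • e + B m v e • r)) ∧
      ∀ v, Q m (T v) = Q m v := by
  have hre : B m r e = 0 := by rw [B_comm, her]
  refine ⟨LinearEquiv.ofInvolutive
    (LinearMap.id + (((B m).flip r).smulRight e + ((B m).flip e).smulRight r)) ?_, fun v => rfl, ?_⟩
  · intro v
    ext j
    simp [B_self, her, hre]
    linear_combination zadd (B m v r * e j) + zadd (B m v e * r j)
  · intro v
    show Q m (v + (B m v r • e + B m v e • r)) = Q m v
    simp only [Q_add, Q_smul, he, hr, map_add, map_smul, LinearMap.smul_apply, smul_eq_mul, her]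
    linear_combination zadd (B m v r * B m v e)

theorem shift_equiv_of_nonsingular (k : ℕ) {w : V (k + 1)} (hw : Q (k + 1) w = 1) :
    ∃ g : V (k + 1) ≃ₗ[ZMod 2] W k,
      ∀ v, Q (k + 1) v + B (k + 1) v w = quadFormMinus k (ZMod 2) 1 1 (g v) := by
  obtain ⟨i, hi⟩ : ∃ i, w (.inl i) * w (.inr i) ≠ 0 := by
    by_contra h
    push Not at h
    rw [show Q (k + 1) w = 0 from Finset.sum_eq_zero fun i _ => h i] at hw
    exact zero_ne_one hw
  have hx : w (.inl i) = 1 := zeq_one (left_ne_zero_of_mul hi)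
  have hy : w (.inr i) = 1 := zeq_one (right_ne_zero_of_mul hi)
  set e : V (k + 1) := Pi.single (.inl i) 1 with he
  set f : V (k + 1) := Pi.single (.inr i) 1 with hf
  have hB : ∀ v, B (k + 1) v e = v (.inr i) ∧ B (k + 1) v f = v (.inl i) := fun v => by
    simp [B_apply, he, hf, Pi.single_apply]
  have hBef : B (k + 1) e f = 1 := by rw [(hB e).2]; simp [he]
  have hQe : Q (k + 1) e = 0 := by simp [quadFormPlus, he, Pi.single_apply]
  have hQf : Q (k + 1) f = 0 := by simp [quadFormPlus, hf, Pi.single_apply]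
  set r : V (k + 1) := w + (e + f) with hr
  have hQr : Q (k + 1) r = 0 := by
    rw [hr, Q_add, hw, Q_add, hQe, hQf, hBef, map_add, (hB w).1, (hB w).2, hx, hy]
    decide
  have her : B (k + 1) e r = 0 := by
    rw [hr, map_add, map_add, B_self, hBef, B_comm, (hB w).1, hy]
    decide
  obtain ⟨T, hT, hTQ⟩ := exists_isometry_move e r hQe hQr her
  have hBT : ∀ u v, B (k + 1) (T u) (T v) = B (k + 1) u v := fun u v => by
    have := hTQ (u + v)
    rw [map_add, Q_add, Q_add, hTQ, hTQ] at this
    exact add_left_cancel this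
  have hTw : T (e + f) = w := by
    have h1 : B (k + 1) (e + f) r = 0 := by
      rw [hr, map_add, B_self, add_zero, map_add, LinearMap.add_apply, B_comm e w, B_comm f w,
        (hB w).1, (hB w).2, hx, hy]
      decide
    have h2 : B (k + 1) (e + f) e = 1 := by
      rw [(hB _).1]; simp [he, hf]
    rw [hT, h1, h2, zero_smul, one_smul, zero_add, hr, ← add_assoc, add_comm (e + f) w, add_assoc,
      ZModModule.add_self, add_zero]
  let σ : (Fin k ⊕ Fin k) ⊕ Fin 2 → Fin (k + 1) ⊕ Fin (k + 1) :=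
    Sum.elim (Sum.map i.succAbove i.succAbove) ![.inl i, .inr i]
  have hσ : Function.Bijective σ := by
    rw [Fintype.bijective_iff_injective_and_card]
    refine ⟨?_, by simp; omega⟩
    rintro ((a | a) | a) ((b | b) | b) h <;>
      first
      | (fin_cases a <;> fin_cases b <;>
          simp [σ, (i.succAbove_ne _).symm, Fin.succAbove_ne] at h ⊢)
      | (fin_cases a <;> simp [σ, (i.succAbove_ne b).symm, Fin.succAbove_ne] at h ⊢)
      | (fin_cases b <;> simp [σ, (i.succAbove_ne a).symm, Fin.succAbove_ne] at h ⊢)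
      | simpa [σ] using h
  refine ⟨T.symm ≪≫ₗ LinearEquiv.funCongrLeft (ZMod 2) (ZMod 2) (Equiv.ofBijective σ hσ), fun v => ?_⟩
  obtain ⟨u, rfl⟩ := T.surjective v
  rw [LinearEquiv.trans_apply, LinearEquiv.symm_apply_apply, hTQ, ← hTw, hBT, map_add, (hB u).1,
    (hB u).2]
  simp only [quadFormPlus, quadFormMinus, LinearEquiv.funCongrLeft_apply, LinearMap.funLeft_apply,
    Equiv.ofBijective_apply, σ, Sum.elim_inl, Sum.elim_inr, Sum.map_inl, Sum.map_inr,
    Matrix.cons_val_zero, Matrix.cons_val_one]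
  rw [Fin.sum_univ_succAbove _ i]
  generalize u (.inl i) = a, u (.inr i) = b, (∑ j, u (.inl (i.succAbove j)) * u (.inr (i.succAbove j))) = s
  revert a b s
  decide

theorem card_zeros (m : ℕ) (hm : 1 ≤ m) :
    Nat.card {w : V m // Q m w = 0} = 2 ^ (2 * m - 1) + 2 ^ (m - 1) ∧
    Nat.card {w : V m // Q m w ≠ 0} = 2 ^ (2 * m - 1) - 2 ^ (m - 1) := by
  obtain ⟨k, rfl⟩ : ∃ k, m = k + 1 := ⟨m - 1, by omega⟩
  set a := (Finset.univ.filter fun w : V (k + 1) => Q (k + 1) w = 0).card with ha
  set b := (Finset.univ.filter fun w : V (k + 1) => ¬ Q (k + 1) w = 0).card with hb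
  have h1 : a + b = 2 ^ (2 * (k + 1)) := by
    rw [ha, hb, Finset.card_filter_add_card_filter_not, Finset.card_univ]
    simp [two_mul]
  have h2 : (a : ℤ) - b = 2 ^ (k + 1) := by
    rw [← gauss_Q (k + 1), gauss]
    simp only [chi, Finset.sum_ite, Finset.sum_const, ← ha, ← hb]
    ring
  rw [Nat.card_eq_fintype_card, Nat.card_eq_fintype_card, Fintype.card_subtype,
    Fintype.card_subtype, show 2 * (k + 1) - 1 = 2 * k + 1 by omega,
    show k + 1 - 1 = k by omega]
  change a = _ ∧ b = _
  rw [show 2 * (k + 1) = (2 * k + 1) + 1 by ring, pow_succ (n := 2 * k + 1)] at h1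
  have h2' : a = b + 2 ^ (k + 1) := by
    have : (a : ℤ) = ((b + 2 ^ (k + 1) : ℕ) : ℤ) := by push_cast; linarith
    exact_mod_cast this
  rw [pow_succ (n := k)] at h2'
  omega

theorem singular_subspace_bound {m : ℕ} {q : V m → ZMod 2} (hq : HasPolar q)
    {U : Submodule (ZMod 2) (V m)} (hU : ∀ u ∈ U, q u = 0) :
    2 * Module.finrank (ZMod 2) U ≤ 2 * m ∧
      (m ≤ Module.finrank (ZMod 2) U → 0 < gauss q) := by
  classical
  let ψ : V m →ₗ[ZMod 2] (U →ₗ[ZMod 2] ZMod 2) := (B m).compl₂ U.subtype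
  have hsurj : LinearMap.range ψ = ⊤ := LinearMap.range_eq_top.2 fun φ => by
    obtain ⟨Φ, hΦ⟩ := LinearMap.exists_extend φ
    refine ⟨rep Φ, LinearMap.ext fun u => ?_⟩
    show B m (rep Φ) (u : V m) = φ u
    rw [B_comm, B_rep, ← hΦ]
    rfl
  have hle : U ≤ LinearMap.ker ψ := fun u hu => LinearMap.mem_ker.2 <| LinearMap.ext fun u' => by
    show B m u (u' : V m) = 0
    have := hq.add' u (u' : V m)
    rw [hU _ (U.add_mem hu u'.2), hU _ hu, hU _ u'.2] at this
    simpa using this.symm
  have hrank := LinearMap.finrank_range_add_finrank_ker ψ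
  rw [hsurj, finrank_top, Module.finrank_linearMap, Module.finrank_self, mul_one,
    Module.finrank_fintype_fun_eq_card, Fintype.card_sum, Fintype.card_fin] at hrank
  have h2 := Submodule.finrank_mono hle
  refine ⟨by omega, fun hge => ?_⟩
  have heq : U = LinearMap.ker ψ := Submodule.eq_of_le_of_finrank_eq hle (by omega)
  have key : ∀ v : V m, (∑ u : U, chi (q (v + u))) = if v ∈ U then (Fintype.card U : ℤ) else 0 := by
    intro v
    have h1 : ∀ u : U, chi (q (v + u)) = chi (q v) * chi (ψ v u) := fun u => by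
      rw [hq.add', hU _ u.2, add_zero, chi_add]; rfl
    simp only [h1, ← Finset.mul_sum]
    split_ifs with hv
    · have : ψ v = 0 := LinearMap.mem_ker.1 (hle hv)
      simp [this, chi, hU v hv]
    · have hne : ψ v ≠ 0 := fun h => hv (heq ▸ LinearMap.mem_ker.2 h)
      obtain ⟨u₀, hu₀⟩ : ∃ u₀, ψ v u₀ ≠ 0 := by
        by_contra hc
        push Not at hc
        exact hne (LinearMap.ext hc)
      have hsum : (∑ u : U, chi (ψ v u)) = -(∑ u : U, chi (ψ v u)) := by
        rw [← Finset.sum_neg_distrib]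
        refine Fintype.sum_equiv (Equiv.addRight u₀) _ _ fun u => ?_
        rw [Equiv.coe_addRight, map_add, chi_add, zeq_one hu₀]
        simp [chi]
      have : (∑ u : U, chi (ψ v u)) = 0 := by omega
      rw [this, mul_zero]
  have htot : (Fintype.card U : ℤ) * gauss q = (Fintype.card U : ℤ) * Fintype.card U := by
    have h : ∀ u : U, gauss q = ∑ v, chi (q (v + u)) := fun u =>
      gauss_equiv (Equiv.addRight (u : V m)).symm (q' := fun v => q (v + u)) (fun v => by simp)
    calc (Fintype.card U : ℤ) * gauss q = ∑ _u : U, gauss q := by simp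
      _ = ∑ u : U, ∑ v, chi (q (v + u)) := Finset.sum_congr rfl fun u _ => h u
      _ = ∑ v, if v ∈ U then (Fintype.card U : ℤ) else 0 := by
          rw [Finset.sum_comm]; exact Finset.sum_congr rfl fun v _ => key v
      _ = _ := by
          rw [← Finset.sum_filter, Finset.sum_const, ← Fintype.card_subtype, nsmul_eq_mul]
  have hpos : (0 : ℤ) < Fintype.card U := by exact_mod_cast Fintype.card_pos
  rw [mul_left_cancel₀ hpos.ne' htot]
  exact hpos

end CfsgLib.KnownSimple.QuadTwo
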