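import Cfsg.Agent.Lib.KnownSimple.ChevCentList

set_option autoImplicit false
set_option linter.unusedSectionVars false

/-!
Centralisers of the four classes of involutions of `F₄` in characteristic two.
-/

namespace CfsgLib.KnownSimple.RootCent.F4

open Cfsg.Lie CfsgLib.ChevStr
open scoped MatrixGroups

/-- The long roots. -/
def isLong (r : ℕ) : Bool :=
  decide (r ∈ [0, 1, 2, 4, 5, 6, 15, 16, 17, 21, 22, 23, 24, 25, 26, 30, 31, 32, 41, 42, 43, 45, 46, 47])

/-- A functional from its four values. -/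
def lam4 (a b c d : ℤ) : Fin chevF4.rank → ℤ := fun i =>
  if i.val = 0 then a else if i.val = 1 then b else if i.val = 2 then c else d

/-- The level of a root. -/
def lev (lam : Fin chevF4.rank → ℤ) (r : ℕ) : ℤ := ∑ i, lam i * rootDataF4.α r i

theorem cl_check : ∀ (i : Fin chevF4.rank) r, r < chevF4.nroots →
    isLong (chevF4.reflectRoot i.val r) = isLong r := by decide +kernel

theorem gapT : ∀ r ∈ [47], ∀ k, k < chevF4.nroots →
    rootDataF4.α k ⟨3, by decide⟩ < 2 * rootDataF4.α r ⟨3, by decide⟩ := by decide +kernel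

theorem gapU : ∀ r ∈ [44], ∀ k, k < chevF4.nroots →
    rootDataF4.α k ⟨0, by decide⟩ < 2 * rootDataF4.α r ⟨0, by decide⟩ := by decide +kernel

theorem gapW : ∀ r ∈ [44, 47], ∀ k, k < chevF4.nroots →
    rootDataF4.α k ⟨1, by decide⟩ < 2 * rootDataF4.α r ⟨1, by decide⟩ := by decide +kernel

theorem gapV : ∀ r ∈ [39, 40, 44, 45, 46, 47], ∀ k, k < chevF4.nroots →
    rootDataF4.α k ⟨2, by decide⟩ < 2 * rootDataF4.α r ⟨2, by decide⟩ := by decide +kernel

theorem dualT : ∀ i, (∑ r : Fin chevF4.nroots, lev (lam4 0 0 0 1) r * rootDataF4.α r i) =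
    18 * ([47].map fun e => 1 * rootDataF4.α e i).sum := by decide +kernel

theorem dualU : ∀ i, (∑ r : Fin chevF4.nroots, lev (lam4 1 0 0 0) r * rootDataF4.α r i) =
    36 * ([44].map fun e => 1 * rootDataF4.α e i).sum := by decide +kernel

theorem dualW : ∀ i, (∑ r : Fin chevF4.nroots, lev (lam4 1 0 0 1) r * rootDataF4.α r i) =
    18 * ([44, 47].map fun e => (if e = 44 then 2 else 1) * rootDataF4.α e i).sum := by decide +kernel

theorem dualV : ∀ i, (∑ r : Fin chevF4.nroots, lev (lam4 0 1 2 0) r * rootDataF4.α r i) =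
    36 * ([39, 45].map fun e => (if e = 39 then 3 else 2) * rootDataF4.α e i).sum := by decide +kernel

theorem raiseW : ∀ e ∈ [44, 47], ∀ k ∈ [44, 47], isLong k = isLong e →
    lev (lam4 1 0 0 1) e ≤ lev (lam4 1 0 0 1) k := by decide +kernel

theorem raiseV : ∀ e ∈ [39, 45], ∀ k ∈ [39, 40, 44, 45, 46, 47], isLong k = isLong e →
    lev (lam4 0 1 2 0) e ≤ lev (lam4 0 1 2 0) k := by decide +kernel

/-- The roots of the radical of the parabolic of `x₃₉ x₄₅`. -/
def radV : List ℕ :=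
  [25, 26, 27, 28, 29, 30, 31, 32, 34, 35, 36, 37, 38, 39, 40, 41, 42, 43, 44, 45, 46, 47]

/-- The roots of the answer for `x₃₉ x₄₅`. -/
def listV : List ℕ :=
  [33, 14, 24, 23, 28, 29, 30, 31, 32, 35, 36, 37, 38, 39, 40, 41, 42, 43, 44, 45, 46, 47]

/-- The normal part of the radical for `x₃₉ x₄₅`. -/
def coreV : List ℕ :=
  [28, 29, 30, 31, 32, 35, 36, 37, 38, 39, 40, 41, 42, 43, 44, 45, 46, 47]

theorem radV_iff : ∀ r, r < chevF4.nroots → (r ∈ radV ↔ chevF4.IsPosRoot r ∧
    ∃ i : Fin chevF4.rank, lam4 0 1 2 0 i ≠ 0 ∧ rootDataF4.α r i ≠ 0) := by decide +kernel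

theorem radV_lt : ∀ r ∈ radV, r < chevF4.nroots := by decide +kernel

variable {F : Type*} [Field F] [CharP F 2]

/-- The data of the long root involution. -/
noncomputable def dataT : CentData (coreF4 F) 2 where
  S := [47]
  supp := [47]
  lam := lam4 0 0 0 1
  cw := fun _ => 1
  cl := isLong
  κ := 18
  S_pos := by decide +kernel
  supp_mem := fun e he => he
  gap := ⟨⟨3, by decide⟩, gapT⟩
  norm := by decide +kernel
  normX := by decide +kernel
  cl_refl := cl_check
  lam_nonneg := by decide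
  cw_nonneg := fun _ _ => zero_le_one
  κ_pos := by norm_num
  raise := fun e he k hk _ => by
    simp only [List.mem_cons, List.not_mem_nil, or_false] at he hk
    subst he hk
    exact le_rfl
  dual := dualT

/-- The data of the short root involution. -/
noncomputable def dataU : CentData (coreF4 F) 2 where
  S := [44]
  supp := [44]
  lam := lam4 1 0 0 0
  cw := fun _ => 1
  cl := isLong
  κ := 36
  S_pos := by decide +kernel
  supp_mem := fun e he => he
  gap := ⟨⟨0, by decide⟩, gapU⟩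
  norm := by decide +kernel
  normX := by decide +kernel
  cl_refl := cl_check
  lam_nonneg := by decide
  cw_nonneg := fun _ _ => zero_le_one
  κ_pos := by norm_num
  raise := fun e he k hk _ => by
    simp only [List.mem_cons, List.not_mem_nil, or_false] at he hk
    subst he hk
    exact le_rfl
  dual := dualU

/-- The data of the product of the highest long and short root elements. -/
noncomputable def dataW : CentData (coreF4 F) 2 where
  S := [44, 47]
  supp := [44, 47]
  lam := lam4 1 0 0 1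
  cw := fun e => if e = 44 then 2 else 1
  cl := isLong
  κ := 18
  S_pos := by decide +kernel
  supp_mem := fun e he => he
  gap := ⟨⟨1, by decide⟩, gapW⟩
  norm := by decide +kernel
  normX := by decide +kernel
  cl_refl := cl_check
  lam_nonneg := by decide
  cw_nonneg := by decide
  κ_pos := by norm_num
  raise := raiseW
  dual := dualW

/-- The data of `x₃₉ x₄₅`. -/
noncomputable def dataV : CentData (coreF4 F) 2 where
  S := [39, 40, 44, 45, 46, 47]
  supp := [39, 45]
  lam := lam4 0 1 2 0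
  cw := fun e => if e = 39 then 3 else 2
  cl := isLong
  κ := 36
  S_pos := by decide +kernel
  supp_mem := by decide +kernel
  gap := ⟨⟨2, by decide⟩, gapV⟩
  norm := by decide +kernel
  normX := by decide +kernel
  cl_refl := cl_check
  lam_nonneg := by decide
  cw_nonneg := by decide
  κ_pos := by norm_num
  raise := raiseV
  dual := dualV

theorem leadT : (dataT (F := F)).IsLead ((coreF4 F).xGL 47 1) :=
  ⟨(coreF4 F).xGL_mem_Ucl (S := {k | k ∈ [47]}) (List.mem_singleton.2 rfl) 1, fun e he => by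
    obtain rfl : e = 47 := List.mem_singleton.1 he
    rw [inv_mul_cancel]
    exact one_mem _⟩

theorem leadU : (dataU (F := F)).IsLead ((coreF4 F).xGL 44 1) :=
  ⟨(coreF4 F).xGL_mem_Ucl (S := {k | k ∈ [44]}) (List.mem_singleton.2 rfl) 1, fun e he => by
    obtain rfl : e = 44 := List.mem_singleton.1 he
    rw [inv_mul_cancel]
    exact one_mem _⟩

theorem mem_pair (a b : ℕ) (s t : F) :
    (coreF4 F).xGL a s * (coreF4 F).xGL b t ∈ UL (coreF4 F) [a, b] :=
  mul_mem ((coreF4 F).xGL_mem_Ucl (S := {k | k ∈ [a, b]}) (List.mem_cons_self ..) s)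
    ((coreF4 F).xGL_mem_Ucl (S := {k | k ∈ [a, b]}) (List.mem_cons_of_mem _ (List.mem_cons_self ..)) t)

theorem commute_pair {a b : ℕ} (h : commCheck chevF4 2 [a] [b] = true) (s t : F) :
    Commute ((coreF4 F).xGL a s) ((coreF4 F).xGL b t) :=
  commute_of_commCheck _ 2 h (List.mem_singleton.2 rfl) (List.mem_singleton.2 rfl) s t

theorem leadW : (dataW (F := F)).IsLead ((coreF4 F).xGL 47 1 * (coreF4 F).xGL 44 1) := by
  have hc := commute_pair (F := F) (a := 47) (b := 44) (by decide +kernel) 1 1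
  refine ⟨by rw [hc.eq]; exact mem_pair 44 47 1 1, fun e he => ?_⟩
  have he' : e = 44 ∨ e = 47 := by
    have : e ∈ [44, 47] := he
    simpa using this
  rcases he' with rfl | rfl
  · rw [hc.eq, inv_mul_cancel_left]
    exact (coreF4 F).xGL_mem_Ucl (S := {k | k ∈ [44, 47].filter fun s => s != 44}) (by decide) 1
  · rw [inv_mul_cancel_left]
    exact (coreF4 F).xGL_mem_Ucl (S := {k | k ∈ [44, 47].filter fun s => s != 47}) (by decide) 1

theorem leadV : (dataV (F := F)).IsLead ((coreF4 F).xGL 39 1 * (coreF4 F).xGL 45 1) := by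
  have hc := commute_pair (F := F) (a := 39) (b := 45) (by decide +kernel) 1 1
  refine ⟨mul_mem ((coreF4 F).xGL_mem_Ucl (S := {k | k ∈ [39, 40, 44, 45, 46, 47]}) (by decide) 1)
    ((coreF4 F).xGL_mem_Ucl (S := {k | k ∈ [39, 40, 44, 45, 46, 47]}) (by decide) 1), fun e he => ?_⟩
  have he' : e = 39 ∨ e = 45 := by
    have : e ∈ [39, 45] := he
    simpa using this
  rcases he' with rfl | rfl
  · rw [inv_mul_cancel_left]
    exact (coreF4 F).xGL_mem_Ucl
      (S := {k | k ∈ [39, 40, 44, 45, 46, 47].filter fun s => s != 39}) (by decide) 1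
  · rw [hc.eq, inv_mul_cancel_left]
    exact (coreF4 F).xGL_mem_Ucl
      (S := {k | k ∈ [39, 40, 44, 45, 46, 47].filter fun s => s != 45}) (by decide) 1

theorem radical_le_pos (J : Set ℕ) {L : List ℕ}
    (h : ∀ r, r < chevF4.nroots → chevF4.IsPosRoot r → r ∈ L) :
    chevF4.unipotentRadical F J ≤ UL (coreF4 F) L := by
  rw [(coreF4 F).radical_eq]
  exact (coreF4 F).Ucl_mono (T := {k | k ∈ L}) fun r hr => h r hr.1.1 hr.1

theorem centralizer_t : chevF4.group F ⊓ Subgroup.centralizer {(coreF4 F).xGL 47 1} =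
    UL (coreF4 F) (posList chevF4 ++ [14, 20, 22]) := by
  refine CentData.centralizer_eq_UL _ 2 dataT leadT ?_ (E := [47])
    ((coreF4 F).xGL_mem_Ucl (S := {k | k ∈ [47]}) (List.mem_singleton.2 rfl) 1) (by decide +kernel)
    ?_ ?_ ?_
  · have h : ∀ e ∈ [47], ∀ r, r < chevF4.nroots → chevF4.IsPosRoot r →
        termsInto chevF4 2 ([47].filter fun s => s != e) e r = true := by decide +kernel
    exact h
  · have h : ∀ i : Fin chevF4.rank, lam4 0 0 0 1 i = 0 →
        chevF4.simple i.val ∈ posList chevF4 ++ [14, 20, 22] ∧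
          chevF4.neg (chevF4.simple i.val) ∈ posList chevF4 ++ [14, 20, 22] := by decide +kernel
    exact h
  · intro t ht i hi
    have h : ∀ i : Fin chevF4.rank, lam4 0 0 0 1 i ≠ 0 → chevF4.cartan i.val 47 = 1 ∧
        ∀ k : Fin chevF4.rank, k ≠ i → chevF4.cartan k.val 47 = 0 := by decide +kernel
    rw [← torusChar_of_unit_column (coreF4 F) t (by decide : 47 < chevF4.nroots) i (h i hi).1 (h i hi).2]
    exact ht 47 (List.mem_singleton.2 rfl)
  · exact fun z hz _ => radical_le_pos _ (fun r _ hr => List.mem_append_left _ (mem_posList.2 hr)) hz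

theorem centralizer_u : chevF4.group F ⊓ Subgroup.centralizer {(coreF4 F).xGL 44 1} =
    UL (coreF4 F) (posList chevF4 ++ [20, 22, 23]) := by
  refine CentData.centralizer_eq_UL _ 2 dataU leadU ?_ (E := [44])
    ((coreF4 F).xGL_mem_Ucl (S := {k | k ∈ [44]}) (List.mem_singleton.2 rfl) 1) (by decide +kernel)
    ?_ ?_ ?_
  · have h : ∀ e ∈ [44], ∀ r, r < chevF4.nroots → chevF4.IsPosRoot r →
        termsInto chevF4 2 ([44].filter fun s => s != e) e r = true := by decide +kernel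
    exact h
  · have h : ∀ i : Fin chevF4.rank, lam4 1 0 0 0 i = 0 →
        chevF4.simple i.val ∈ posList chevF4 ++ [20, 22, 23] ∧
          chevF4.neg (chevF4.simple i.val) ∈ posList chevF4 ++ [20, 22, 23] := by decide +kernel
    exact h
  · intro t ht i hi
    have h : ∀ i : Fin chevF4.rank, lam4 1 0 0 0 i ≠ 0 → chevF4.cartan i.val 44 = 1 ∧
        ∀ k : Fin chevF4.rank, k ≠ i → chevF4.cartan k.val 44 = 0 := by decide +kernel
    rw [← torusChar_of_unit_column (coreF4 F) t (by decide : 44 < chevF4.nroots) i (h i hi).1 (h i hi).2]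
    exact ht 44 (List.mem_singleton.2 rfl)
  · exact fun z hz _ => radical_le_pos _ (fun r _ hr => List.mem_append_left _ (mem_posList.2 hr)) hz

theorem centralizer_w :
    chevF4.group F ⊓ Subgroup.centralizer {(coreF4 F).xGL 47 1 * (coreF4 F).xGL 44 1} =
      UL (coreF4 F) (posList chevF4 ++ [20, 22]) := by
  refine CentData.centralizer_eq_UL _ 2 dataW leadW ?_ (E := [47, 44]) (mem_pair 47 44 1 1)
    (by decide +kernel) ?_ ?_ ?_
  · have h : ∀ e ∈ [44, 47], ∀ r, r < chevF4.nroots → chevF4.IsPosRoot r →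
        termsInto chevF4 2 ([44, 47].filter fun s => s != e) e r = true := by decide +kernel
    exact h
  · have h : ∀ i : Fin chevF4.rank, lam4 1 0 0 1 i = 0 →
        chevF4.simple i.val ∈ posList chevF4 ++ [20, 22] ∧
          chevF4.neg (chevF4.simple i.val) ∈ posList chevF4 ++ [20, 22] := by decide +kernel
    exact h
  · intro t ht i hi
    have h : ∀ i : Fin chevF4.rank, lam4 1 0 0 1 i ≠ 0 → ∃ e ∈ [44, 47], chevF4.cartan i.val e = 1 ∧
        ∀ k : Fin chevF4.rank, k ≠ i → chevF4.cartan k.val e = 0 := by decide +kernel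
    obtain ⟨e, he, h1, h2⟩ := h i hi
    have hlt : ∀ e ∈ [44, 47], e < chevF4.nroots := by decide +kernel
    rw [← torusChar_of_unit_column (coreF4 F) t (hlt e he) i h1 h2]
    exact ht e he
  · exact fun z hz _ => radical_le_pos _ (fun r _ hr => List.mem_append_left _ (mem_posList.2 hr)) hz

theorem radRoots_v : (coreF4 F).radRoots (dataV (F := F)).J = {k | k ∈ radV} := by
  have hJ : ∀ i, i ∈ finSet chevF4 (dataV (F := F)).J ↔ lam4 0 1 2 0 i = 0 := fun i =>
    ChevLevels.mem_finSet_zeroSet.trans (Int.cast_eq_zero (α := ℝ))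
  refine Set.ext fun r => ⟨fun hr => ?_, fun hr => ?_⟩
  · refine (radV_iff r hr.1.1).2 ⟨hr.1, ?_⟩
    by_contra hcon
    push Not at hcon
    exact hr.2 ((coreF4 F).hR.inRootSub_iff.2 ⟨hr.1.1, fun i hi => hcon i fun e => hi ((hJ i).2 e)⟩)
  · obtain ⟨hp, i, hi, hα⟩ := (radV_iff r (radV_lt r hr)).1 hr
    exact ⟨hp, fun hin => hα (((coreF4 F).hR.inRootSub_iff.1 hin).2 i fun e => hi ((hJ i).1 e))⟩

/-- Conjugation by `x₃₄ , x₂₇ , x₂₆ , x₂₅`. -/
theorem conj_v (a b c d : F) :
    (coreF4 F).xGL 25 a * ((coreF4 F).xGL 26 b * ((coreF4 F).xGL 27 c * (coreF4 F).xGL 34 d)) * ((coreF4 F).xGL 39 1 * (coreF4 F).xGL 45 1) *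
      ((coreF4 F).xGL 25 a * ((coreF4 F).xGL 26 b * ((coreF4 F).xGL 27 c * (coreF4 F).xGL 34 d)))⁻¹ =
    (coreF4 F).xGL 39 1 * (coreF4 F).xGL 45 1 * ((coreF4 F).xGL 40 c * ((coreF4 F).xGL 44 d * ((coreF4 F).xGL 46 a * (coreF4 F).xGL 47 b))) := by
  have hcm : ∀ (g x y : GL chevF4.Idx F), g * (x * y) * g⁻¹ = (g * x * g⁻¹) * (g * y * g⁻¹) :=
    fun g x y => by group
  have k34_39 : (coreF4 F).xGL 34 d * (coreF4 F).xGL 39 1 * ((coreF4 F).xGL 34 d)⁻¹ = (coreF4 F).xGL 39 1 * (coreF4 F).xGL 44 d := by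
    obtain ⟨k, hk, hk'⟩ : ∃ c : ℤ, chevF4.commTerms 39 34 = [(44, c, 1, 1)] ∧ c % 2 = 1 :=
      ⟨((chevF4.commTerms 39 34).getD 0 (0, 0, 0, 0)).2.1, by decide +kernel, by decide +kernel⟩
    exact conj_single (coreF4 F) (by decide) (by decide) (by decide) (by decide) (by decide +kernel) hk hk'
      (by decide +kernel) d
  have k27_39 : (coreF4 F).xGL 27 c * (coreF4 F).xGL 39 1 * ((coreF4 F).xGL 27 c)⁻¹ = (coreF4 F).xGL 39 1 * (coreF4 F).xGL 40 c := by
    obtain ⟨k, hk, hk'⟩ : ∃ c : ℤ, chevF4.commTerms 39 27 = [(40, c, 1, 1)] ∧ c % 2 = 1 :=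
      ⟨((chevF4.commTerms 39 27).getD 0 (0, 0, 0, 0)).2.1, by decide +kernel, by decide +kernel⟩
    exact conj_single (coreF4 F) (by decide) (by decide) (by decide) (by decide) (by decide +kernel) hk hk'
      (by decide +kernel) c
  have k26_45 : (coreF4 F).xGL 26 b * (coreF4 F).xGL 45 1 * ((coreF4 F).xGL 26 b)⁻¹ = (coreF4 F).xGL 45 1 * (coreF4 F).xGL 47 b := by
    obtain ⟨k, hk, hk'⟩ : ∃ c : ℤ, chevF4.commTerms 45 26 = [(47, c, 1, 1)] ∧ c % 2 = 1 :=
      ⟨((chevF4.commTerms 45 26).getD 0 (0, 0, 0, 0)).2.1, by decide +kernel, by decide +kernel⟩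
    exact conj_single (coreF4 F) (by decide) (by decide) (by decide) (by decide) (by decide +kernel) hk hk'
      (by decide +kernel) b
  have k25_45 : (coreF4 F).xGL 25 a * (coreF4 F).xGL 45 1 * ((coreF4 F).xGL 25 a)⁻¹ = (coreF4 F).xGL 45 1 * (coreF4 F).xGL 46 a := by
    obtain ⟨k, hk, hk'⟩ : ∃ c : ℤ, chevF4.commTerms 45 25 = [(46, c, 1, 1)] ∧ c % 2 = 1 :=
      ⟨((chevF4.commTerms 45 25).getD 0 (0, 0, 0, 0)).2.1, by decide +kernel, by decide +kernel⟩
    exact conj_single (coreF4 F) (by decide) (by decide) (by decide) (by decide) (by decide +kernel) hk hk'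
      (by decide +kernel) a
  have kc : ∀ r s, commCheck chevF4 2 [r] [s] = true → ∀ u t,
      (coreF4 F).xGL r u * (coreF4 F).xGL s t * ((coreF4 F).xGL r u)⁻¹ = (coreF4 F).xGL s t := fun r s h u t => by
    rw [(commute_pair (F := F) h u t).eq]; group
  have cc : ∀ r s, commCheck chevF4 2 [r] [s] = true → ∀ u t, ∀ z : GL chevF4.Idx F,
      (coreF4 F).xGL r u * ((coreF4 F).xGL s t * z) = (coreF4 F).xGL s t * ((coreF4 F).xGL r u * z) := fun r s h u t z => by
    rw [← mul_assoc, (commute_pair (F := F) h u t).eq, mul_assoc]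
  rw [show (coreF4 F).xGL 25 a * ((coreF4 F).xGL 26 b * ((coreF4 F).xGL 27 c * (coreF4 F).xGL 34 d)) * ((coreF4 F).xGL 39 1 * (coreF4 F).xGL 45 1) *
      ((coreF4 F).xGL 25 a * ((coreF4 F).xGL 26 b * ((coreF4 F).xGL 27 c * (coreF4 F).xGL 34 d)))⁻¹ =
      (coreF4 F).xGL 25 a * ((coreF4 F).xGL 26 b * ((coreF4 F).xGL 27 c * ((coreF4 F).xGL 34 d * ((coreF4 F).xGL 39 1 * (coreF4 F).xGL 45 1) *
        ((coreF4 F).xGL 34 d)⁻¹) * ((coreF4 F).xGL 27 c)⁻¹) * ((coreF4 F).xGL 26 b)⁻¹) * ((coreF4 F).xGL 25 a)⁻¹ by group]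
  rw [hcm ((coreF4 F).xGL 34 d), k34_39, kc 34 45 (by decide +kernel)]
  simp only [mul_assoc ((coreF4 F).xGL 39 1)]
  rw [hcm ((coreF4 F).xGL 27 c), hcm ((coreF4 F).xGL 27 c), k27_39, kc 27 44 (by decide +kernel),
    kc 27 45 (by decide +kernel)]
  simp only [mul_assoc ((coreF4 F).xGL 39 1)]
  rw [hcm ((coreF4 F).xGL 26 b), hcm ((coreF4 F).xGL 26 b), hcm ((coreF4 F).xGL 26 b), k26_45, kc 26 39 (by decide +kernel),
    kc 26 40 (by decide +kernel), kc 26 44 (by decide +kernel)]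
  rw [hcm ((coreF4 F).xGL 25 a), hcm ((coreF4 F).xGL 25 a), hcm ((coreF4 F).xGL 25 a), hcm ((coreF4 F).xGL 25 a), k25_45,
    kc 25 39 (by decide +kernel), kc 25 40 (by decide +kernel), kc 25 44 (by decide +kernel),
    kc 25 47 (by decide +kernel)]
  simp only [mul_assoc]
  congr 1
  rw [cc 44 45 (by decide +kernel), cc 40 45 (by decide +kernel)]

set_option maxHeartbeats 1000000 in
theorem radical_v {z : GL chevF4.Idx F} (hz : z ∈ chevF4.unipotentRadical F (dataV (F := F)).J)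
    (hzv : z * ((coreF4 F).xGL 39 1 * (coreF4 F).xGL 45 1) * z⁻¹ =
      (coreF4 F).xGL 39 1 * (coreF4 F).xGL 45 1) : z ∈ UL (coreF4 F) listV := by
  have hclosed : (coreF4 F).R.IsClosed {k | k ∈ radV} := by
    rw [← radRoots_v (F := F)]; exact ChevRadical.isClosed_radRoots (coreF4 F)
  rw [(coreF4 F).radical_eq, radRoots_v (F := F)] at hz
  obtain ⟨f, rfl⟩ := (coreF4 F).exists_word (L := radV) (by decide) hclosed z hz
  have hsplit : radV = [25, 26, 27] ++ ([28, 29, 30, 31, 32] ++ ([34] ++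
      [35, 36, 37, 38, 39, 40, 41, 42, 43, 44, 45, 46, 47])) := rfl
  obtain ⟨A, hA⟩ : ∃ A, A = (coreF4 F).word [28, 29, 30, 31, 32] f := ⟨_, rfl⟩
  obtain ⟨B, hB⟩ : ∃ B, B = (coreF4 F).word [35, 36, 37, 38, 39, 40, 41, 42, 43, 44, 45, 46, 47] f := ⟨_, rfl⟩
  have hAm : A ∈ UL (coreF4 F) coreV := hA ▸ (coreF4 F).Ucl_mono (T := {k | k ∈ coreV})
    (fun r (hr : r ∈ [28, 29, 30, 31, 32]) => by
      show r ∈ coreV
      simp only [coreV, List.mem_cons, List.not_mem_nil, or_false] at hr ⊢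
      omega) ((coreF4 F).word_mem [28, 29, 30, 31, 32] f)
  have hBm : B ∈ UL (coreF4 F) coreV := hB ▸ (coreF4 F).Ucl_mono (T := {k | k ∈ coreV})
    (fun r (hr : r ∈ [35, 36, 37, 38, 39, 40, 41, 42, 43, 44, 45, 46, 47]) => by
      show r ∈ coreV
      simp only [coreV, List.mem_cons, List.not_mem_nil, or_false] at hr ⊢
      omega) ((coreF4 F).word_mem [35, 36, 37, 38, 39, 40, 41, 42, 43, 44, 45, 46, 47] f)
  rw [hsplit, word_append, word_append, word_append, ← hA, ← hB, (coreF4 F).word_cons, (coreF4 F).word_cons,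
    (coreF4 F).word_cons, (coreF4 F).word_nil, mul_one, (coreF4 F).word_cons, (coreF4 F).word_nil, mul_one] at hzv ⊢
  generalize f 25 = a at hzv ⊢
  generalize f 26 = b at hzv ⊢
  generalize f 27 = c at hzv ⊢
  generalize f 34 = d at hzv ⊢
  have hn34 := xGL_mem_normalizer_mod (coreF4 F) 2 (L := [34]) (S := coreV) (by decide +kernel)
    (List.mem_singleton.2 rfl) (by decide) (by decide +kernel) d
  obtain ⟨k, hk, hzk⟩ : ∃ k ∈ UL (coreF4 F) coreV,
      (coreF4 F).xGL 25 a * ((coreF4 F).xGL 26 b * (coreF4 F).xGL 27 c) * (A * ((coreF4 F).xGL 34 d * B)) =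
        (coreF4 F).xGL 25 a * ((coreF4 F).xGL 26 b * ((coreF4 F).xGL 27 c * (coreF4 F).xGL 34 d)) * k := by
    refine ⟨((coreF4 F).xGL 34 d)⁻¹ * A * (coreF4 F).xGL 34 d * B, mul_mem ?_ hBm, by group⟩
    have := (Subgroup.mem_normalizer_iff.1 (inv_mem hn34) A).1 hAm
    simpa using this
  rw [hzk] at hzv ⊢
  have hkv : k * ((coreF4 F).xGL 39 1 * (coreF4 F).xGL 45 1) * k⁻¹ = (coreF4 F).xGL 39 1 * (coreF4 F).xGL 45 1 :=
    Ucl_centralizes (coreF4 F) 2 (E := [39, 45]) (by decide +kernel) (mem_pair 39 45 1 1) hk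
  obtain ⟨g, hg⟩ : ∃ g, g = (coreF4 F).xGL 25 a * ((coreF4 F).xGL 26 b * ((coreF4 F).xGL 27 c * (coreF4 F).xGL 34 d)) := ⟨_, rfl⟩
  rw [← hg] at hzv ⊢
  have e1 : g * ((coreF4 F).xGL 39 1 * (coreF4 F).xGL 45 1) * g⁻¹ = (coreF4 F).xGL 39 1 * (coreF4 F).xGL 45 1 := by
    conv_lhs => rw [← hkv]
    conv_rhs => rw [← hzv]
    group
  rw [hg, conj_v, mul_eq_left] at e1
  have hpos : ∀ r ∈ [40, 44, 46, 47], chevF4.IsPosRoot r := by decide +kernel
  have e3 := (coreF4 F).word_injective (L := [40, 44, 46, 47]) (by decide) hpos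
    (fun r => if r = 40 then c else if r = 44 then d else if r = 46 then a else b) (fun _ => 0)
    (by simpa [(coreF4 F).word_cons, (coreF4 F).word_nil, (coreF4 F).xGL_zero] using e1)
  have hc : c = 0 := by simpa using e3 40 (by simp)
  have hd : d = 0 := by simpa using e3 44 (by simp)
  have ha : a = 0 := by simpa using e3 46 (by simp)
  have hb : b = 0 := by simpa using e3 47 (by simp)
  rw [hg, ha, hb, hc, hd, (coreF4 F).xGL_zero, (coreF4 F).xGL_zero, (coreF4 F).xGL_zero, (coreF4 F).xGL_zero, one_mul, one_mul, one_mul,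
    one_mul]
  exact (coreF4 F).Ucl_mono (T := {k | k ∈ listV}) (fun r (hr : r ∈ coreV) => by
    show r ∈ listV
    simp only [coreV, listV, List.mem_cons, List.not_mem_nil, or_false] at hr ⊢
    omega) hk

theorem centralizer_v :
    chevF4.group F ⊓ Subgroup.centralizer {(coreF4 F).xGL 39 1 * (coreF4 F).xGL 45 1} =
      UL (coreF4 F) listV := by
  refine CentData.centralizer_eq_UL _ 2 dataV leadV ?_ (E := [39, 45]) (mem_pair 39 45 1 1)
    (by decide +kernel) ?_ ?_ fun z hz hzv => radical_v hz hzv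
  · have h : ∀ e ∈ [39, 45], ∀ r, r < chevF4.nroots → chevF4.IsPosRoot r →
        termsInto chevF4 2 ([39, 40, 44, 45, 46, 47].filter fun s => s != e) e r = true := by
      decide +kernel
    exact h
  · have h : ∀ i : Fin chevF4.rank, lam4 0 1 2 0 i = 0 →
        chevF4.simple i.val ∈ listV ∧ chevF4.neg (chevF4.simple i.val) ∈ listV := by decide +kernel
    exact h
  · intro t ht i hi
    have h39 : ∀ k : Fin chevF4.rank, chevF4.cartan k.val 39 = lam4 0 (-1) 1 0 k := by decide +kernel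
    have h45 : ∀ k : Fin chevF4.rank, chevF4.cartan k.val 45 = lam4 0 2 (-1) 0 k := by decide +kernel
    have e39 := ht 39 (List.mem_cons_self ..)
    have e45 := ht 45 (List.mem_cons_of_mem _ (List.mem_cons_self ..))
    rw [(coreF4 F).R.torusChar_root t (by decide : 39 < chevF4.nroots)] at e39
    rw [(coreF4 F).R.torusChar_root t (by decide : 45 < chevF4.nroots)] at e45
    simp only [h39] at e39
    simp only [h45] at e45
    have hprod : ∀ g : Fin chevF4.rank → Fˣ, ∏ k, g k = g ⟨0, by decide⟩ * g ⟨1, by decide⟩ *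
        g ⟨2, by decide⟩ * g ⟨3, by decide⟩ := fun g => Fin.prod_univ_four g
    rw [hprod] at e39 e45
    simp only [lam4, if_pos, if_neg, one_ne_zero, zpow_zero, one_mul, mul_one, zpow_one, zpow_neg,
      OfNat.ofNat_ne_zero, reduceIte, Nat.reduceEqDiff] at e39 e45
    have h2 : t ⟨2, by decide⟩ = t ⟨1, by decide⟩ := (inv_mul_eq_one.1 e39).symm
    rw [h2, zpow_two, mul_assoc, mul_inv_cancel, mul_one] at e45
    have hcases : ∀ i : Fin chevF4.rank, lam4 0 1 2 0 i ≠ 0 →
        i = ⟨1, by decide⟩ ∨ i = ⟨2, by decide⟩ := by decide +kernel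
    rcases hcases i hi with rfl | rfl
    exacts [e45, h2.trans e45]

end CfsgLib.KnownSimple.RootCent.F4
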