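import Cfsg.Agent.Lib.KnownSimple.ChevRootCentTools

set_option autoImplicit false
set_option linter.unusedSectionVars false

/-!
Centralisers of the two classes of root involutions of `G₂` in characteristic two.
-/

namespace CfsgLib.KnownSimple.RootCent.G2

open Cfsg.Lie CfsgLib.ChevStr
open scoped MatrixGroups

/-- The long roots. -/
def isLong (r : ℕ) : Bool := decide (r ∈ [0, 1, 5, 6, 10, 11])

/-- The functional of the long root. -/
def lamZ : Fin chevG2.rank → ℤ := fun i => if i.val = 0 then 0 else 1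

/-- The functional of the short root. -/
def lamT : Fin chevG2.rank → ℤ := fun i => if i.val = 0 then 1 else 0

/-- The level of a root. -/
def lev (lam : Fin chevG2.rank → ℤ) (r : ℕ) : ℤ := ∑ i, lam i * rootDataG2.α r i

theorem cl_check : ∀ (i : Fin chevG2.rank) r, r < chevG2.nroots →
    isLong (chevG2.reflectRoot i.val r) = isLong r := by decide +kernel

theorem gapZ : ∀ r ∈ [11], ∀ k, k < chevG2.nroots →
    rootDataG2.α k ⟨1, by decide⟩ < 2 * rootDataG2.α r ⟨1, by decide⟩ := by decide +kernel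

theorem gapT : ∀ r ∈ [9, 10, 11], ∀ k, k < chevG2.nroots →
    rootDataG2.α k ⟨0, by decide⟩ < 2 * rootDataG2.α r ⟨0, by decide⟩ := by decide +kernel

theorem dualZ : ∀ i, (∑ r : Fin chevG2.nroots, lev lamZ r * rootDataG2.α r i) =
    8 * ([11].map fun e => 1 * rootDataG2.α e i).sum := by decide +kernel

theorem dualT : ∀ i, (∑ r : Fin chevG2.nroots, lev lamT r * rootDataG2.α r i) =
    24 * ([9].map fun e => 1 * rootDataG2.α e i).sum := by decide +kernel

theorem raiseT : ∀ e ∈ [9], ∀ k ∈ [9, 10, 11], isLong k = isLong e → lev lamT e ≤ lev lamT k := by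
  decide +kernel

variable {F : Type*} [Field F] [CharP F 2]

/-- The data of the long root involution. -/
noncomputable def dataZ : CentData (coreG2 F) 2 where
  S := [11]
  supp := [11]
  lam := lamZ
  cw := fun _ => 1
  cl := isLong
  κ := 8
  S_pos := by decide +kernel
  supp_mem := fun e he => he
  gap := ⟨⟨1, by decide⟩, gapZ⟩
  norm := by decide +kernel
  normX := by decide +kernel
  cl_refl := cl_check
  lam_nonneg := by decide
  cw_nonneg := fun _ _ => zero_le_one
  κ_pos := by norm_num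
  raise := fun e he k hk _ => by
    simp only [List.mem_cons, List.not_mem_nil, or_false] at he hk
    subst he hk
    exact le_rfl
  dual := dualZ

/-- The data of the short root involution. -/
noncomputable def dataT : CentData (coreG2 F) 2 where
  S := [9, 10, 11]
  supp := [9]
  lam := lamT
  cw := fun _ => 1
  cl := isLong
  κ := 24
  S_pos := by decide +kernel
  supp_mem := by decide +kernel
  gap := ⟨⟨0, by decide⟩, gapT⟩
  norm := by decide +kernel
  normX := by decide +kernel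
  cl_refl := cl_check
  lam_nonneg := by decide
  cw_nonneg := fun _ _ => zero_le_one
  κ_pos := by norm_num
  raise := raiseT
  dual := dualT

theorem leadZ : (dataZ (F := F)).IsLead ((coreG2 F).xGL 11 1) :=
  ⟨(coreG2 F).xGL_mem_Ucl (S := {k | k ∈ [11]}) (List.mem_singleton.2 rfl) 1, fun e he => by
    obtain rfl : e = 11 := List.mem_singleton.1 he
    rw [inv_mul_cancel]
    exact one_mem _⟩

theorem leadT : (dataT (F := F)).IsLead ((coreG2 F).xGL 9 1) :=
  ⟨(coreG2 F).xGL_mem_Ucl (S := {k | k ∈ [9, 10, 11]}) (List.mem_cons_self ..) 1, fun e he => by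
    obtain rfl : e = 9 := List.mem_singleton.1 he
    rw [inv_mul_cancel]
    exact one_mem _⟩

theorem finSetZ {i : Fin chevG2.rank} : i ∈ finSet chevG2 (dataZ (F := F)).J ↔ lamZ i = 0 :=
  ChevLevels.mem_finSet_zeroSet.trans (Int.cast_eq_zero (α := ℝ))

theorem finSetT {i : Fin chevG2.rank} : i ∈ finSet chevG2 (dataT (F := F)).J ↔ lamT i = 0 :=
  ChevLevels.mem_finSet_zeroSet.trans (Int.cast_eq_zero (α := ℝ))

theorem centralizer_long : chevG2.group F ⊓ Subgroup.centralizer {(coreG2 F).xGL 11 1} =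
    chevG2.posUnipotent F ⊔ chevG2.rootSubgroup F 4 := by
  set C := coreG2 F with hC
  have hU : ∀ r, chevG2.IsPosRoot r → ∀ t, C.xGL r t ∈ chevG2.posUnipotent F ⊔ chevG2.rootSubgroup F 4 :=
    fun r hr t => le_sup_left (b := chevG2.rootSubgroup F 4) (C.xGL_mem_posUnipotent hr t)
  have hM : chevG2.posUnipotent F ⊔ chevG2.rootSubgroup F 4 ≤ UL C [4, 6, 7, 8, 9, 10, 11] := by
    refine sup_le (C.posUnipotent_le fun r t hr => C.xGL_mem_Ucl (S := {k | k ∈ [4, 6, 7, 8, 9, 10, 11]}) ?_ t) ?_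
    · have h : ∀ r < chevG2.nroots, chevG2.IsPosRoot r → r ∈ [4, 6, 7, 8, 9, 10, 11] := by decide +kernel
      exact h r hr.1 hr
    · intro x hx
      obtain ⟨t, rfl⟩ := C.mem_rootSubgroup.1 hx
      exact C.xGL_mem_Ucl (S := {k | k ∈ [4, 6, 7, 8, 9, 10, 11]}) (List.mem_cons_self ..) t
  refine CentData.centralizer_eq dataZ leadZ ?_ (hM.trans (C.Ucl_le fun r _ t => C.xGL_mem_group r t))
    (fun x hx => Ucl_centralizes C 2 (E := [11]) (by decide +kernel)
      (C.xGL_mem_Ucl (S := {k | k ∈ [11]}) (List.mem_singleton.2 rfl) 1) (hM hx)) ?_ ?_ ?_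
  · have h : ∀ e ∈ [11], ∀ r < chevG2.nroots, chevG2.IsPosRoot r →
        termsInto chevG2 2 ([11].filter fun s => s != e) e r = true := by decide +kernel
    exact fun e he r hr => h e he r hr.1 hr
  · intro i hi t
    have h : ∀ i : Fin chevG2.rank, lamZ i = 0 →
        chevG2.IsPosRoot (chevG2.simple i.val) ∧ chevG2.neg (chevG2.simple i.val) = 4 := by decide +kernel
    obtain ⟨h1, h2⟩ := h i (finSetZ.1 hi)
    refine ⟨hU _ h1 t, ?_⟩
    rw [h2]
    exact le_sup_right (a := chevG2.posUnipotent F) (C.mem_rootSubgroup.2 ⟨t, rfl⟩)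
  · intro t ht i hi
    have h1 := ht 11 (List.mem_singleton.2 rfl)
    rw [C.R.torusChar_root t (by decide : 11 < chevG2.nroots),
      show (∏ k : Fin chevG2.rank, t k ^ chevG2.cartan k.val 11) =
        ∏ k : Fin chevG2.rank, t k ^ lamZ k from Finset.prod_congr rfl fun k _ => by
          have h : ∀ k : Fin chevG2.rank, chevG2.cartan k.val 11 = lamZ k := by decide +kernel
          rw [h k]] at h1
    have hi' : i.val = 1 := by
      have h : ∀ i : Fin chevG2.rank, lamZ i ≠ 0 → i.val = 1 := by decide +kernel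
      exact h i fun e => hi (finSetZ.2 e)
    rw [Fintype.prod_eq_single i] at h1
    · simpa [lamZ, hi'] using h1
    · intro k hk
      have h : ∀ k : Fin chevG2.rank, k.val ≠ 1 → lamZ k = 0 := by decide +kernel
      rw [h k fun e => hk (Fin.ext (e.trans hi'.symm)), zpow_zero]
  · intro z hz _
    rw [C.radical_eq] at hz
    exact le_sup_left (b := chevG2.rootSubgroup F 4)
      (C.Ucl_le (fun r hr t => C.xGL_mem_posUnipotent hr.1 t) hz)

set_option maxHeartbeats 1000000 in
/-- The part of the radical centralising the short root involution. -/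
theorem radical_short {z : GL chevG2.Idx F}
    (hz : z ∈ chevG2.unipotentRadical F (dataT (F := F)).J)
    (hzt : z * (coreG2 F).xGL 9 1 * z⁻¹ = (coreG2 F).xGL 9 1) :
    z ∈ UL (coreG2 F) [9, 10, 11, 6, 5] := by
  set C := coreG2 F with hC
  have hrad : C.radRoots (dataT (F := F)).J ⊆ {k | k ∈ [7, 8, 9, 10, 11]} := by
    rintro r ⟨hr, hnin⟩
    have h : ∀ r < chevG2.nroots, chevG2.IsPosRoot r →
        r ∈ [7, 8, 9, 10, 11] ∨ ∀ i : Fin chevG2.rank, lamT i ≠ 0 → rootDataG2.α r i = 0 := by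
      decide +kernel
    rcases h r hr.1 hr with h1 | h1
    · exact h1
    · exact absurd (C.hR.inRootSub_iff.2 ⟨hr.1, fun i hi => h1 i fun e => hi (finSetT.2 e)⟩) hnin
  rw [C.radical_eq] at hz
  have hclosed : C.R.IsClosed {k | k ∈ [7, 8, 9, 10, 11]} := by
    have hset : ∀ k, k ∈ [7, 8, 9, 10, 11] ↔ chevG2.IsPosRoot k ∧ k ≠ chevG2.simple 1 := by
      have h : ∀ k < chevG2.nroots, (k ∈ [7, 8, 9, 10, 11] ↔ chevG2.IsPosRoot k ∧ k ≠ chevG2.simple 1) := by
        decide +kernel
      intro k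
      refine ⟨fun hk => (h k ?_).1 hk, fun hk => (h k hk.1.1).2 hk⟩
      simp only [List.mem_cons, List.not_mem_nil, or_false] at hk
      rcases hk with rfl | rfl | rfl | rfl | rfl <;> decide
    rw [show {k | k ∈ [7, 8, 9, 10, 11]} = {k | chevG2.IsPosRoot k ∧ k ≠ chevG2.simple 1} from
      Set.ext hset]
    exact C.R.isClosed_ne_simple ⟨1, by decide⟩
  obtain ⟨f, rfl⟩ := C.exists_word (L := [7, 8, 9, 10, 11]) (by decide) hclosed z (C.Ucl_mono hrad hz)
  obtain ⟨k, hk⟩ : ∃ k, k = C.word [9, 10, 11] f := ⟨_, rfl⟩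
  have hkM : k ∈ UL C [9, 10, 11, 6, 5] :=
    C.Ucl_mono (S := {r | r ∈ [9, 10, 11]}) (T := {r | r ∈ [9, 10, 11, 6, 5]})
      (fun r (hr : r ∈ [9, 10, 11]) => by
        show r ∈ [9, 10, 11, 6, 5]
        simp only [List.mem_cons, List.not_mem_nil, or_false] at hr ⊢
        omega)
      (hk ▸ C.word_mem [9, 10, 11] f)
  have hkv : k * C.xGL 9 1 * k⁻¹ = C.xGL 9 1 := Ucl_centralizes C 2 (E := [9]) (by decide +kernel)
    (C.xGL_mem_Ucl (S := {k | k ∈ [9]}) (List.mem_singleton.2 rfl) 1) hkM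
  rw [C.word_cons, C.word_cons, ← hk] at hzt ⊢
  generalize f 7 = a at hzt ⊢
  generalize f 8 = b at hzt ⊢
  have h8 : C.xGL 8 b * C.xGL 9 1 * (C.xGL 8 b)⁻¹ = C.xGL 9 1 * C.xGL 11 b :=
    conj_single C (c := -3) (by decide) (by decide) (by decide) (by decide) (by decide +kernel)
      (by decide +kernel) (by decide) (by decide +kernel) b
  have h7 : C.xGL 7 a * C.xGL 9 1 * (C.xGL 7 a)⁻¹ = C.xGL 9 1 * C.xGL 10 a :=
    conj_single C (c := -3) (by decide) (by decide) (by decide) (by decide) (by decide +kernel)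
      (by decide +kernel) (by decide) (by decide +kernel) a
  have h711 : C.xGL 7 a * C.xGL 11 b * (C.xGL 7 a)⁻¹ = C.xGL 11 b :=
    conj_commute C (by decide) (by decide) (by decide +kernel) a b
  have e1 : C.xGL 9 1 * (C.xGL 10 a * C.xGL 11 b) = C.xGL 9 1 * 1 := by
    rw [mul_one]
    conv_rhs => rw [← hzt]
    rw [show C.xGL 7 a * (C.xGL 8 b * k) * C.xGL 9 1 * (C.xGL 7 a * (C.xGL 8 b * k))⁻¹ =
      C.xGL 7 a * (C.xGL 8 b * (k * C.xGL 9 1 * k⁻¹) * (C.xGL 8 b)⁻¹) * (C.xGL 7 a)⁻¹ by group,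
      hkv, h8, show C.xGL 7 a * (C.xGL 9 1 * C.xGL 11 b) * (C.xGL 7 a)⁻¹ =
        (C.xGL 7 a * C.xGL 9 1 * (C.xGL 7 a)⁻¹) * (C.xGL 7 a * C.xGL 11 b * (C.xGL 7 a)⁻¹) by group,
      h7, h711, mul_assoc]
  have e2 := mul_left_cancel e1
  have hpos : ∀ r ∈ [10, 11], chevG2.IsPosRoot r := by decide +kernel
  have e3 := C.word_injective (L := [10, 11]) (by decide) hpos
    (fun r => if r = 10 then a else b) (fun _ => 0)
    (by simpa [C.word_cons, C.word_nil, C.xGL_zero] using e2)
  have ha : a = 0 := by simpa using e3 10 (by simp)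
  have hb : b = 0 := by simpa using e3 11 (by simp)
  rw [ha, hb, C.xGL_zero, C.xGL_zero, one_mul, one_mul]
  exact hkM

set_option maxHeartbeats 1000000 in
theorem centralizer_short : chevG2.group F ⊓ Subgroup.centralizer {(coreG2 F).xGL 9 1} =
    chevG2.rootSubgroup F 9 ⊔ chevG2.rootSubgroup F 10 ⊔ chevG2.rootSubgroup F 11 ⊔
      chevG2.rootSubgroup F 6 ⊔ chevG2.rootSubgroup F 5 := by
  set C := coreG2 F with hC
  set M := chevG2.rootSubgroup F 9 ⊔ chevG2.rootSubgroup F 10 ⊔ chevG2.rootSubgroup F 11 ⊔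
      chevG2.rootSubgroup F 6 ⊔ chevG2.rootSubgroup F 5 with hMdef
  have hM : M = UL C [9, 10, 11, 6, 5] := by
    refine le_antisymm ?_ (C.Ucl_le fun r hr t => ?_)
    · simp only [hMdef, sup_le_iff]
      refine ⟨⟨⟨⟨?_, ?_⟩, ?_⟩, ?_⟩, ?_⟩ <;> intro x hx <;>
        obtain ⟨t, rfl⟩ := C.mem_rootSubgroup.1 hx <;>
        exact C.xGL_mem_Ucl (S := {k | k ∈ [9, 10, 11, 6, 5]}) (by simp) t
    · have h0 : C.xGL r t ∈ chevG2.rootSubgroup F r := C.mem_rootSubgroup.2 ⟨t, rfl⟩
      simp only [List.mem_cons, List.not_mem_nil, or_false, Set.mem_ofPred_eq] at hr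
      rw [hMdef]
      rcases hr with rfl | rfl | rfl | rfl | rfl
      · exact Subgroup.mem_sup_left (Subgroup.mem_sup_left (Subgroup.mem_sup_left (Subgroup.mem_sup_left h0)))
      · exact Subgroup.mem_sup_left (Subgroup.mem_sup_left (Subgroup.mem_sup_left (Subgroup.mem_sup_right h0)))
      · exact Subgroup.mem_sup_left (Subgroup.mem_sup_left (Subgroup.mem_sup_right h0))
      · exact Subgroup.mem_sup_left (Subgroup.mem_sup_right h0)
      · exact Subgroup.mem_sup_right h0
  rw [hM]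
  refine CentData.centralizer_eq dataT leadT ?_ (C.Ucl_le fun r _ t => C.xGL_mem_group r t)
    (fun x hx => Ucl_centralizes C 2 (E := [9]) (by decide +kernel)
      (C.xGL_mem_Ucl (S := {k | k ∈ [9]}) (List.mem_singleton.2 rfl) 1) hx) ?_ ?_ ?_
  · have h : ∀ e ∈ [9], ∀ r < chevG2.nroots, chevG2.IsPosRoot r →
        termsInto chevG2 2 ([9, 10, 11].filter fun s => s != e) e r = true := by decide +kernel
    exact fun e he r hr => h e he r hr.1 hr
  · intro i hi t
    have h : ∀ i : Fin chevG2.rank, lamT i = 0 →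
        chevG2.simple i.val ∈ [9, 10, 11, 6, 5] ∧ chevG2.neg (chevG2.simple i.val) ∈ [9, 10, 11, 6, 5] := by
      decide +kernel
    obtain ⟨h1, h2⟩ := h i (finSetT.1 hi)
    exact ⟨C.xGL_mem_Ucl (S := {k | k ∈ [9, 10, 11, 6, 5]}) h1 t,
      C.xGL_mem_Ucl (S := {k | k ∈ [9, 10, 11, 6, 5]}) h2 t⟩
  · intro t ht i hi
    have h1 := ht 9 (List.mem_singleton.2 rfl)
    rw [C.R.torusChar_root t (by decide : 9 < chevG2.nroots),
      show (∏ k : Fin chevG2.rank, t k ^ chevG2.cartan k.val 9) =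
        ∏ k : Fin chevG2.rank, t k ^ lamT k from Finset.prod_congr rfl fun k _ => by
          have h : ∀ k : Fin chevG2.rank, chevG2.cartan k.val 9 = lamT k := by decide +kernel
          rw [h k]] at h1
    have hi' : i.val = 0 := by
      have h : ∀ i : Fin chevG2.rank, lamT i ≠ 0 → i.val = 0 := by decide +kernel
      exact h i fun e => hi (finSetT.2 e)
    rw [Fintype.prod_eq_single i] at h1
    · simpa [lamT, hi'] using h1
    · intro k hk
      have h : ∀ k : Fin chevG2.rank, k.val ≠ 0 → lamT k = 0 := by decide +kernel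
      rw [h k fun e => hk (Fin.ext (e.trans hi'.symm)), zpow_zero]
  · exact fun z hz hzt => radical_short hz hzt

end CfsgLib.KnownSimple.RootCent.G2
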