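import Cfsg.Agent.Lib.KnownSimple.ChevRootCentTools

set_option autoImplicit false
set_option linter.unusedSectionVars false

/-!
The root centraliser criterion with the answer given by a list of roots.
-/

namespace CfsgLib.KnownSimple.RootCent

open Cfsg.Lie CfsgLib.ChevStr
open scoped MatrixGroups

variable {D : ChevalleyDatum} {F : Type*} [Field F] (C : ChevCore D F)

theorem rootSubgroup_eq_UL (r : ℕ) : D.rootSubgroup F r = UL C [r] := by
  refine le_antisymm (fun x hx => ?_) (C.Ucl_le fun k hk t => ?_)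
  · obtain ⟨t, rfl⟩ := C.mem_rootSubgroup.1 hx
    exact C.xGL_mem_Ucl (S := {k | k ∈ [r]}) (List.mem_singleton.2 rfl) t
  · obtain rfl : k = r := List.mem_singleton.1 hk
    exact C.mem_rootSubgroup.2 ⟨t, rfl⟩

theorem UL_append (A B : List ℕ) : UL C A ⊔ UL C B = UL C (A ++ B) := by
  refine le_antisymm (sup_le (C.Ucl_mono fun k hk => List.mem_append_left B hk)
    (C.Ucl_mono fun k hk => List.mem_append_right A hk)) (C.Ucl_le fun k hk t => ?_)
  rcases List.mem_append.1 hk with h | h
  · exact le_sup_left (b := UL C B) (C.xGL_mem_Ucl (S := {k | k ∈ A}) h t)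
  · exact le_sup_right (a := UL C A) (C.xGL_mem_Ucl (S := {k | k ∈ B}) h t)

theorem posUnipotent_eq_UL : D.posUnipotent F = UL C (posList D) := by
  rw [C.posUnipotent_eq]
  exact congrArg C.Ucl (Set.ext fun r => mem_posList.symm)

theorem word_append (A B : List ℕ) (f : ℕ → F) : C.word (A ++ B) f = C.word A f * C.word B f := by
  simp only [ChevCore.word, List.map_append, C.wordGL_append]

variable (p : ℕ) [CharP F p]

/-- The criterion for an answer generated by root subgroups. -/
theorem CentData.centralizer_eq_UL (K : CentData C p) {v : GL D.Idx F} (hv : K.IsLead v)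
    (hinto : ∀ e ∈ K.supp, ∀ r, r < D.nroots → D.IsPosRoot r →
      termsInto D p (K.S.filter fun s => s != e) e r = true)
    {E L : List ℕ} (hvE : v ∈ UL C E) (hcomm : commCheck D p L E = true)
    (hsimp : ∀ i : Fin D.rank, K.lam i = 0 → D.simple i.val ∈ L ∧ D.neg (D.simple i.val) ∈ L)
    (hchar : ∀ t : Fin D.rank → Fˣ, (∀ e ∈ K.supp, C.R.torusChar t (C.R.α e) = 1) →
      ∀ i, K.lam i ≠ 0 → t i = 1)
    (hz : ∀ z ∈ D.unipotentRadical F K.J, z * v * z⁻¹ = v → z ∈ UL C L) :
    D.group F ⊓ Subgroup.centralizer {v} = UL C L := by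
  have hJ : ∀ i, i ∈ finSet D K.J ↔ K.lam i = 0 := fun i =>
    ChevLevels.mem_finSet_zeroSet.trans (Int.cast_eq_zero (α := ℝ))
  refine K.centralizer_eq hv (fun e he r hr => hinto e he r hr.1 hr)
    (C.Ucl_le fun r _ t => C.xGL_mem_group r t)
    (fun x hx => Ucl_centralizes C p hcomm hvE hx) (fun i hi t => ?_)
    (fun t ht i hi => hchar t ht i fun e => hi ((hJ i).2 e)) hz
  exact ⟨C.xGL_mem_Ucl (S := {k | k ∈ L}) (hsimp i ((hJ i).1 hi)).1 t,
    C.xGL_mem_Ucl (S := {k | k ∈ L}) (hsimp i ((hJ i).1 hi)).2 t⟩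

theorem torusChar_of_unit_column (t : Fin D.rank → Fˣ) {e : ℕ} (he : e < D.nroots) (i : Fin D.rank)
    (hi : D.cartan i.val e = 1) (h : ∀ k : Fin D.rank, k ≠ i → D.cartan k.val e = 0) :
    C.R.torusChar t (C.R.α e) = t i := by
  rw [C.R.torusChar_root t he, Fintype.prod_eq_single i]
  · rw [hi, zpow_one]
  · intro k hk; rw [h k hk, zpow_zero]

end CfsgLib.KnownSimple.RootCent
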