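import Cfsg.Agent.Lib.ChevStr.Bruhat
import Cfsg.Agent.Lib.ChevStr.InstanceTables
import Cfsg.Agent.Lib.KnownSimple.CharDiag

set_option autoImplicit false

/-!
A diagonal matrix of a root character lying in the Chevalley group lies in the diagonal subgroup.
-/

namespace CfsgLib.KnownSimple

open Cfsg.Lie CfsgLib.ChevStr
open scoped MatrixGroups

variable {D : ChevalleyDatum} {F : Type*} [Field F] (C : ChevCore D F)

include C in
theorem mem_diagonal_of_charDiag (htab : chainTableOK D = true) {χ : ℕ → Fˣ} (hχ : D.IsRootCharacter χ)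
    {g : GL D.Idx F} (hg : g ∈ D.group F) (hgχ : (g : Matrix D.Idx D.Idx F) = D.charDiag F χ) :
    g ∈ D.diagonalSubgroup F := by
  have hinv : (g⁻¹ : GL D.Idx F).1 = D.charDiag F fun s => (χ s)⁻¹ := by
    apply Units.inv_eq_of_mul_eq_one_right
    rw [hgχ, ChevalleyDatum.charDiag, ChevalleyDatum.charDiag, Matrix.diagonal_mul_diagonal,
      ← Matrix.diagonal_one]
    congr 1
    funext x
    rcases x with j | s <;> simp
  have hconj : ∀ r, D.IsPosRoot r → ∀ t, g * C.xGL r t * g⁻¹ = C.xGL r ((χ r : F) * t) := by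
    intro r hr t
    apply Units.ext
    rw [Units.val_mul, Units.val_mul, C.coe_xGL, C.coe_xGL, hinv, hgχ]
    exact charDiag_conj_x htab hχ hr.1 t
  have hnorm : g ∈ Subgroup.normalizer (D.posUnipotent F : Set (GL D.Idx F)) := by
    have h1 : ∀ x ∈ D.posUnipotent F, g * x * g⁻¹ ∈ D.posUnipotent F := by
      have hle : D.posUnipotent F ≤ (D.posUnipotent F).comap (MulAut.conj g).toMonoidHom :=
        C.posUnipotent_le fun r t hr => by
          show g * C.xGL r t * g⁻¹ ∈ D.posUnipotent F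
          rw [hconj r hr t]
          exact C.xGL_mem_posUnipotent hr _
      exact fun x hx => hle hx
    have h2 : ∀ x ∈ D.posUnipotent F, g⁻¹ * x * g ∈ D.posUnipotent F := by
      have hle : D.posUnipotent F ≤ (D.posUnipotent F).comap (MulAut.conj g⁻¹).toMonoidHom :=
        C.posUnipotent_le fun r t hr => by
          show g⁻¹ * C.xGL r t * g⁻¹⁻¹ ∈ D.posUnipotent F
          have h := hconj r hr (((χ r)⁻¹ : Fˣ) * t)
          rw [Units.mul_inv_cancel_left] at h
          rw [← h, inv_inv, show g⁻¹ * (g * C.xGL r (((χ r)⁻¹ : Fˣ) * t) * g⁻¹) * g =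
            C.xGL r (((χ r)⁻¹ : Fˣ) * t) by group]
          exact C.xGL_mem_posUnipotent hr _
      intro x hx
      simpa using hle hx
    refine Subgroup.mem_normalizer_iff.2 fun x => ⟨h1 x, fun hx => ?_⟩
    simpa [mul_assoc] using h2 _ hx
  obtain ⟨n, hn, hcell⟩ := C.exists_bigCell hg
  obtain ⟨b, hb, y, hy, hgb⟩ := C.mem_bigCell.1 hcell
  have hnN : n ∈ Subgroup.normalizer (D.posUnipotent F : Set (GL D.Idx F)) := by
    rw [show n = b⁻¹ * g * y⁻¹ by rw [hgb]; group]
    exact mul_mem (mul_mem (inv_mem (C.borel_normalizes hb)) hnorm) (inv_mem (C.borel_normalizes hy))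
  obtain ⟨w, hw, -⟩ := C.exists_moves hn
  have hpos := ChevCore.Moves.pos_of_normalizes C hw
    (fun x hx => (Subgroup.mem_normalizer_iff.1 hnN x).1 hx)
  have hw1 : w = 1 := by
    refine C.hR.eq_one_of_invSet_eq_empty hw.1 (Finset.eq_empty_iff_forall_notMem.2 fun s hs => ?_)
    rw [C.hR.mem_invSet] at hs
    exact C.R.not_pos_and_neg (hpos s hs.1) hs.2
  have hnd : n ∈ D.diagonalSubgroup F := C.mem_diagonal_of_moves_one hn (hw1 ▸ hw)
  have hgB : g ∈ D.borelSubgroup F := by
    rw [hgb]; exact mul_mem (mul_mem hb (le_sup_right (a := D.posUnipotent F) hnd)) hy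
  obtain ⟨u, hu, c, hguc⟩ := C.mem_borel.1 hgB
  have hu1 : u = 1 := by
    have hu' := C.R.posUnipotent_le_upperUni F hu
    have h0 : (0 : Fin D.rank → ℤ) ∉ C.R.posSet := by simp [C.R.mem_posSet]
    have hue : u = g * (C.R.torus c)⁻¹ := by rw [hguc, mul_inv_cancel_right]
    have hdiag : ∃ d, (u : Matrix D.Idx D.Idx F) = Matrix.diagonal d := by
      rw [hue, ← map_inv, Units.val_mul, hgχ, ChevalleyDatum.charDiag, C.R.coe_torus,
        Matrix.diagonal_mul_diagonal]
      exact ⟨_, rfl⟩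
    obtain ⟨d, hd⟩ := hdiag
    refine Units.ext ?_
    ext a b
    by_cases hab : a = b
    · subst hab; rw [uniGroup_apply_self h0 hu', Units.val_one, Matrix.one_apply_eq]
    · rw [hd, Matrix.diagonal_apply_ne _ hab, Units.val_one, Matrix.one_apply_ne hab]
  rw [hguc, hu1, one_mul, C.diagonalSubgroup_eq]
  exact ⟨c, rfl⟩

end CfsgLib.KnownSimple
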