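import Cfsg.Agent.Lib.KnownSimple.ChevG2Unipotent
import Cfsg.Agent.Lib.KnownSimple.ChevCentG2
import Cfsg.Agent.Lib.KnownSimple.ChevCentList
import Cfsg.Agent.Lib.KnownSimple.ChevPSylow

set_option autoImplicit false
set_option linter.unusedSectionVars false

/-!
The two classes of involutions of `G₂` in characteristic two.
-/

namespace CfsgLib.KnownSimple.G2Uni

open Cfsg.Lie CfsgLib.ChevStr CfsgLib.KnownSimple.RootCent
open scoped MatrixGroups

variable {F : Type*} [Field F] [CharP F 2]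

/-- Conjugacy under the group `G₂`. -/
def Rel (g h : GL chevG2.Idx F) : Prop := ∃ k ∈ chevG2.group F, k * g * k⁻¹ = h

theorem Rel.refl (g : GL chevG2.Idx F) : Rel g g := ⟨1, one_mem _, by group⟩

theorem Rel.symm {g h : GL chevG2.Idx F} (H : Rel g h) : Rel h g := by
  obtain ⟨k, hk, rfl⟩ := H
  exact ⟨k⁻¹, inv_mem hk, by group⟩

theorem Rel.trans {g h l : GL chevG2.Idx F} (H : Rel g h) (H' : Rel h l) : Rel g l := by
  obtain ⟨k, hk, rfl⟩ := H
  obtain ⟨k', hk', rfl⟩ := H'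
  exact ⟨k' * k, mul_mem hk' hk, by group⟩

theorem X_mem (r : ℕ) (t : F) : X r t ∈ chevG2.group F := (coreG2 F).xGL_mem_group r t

theorem E_mem (a b c d e f : F) : E a b c d e f ∈ chevG2.group F := by
  simp only [E]
  exact mul_mem (X_mem _ _) (mul_mem (X_mem _ _) (mul_mem (X_mem _ _)
    (mul_mem (X_mem _ _) (mul_mem (X_mem _ _) (X_mem _ _)))))

theorem E_congr {a b c d e f a' b' c' d' e' f' : F} (h1 : a = a') (h2 : b = b') (h3 : c = c')
    (h4 : d = d') (h5 : e = e') (h6 : f = f') : E a b c d e f = E a' b' c' d' e' f' := by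
  rw [h1, h2, h3, h4, h5, h6]

theorem rel_of_mul {g h k : GL chevG2.Idx F} (hk : k ∈ chevG2.group F) (h1 : g * k = k * h) :
    Rel g h :=
  ⟨k⁻¹, inv_mem hk, by rw [inv_inv, mul_assoc, h1, inv_mul_cancel_left]⟩

theorem Rel.ne_one {g h : GL chevG2.Idx F} (H : Rel g h) (hg : g ≠ 1) : h ≠ 1 := by
  obtain ⟨k, -, rfl⟩ := H
  exact fun e => hg (by rw [show g = k⁻¹ * (k * g * k⁻¹) * k by group, e]; group)

theorem Rel.sq_one {g h : GL chevG2.Idx F} (H : Rel g h) (hg : g * g = 1) : h * h = 1 := by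
  obtain ⟨k, -, rfl⟩ := H
  rw [show k * g * k⁻¹ * (k * g * k⁻¹) = k * (g * g) * k⁻¹ by group, hg]
  group

theorem E_zero : E (0 : F) 0 0 0 0 0 = 1 := by simp [E, X_zero]

theorem sq_eqs {a b c d e f : F} (h : E a b c d e f * E a b c d e f = 1) :
    a * b = 0 ∧ d * b + c * b ^ 2 = 0 ∧ e * a + c ^ 2 * b + d * c = 0 := by
  rw [E_mul_E, ← E_zero] at h
  obtain ⟨-, -, h8, -, h10, h11⟩ := E_inj h
  have h2 : (2 : F) = 0 := CharTwo.two_eq_zero
  have hab : a * b = 0 := by linear_combination h8 - c * h2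
  refine ⟨hab, ?_, ?_⟩
  · linear_combination h10 - (3 * b ^ 2) * hab - e * h2
  · linear_combination h11 - (4 * b * c + a * b ^ 2) * hab - f * h2

/-- A root element of a long or short root is conjugate to its standard one. -/
def Std (g : GL chevG2.Idx F) : Prop := Rel g (X 11 1) ∨ Rel g (X 9 1)

theorem Std.of_rel {g h : GL chevG2.Idx F} (H : Rel g h) (hh : Std h) : Std g :=
  hh.imp H.trans H.trans

/-- The representative of a fundamental reflection. -/
noncomputable def nRep (i : Fin chevG2.rank) : GL chevG2.Idx F := (coreG2 F).nS i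

theorem rel_reflect (i : Fin chevG2.rank) (r : ℕ) (hr : r < chevG2.nroots) :
    ∃ e : F, e ≠ 0 ∧ ∀ t : F, nRep i * X r t * (nRep i)⁻¹ = X (chevG2.reflectRoot i.val r) (e * t) := by
  obtain ⟨-, e, he⟩ := (coreG2 F).acts_nS i
  refine ⟨(e r : F), ?_, fun t => ?_⟩
  · rcases (he ⟨r, hr⟩).1 with h | h <;> simp only at h <;> simp [h]
  · exact (he ⟨r, hr⟩).2.2 t

theorem nRep_mem (i : Fin chevG2.rank) : nRep (F := F) i ∈ chevG2.group F :=
  (coreG2 F).monomial_le_group ((coreG2 F).nS_mem_monomial i)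

theorem step_root {r s : ℕ} (i : Fin chevG2.rank) (hr : r < chevG2.nroots)
    (h : chevG2.reflectRoot i.val r = s) {u : F} (hu : u ≠ 0) :
    ∃ v : F, v ≠ 0 ∧ Rel (X r u) (X s v) := by
  obtain ⟨e, he, h1⟩ := rel_reflect (F := F) i r hr
  refine ⟨e * u, mul_ne_zero he hu, nRep i, nRep_mem i, ?_⟩
  rw [h1, h]

theorem scale {r : ℕ} (i : Fin chevG2.rank) (hr : r < chevG2.nroots)
    (h : chevG2.cartan i.val r = 1) {u : F} (hu : u ≠ 0) : Rel (X r u) (X r 1) := by
  refine ⟨(coreG2 F).R.torusSingle i (Units.mk0 u⁻¹ (inv_ne_zero hu)),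
    (coreG2 F).borel_le_group ((coreG2 F).torus_mem_borel _), ?_⟩
  have := (coreG2 F).acts_torus (Pi.mulSingle i (Units.mk0 u⁻¹ (inv_ne_zero hu))) ⟨r, hr⟩ u
  simp only at this
  rw [(coreG2 F).R.torusChar_single i _ hr, h, zpow_one, Units.val_mk0, inv_mul_cancel₀ hu] at this
  exact this

theorem std11 {u : F} (hu : u ≠ 0) : Std (X 11 u) :=
  Or.inl (scale ⟨1, by decide⟩ (by decide) (by decide +kernel) hu)

theorem std9 {u : F} (hu : u ≠ 0) : Std (X 9 u) :=
  Or.inr (scale ⟨0, by decide⟩ (by decide) (by decide +kernel) hu)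

theorem std10 {u : F} (hu : u ≠ 0) : Std (X 10 u) := by
  obtain ⟨v, hv, h⟩ := step_root (r := 10) (s := 11) ⟨1, by decide⟩ (by decide) (by decide +kernel) hu
  exact (std11 hv).of_rel h

theorem std6 {u : F} (hu : u ≠ 0) : Std (X 6 u) := by
  obtain ⟨v, hv, h⟩ := step_root (r := 6) (s := 10) ⟨0, by decide⟩ (by decide) (by decide +kernel) hu
  exact (std10 hv).of_rel h

theorem std8 {u : F} (hu : u ≠ 0) : Std (X 8 u) := by
  obtain ⟨v, hv, h⟩ := step_root (r := 8) (s := 9) ⟨0, by decide⟩ (by decide) (by decide +kernel) hu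
  exact (std9 hv).of_rel h

theorem std7 {u : F} (hu : u ≠ 0) : Std (X 7 u) := by
  obtain ⟨v, hv, h⟩ := step_root (r := 7) (s := 8) ⟨1, by decide⟩ (by decide) (by decide +kernel) hu
  exact (std8 hv).of_rel h

variable [Finite F]

theorem exists_sqrt (x : F) : ∃ s : F, s ^ 2 = x := by
  cases nonempty_fintype F
  obtain ⟨s, hs⟩ := FiniteField.isSquare_of_char_two (F := F) (ringChar.eq F 2) x
  exact ⟨s, by rw [hs, sq]⟩

/-- The case of a leading short simple coordinate. -/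
theorem std_short {b e f : F} (hb : b ≠ 0) : Std (E 0 b 0 0 e f) := by
  obtain ⟨s, hs⟩ := exists_sqrt (f / b)
  have h2 : (2 : F) = 0 := CharTwo.two_eq_zero
  have hfb : s ^ 2 * b = f := by rw [hs, div_mul_cancel₀ _ hb]
  refine (std7 hb).of_rel (rel_of_mul (E_mem 0 0 s ((e + s * b ^ 2) / b) 0 0) ?_)
  have e1 : X 7 b = E 0 b 0 0 0 0 := by simp [E, X_zero]
  rw [e1, E_mul_E, E_mul_E]
  have hd : (e + s * b ^ 2) / b * b = e + s * b ^ 2 := div_mul_cancel₀ _ hb
  refine E_congr ?_ ?_ ?_ ?_ ?_ ?_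
  all_goals first
    | ring1
    | linear_combination -hd - s * b ^ 2 * h2
    | linear_combination -hfb

/-- The case of a root pair `x₈ x₁₀`. -/
theorem std_pair {c e f : F} (hc : c ≠ 0) : Std (E 0 0 c 0 e f) := by
  have h1 : Rel (E 0 0 c 0 e f) (E 0 0 c 0 e 0) := by
    refine rel_of_mul (E_mem 0 0 0 (f / c) 0 0) ?_
    rw [E_mul_E, E_mul_E]
    have hd : f / c * c = f := div_mul_cancel₀ _ hc
    refine E_congr ?_ ?_ ?_ ?_ ?_ ?_
    all_goals first
      | ring1
      | linear_combination -hd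
  obtain ⟨e1, he1, hn1⟩ := rel_reflect (F := F) ⟨1, by decide⟩ 8 (by decide)
  obtain ⟨e2, -, hn2⟩ := rel_reflect (F := F) ⟨1, by decide⟩ 10 (by decide)
  rw [show chevG2.reflectRoot 1 8 = 7 by decide +kernel] at hn1
  rw [show chevG2.reflectRoot 1 10 = 11 by decide +kernel] at hn2
  refine ((std_short (mul_ne_zero he1 hc) (e := 0) (f := e2 * e)).of_rel ?_).of_rel h1
  refine ⟨nRep ⟨1, by decide⟩, nRep_mem _, ?_⟩
  simp only [E, X_zero, one_mul, mul_one]
  rw [show ∀ (n x y : GL chevG2.Idx F), n * (x * y) * n⁻¹ = (n * x * n⁻¹) * (n * y * n⁻¹) from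
    fun n x y => by group, hn1, hn2]

theorem std_of_involution {a b c d e f : F} (h : E a b c d e f * E a b c d e f = 1)
    (hne : E a b c d e f ≠ 1) : Std (E a b c d e f) := by
  obtain ⟨hab, hdc, he⟩ := sq_eqs h
  have h2 : (2 : F) = 0 := CharTwo.two_eq_zero
  by_cases ha : a = 0
  swap
  · obtain rfl : b = 0 := (mul_eq_zero.1 hab).resolve_left ha
    obtain ⟨s, hs⟩ := exists_sqrt (d / a)
    have hsd : s ^ 2 * a = d := by rw [hs, div_mul_cancel₀ _ ha]
    have h1 : Rel (E a 0 c d e f) (E a 0 (c + a * s) 0 (e + d * s + c * s ^ 2 + a * s ^ 3)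
        (f + c ^ 2 * s + a * s ^ 2 * (c + a * s))) := by
      refine rel_of_mul (E_mem 0 s 0 0 0 0) ?_
      rw [E_mul_E, E_mul_E]
      refine E_congr ?_ ?_ ?_ ?_ ?_ ?_
      all_goals first
        | ring1
        | linear_combination -(a * s) * h2
        | linear_combination -hsd
        | linear_combination -(a * s ^ 3) * h2
        | linear_combination -(a * s ^ 2 * (c + a * s)) * h2
    obtain ⟨-, -, he'⟩ := sq_eqs (h1.sq_one h)
    have he0 : e + d * s + c * s ^ 2 + a * s ^ 3 = 0 := by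
      have : (e + d * s + c * s ^ 2 + a * s ^ 3) * a = 0 := by linear_combination he'
      exact (mul_eq_zero.1 this).resolve_right ha
    rw [he0] at h1
    generalize c + a * s = c' at h1
    generalize f + c ^ 2 * s + a * s ^ 2 * c' = f' at h1
    refine Std.of_rel h1 ?_
    have h3 : Rel (E a 0 c' 0 0 f') (E a 0 c' 0 0 0) := by
      refine rel_of_mul (E_mem 0 0 0 0 (f' / a) 0) ?_
      rw [E_mul_E, E_mul_E]
      have hd : f' / a * a = f' := div_mul_cancel₀ _ ha
      refine E_congr ?_ ?_ ?_ ?_ ?_ ?_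
      all_goals first
        | ring1
        | linear_combination -hd
    refine Std.of_rel h3 ?_
    by_cases hc : c' = 0
    · subst hc
      simpa [E, X_zero] using std6 ha
    obtain ⟨e1, he1, hn1⟩ := rel_reflect (F := F) ⟨0, by decide⟩ 6 (by decide)
    obtain ⟨e2, he2, hn2⟩ := rel_reflect (F := F) ⟨0, by decide⟩ 8 (by decide)
    rw [show chevG2.reflectRoot 0 6 = 10 by decide +kernel] at hn1
    rw [show chevG2.reflectRoot 0 8 = 9 by decide +kernel] at hn2
    have h4 : Rel (E a 0 c' 0 0 0) (E 0 0 0 (e2 * c') (e1 * a) 0) := by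
      refine ⟨nRep ⟨0, by decide⟩, nRep_mem _, ?_⟩
      simp only [E, X_zero, one_mul, mul_one]
      rw [show ∀ (n x y : GL chevG2.Idx F), n * (x * y) * n⁻¹ = (n * x * n⁻¹) * (n * y * n⁻¹) from
        fun n x y => by group, hn1, hn2, comm_of 10 9 (by decide +kernel)]
    refine Std.of_rel h4 (Std.of_rel ?_ (std9 (mul_ne_zero he2 hc)))
    refine rel_of_mul (E_mem 0 (e1 * a / (e2 * c')) 0 0 0 0) ?_
    rw [show X 9 (e2 * c') = E 0 0 0 (e2 * c') 0 0 by simp [E, X_zero], E_mul_E, E_mul_E]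
    have hd : e1 * a / (e2 * c') * (e2 * c') = e1 * a := div_mul_cancel₀ _ (mul_ne_zero he2 hc)
    refine E_congr ?_ ?_ ?_ ?_ ?_ ?_
    all_goals first
      | ring1
      | linear_combination hd + e1 * a * h2
  subst ha
  by_cases hb : b = 0
  swap
  · have hd : d + c * b = 0 := by
      have : (d + c * b) * b = 0 := by linear_combination hdc
      exact (mul_eq_zero.1 this).resolve_right hb
    have hc' : c / b * b = c := div_mul_cancel₀ _ hb
    refine Std.of_rel (rel_of_mul (h := E 0 b 0 0 (e + b ^ 3 * (c / b))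
      (f + e * (c / b) + b ^ 2 * (c / b) * c)) (E_mem (c / b) 0 0 0 0 0) ?_) (std_short hb)
    rw [E_mul_E, E_mul_E]
    refine E_congr ?_ ?_ ?_ ?_ ?_ ?_
    all_goals first
      | ring1
      | linear_combination hc' + c * h2
      | linear_combination hd + b * hc'
  subst hb
  have hdc' : d * c = 0 := by linear_combination he
  by_cases hc : c = 0
  swap
  · obtain rfl : d = 0 := (mul_eq_zero.1 hdc').resolve_right hc
    exact std_pair hc
  subst hc
  by_cases hd : d = 0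
  swap
  · refine Std.of_rel ?_ (std9 hd)
    refine rel_of_mul (E_mem 0 (e / d) (f / d) 0 0 0) ?_
    rw [show X 9 d = E 0 0 0 d 0 0 by simp [E, X_zero], E_mul_E, E_mul_E]
    have h8 : e / d * d = e := div_mul_cancel₀ _ hd
    have h9 : f / d * d = f := div_mul_cancel₀ _ hd
    refine E_congr ?_ ?_ ?_ ?_ ?_ ?_
    all_goals first
      | ring1
      | linear_combination h8 + e * h2
      | linear_combination h9 + f * h2
  subst hd
  by_cases he0 : e = 0
  · subst he0
    have hf : f ≠ 0 := by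
      rintro rfl
      exact hne E_zero
    simpa [E, X_zero] using std11 hf
  · refine Std.of_rel ?_ (std10 he0)
    refine rel_of_mul (E_mem (f / e) 0 0 0 0 0) ?_
    rw [show X 10 e = E 0 0 0 0 e 0 by simp [E, X_zero], E_mul_E, E_mul_E]
    have h8 : f / e * e = f := div_mul_cancel₀ _ he0
    refine E_congr ?_ ?_ ?_ ?_ ?_ ?_
    all_goals first
      | ring1
      | linear_combination h8 + f * h2

theorem exists_std {g : GL chevG2.Idx F} (hg : g ∈ chevG2.group F) (h : orderOf g = 2) : Std g := by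
  cases nonempty_fintype F
  have : Fact (Nat.Prime 2) := ⟨Nat.prime_two⟩
  have hU : IsPGroup 2 (Subgroup.zpowers g) :=
    IsPGroup.of_card (n := 1) (by rw [Nat.card_zpowers, h, pow_one])
  obtain ⟨k, hk, hku⟩ := ChevPSylow.exists_conj_le_posUnipotent (coreG2 F) 2
    (Subgroup.zpowers_le.2 hg) hU
  obtain ⟨a, b, c, d, e, f, hE⟩ := exists_E (hku g (Subgroup.mem_zpowers g))
  have hrel : Rel g (E a b c d e f) := ⟨k⁻¹, inv_mem hk, by rw [inv_inv]; exact hE⟩
  have hgg : g * g = 1 := by rw [← sq, ← h, pow_orderOf_eq_one]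
  have hg1 : g ≠ 1 := fun e => by rw [e, orderOf_one] at h; exact absurd h (by norm_num)
  exact Std.of_rel hrel (std_of_involution (hrel.sq_one hgg) (hrel.ne_one hg1))

theorem not_rel : ¬ Rel (X 11 (1 : F)) (X 9 1) := by
  rintro ⟨g, hg, hgx⟩
  have hx : X 11 (1 : F) = (coreG2 F).xGL 11 1 := rfl
  have hy : X 9 (1 : F) = (coreG2 F).xGL 9 1 := rfl
  rw [hx, hy] at hgx
  obtain ⟨n, hn, hcell⟩ := (coreG2 F).exists_bigCell hg
  obtain ⟨a, ha, b, hb, rfl⟩ := (coreG2 F).mem_bigCell.1 hcell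
  obtain ⟨w, hw, -⟩ := (coreG2 F).exists_moves hn
  have hbx : b * (coreG2 F).xGL 11 1 * b⁻¹ ∈ UL (coreG2 F) [11] :=
    (Subgroup.mem_normalizer_iff.1 (borel_le_normalizer_mod (coreG2 F) 2 (S := [11])
      (by decide +kernel) (by decide +kernel) hb) _).1
      ((coreG2 F).xGL_mem_Ucl (S := {k | k ∈ [11]}) (List.mem_singleton.2 rfl) 1)
  rw [← rootSubgroup_eq_UL, (coreG2 F).mem_rootSubgroup] at hbx
  obtain ⟨t, ht⟩ := hbx
  obtain ⟨u, hu⟩ := hw.2 ⟨11, by decide⟩ t
  have hmem : (coreG2 F).xGL (w ⟨11, by decide⟩ : Fin chevG2.nroots) u = a⁻¹ * (coreG2 F).xGL 9 1 * a⁻¹⁻¹ := by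
    rw [← hu, ← ht, ← hgx]
    group
  have hN : a⁻¹ * (coreG2 F).xGL 9 1 * a⁻¹⁻¹ ∈ UL (coreG2 F) [9, 10, 11] :=
    (Subgroup.mem_normalizer_iff.1 (borel_le_normalizer_mod (coreG2 F) 2 (S := [9, 10, 11])
      (by decide +kernel) (by decide +kernel) (inv_mem ha)) _).1
      ((coreG2 F).xGL_mem_Ucl (S := {k | k ∈ [9, 10, 11]}) (List.mem_cons_self ..) 1)
  have hu0 : u ≠ 0 := by
    rintro rfl
    rw [(coreG2 F).xGL_zero] at hmem
    have : (coreG2 F).xGL 9 (1 : F) = 1 := by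
      rw [show (coreG2 F).xGL 9 (1 : F) = a * (a⁻¹ * (coreG2 F).xGL 9 1 * a⁻¹⁻¹) * a⁻¹ by group, ← hmem]
      group
    exact one_ne_zero (((coreG2 F).xGL_eq_one_iff (by decide : 9 < chevG2.nroots)).1 this)
  have hnc : (coreG2 F).R.IsClosed {k | k ∈ [9, 10, 11]} :=
    (noCombo_of_gap (coreG2 F) ⟨⟨0, by decide⟩, G2.gapT⟩).isClosed (coreG2 F)
      (G2.dataT (F := F)).S_pos
  have hwmem : ((w ⟨11, by decide⟩ : Fin chevG2.nroots) : ℕ) ∈ [9, 10, 11] :=
    ChevRadical.root_mem_of_mem_Ucl (coreG2 F) hnc (Fin.isLt _) hu0 (hmem ▸ hN)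
  have hcl := (G2.dataT (F := F)).cl_weyl w hw.1 ⟨11, by decide⟩
  have hlong : ∀ k ∈ [9, 10, 11], G2.isLong k = G2.isLong 11 → k ∈ [10, 11] := by decide +kernel
  have h1 : a⁻¹ * (coreG2 F).xGL 9 1 * a⁻¹⁻¹ ∈ UL (coreG2 F) [10, 11] := by
    rw [← hmem]
    exact (coreG2 F).xGL_mem_Ucl (S := {k | k ∈ [10, 11]}) (hlong _ hwmem hcl) u
  have h2 : (coreG2 F).xGL 9 (1 : F) ∈ UL (coreG2 F) [10, 11] :=
    (Subgroup.mem_normalizer_iff.1 (borel_le_normalizer_mod (coreG2 F) 2 (S := [10, 11])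
      (by decide +kernel) (by decide +kernel) (inv_mem ha)) _).2 h1
  have hc : (coreG2 F).R.IsClosed {k | k ∈ [10, 11]} := by
    refine ((noCombo_of_gap (coreG2 F) ⟨⟨0, by decide⟩, G2.gapT⟩).mono (coreG2 F) ?_).isClosed
      (coreG2 F) fun r hr => (G2.dataT (F := F)).S_pos r (List.mem_cons_of_mem _ hr)
    exact fun r hr => List.mem_cons_of_mem _ hr
  have := ChevRadical.root_mem_of_mem_Ucl (coreG2 F) hc (by decide) one_ne_zero h2
  simp at this

theorem orderOf_X {r : ℕ} (hr : r < chevG2.nroots) : orderOf (X r (1 : F)) = 2 := by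
  have : Fact (Nat.Prime 2) := ⟨Nat.prime_two⟩
  refine orderOf_eq_prime ?_ ?_
  · rw [sq, ← X_add, CharTwo.add_self_eq_zero, X_zero]
  · exact fun h => one_ne_zero (((coreG2 F).xGL_eq_one_iff hr).1 h)

end CfsgLib.KnownSimple.G2Uni
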