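import Cfsg.Agent.Lib.KnownSimple.ChevRootCentTools

set_option autoImplicit false
set_option linter.unusedSectionVars false

/-!
The multiplication of the unipotent group of `G₂` in characteristic two, in ordered coordinates.
-/

namespace CfsgLib.KnownSimple.G2Uni

open Cfsg.Lie CfsgLib.ChevStr CfsgLib.KnownSimple.RootCent
open scoped MatrixGroups

variable {F : Type*} [Field F] [CharP F 2]

/-- A root element of `G₂`. -/
noncomputable def X (r : ℕ) (t : F) : GL chevG2.Idx F := (coreG2 F).xGL r t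

theorem X_add (r : ℕ) (t u : F) : X r (t + u) = X r t * X r u := (coreG2 F).xGL_add r t u

theorem X_zero (r : ℕ) : X r (0 : F) = 1 := (coreG2 F).xGL_zero r

theorem X_mul_assoc (r : ℕ) (t u : F) (z : GL chevG2.Idx F) :
    X r t * (X r u * z) = X r (t + u) * z := by rw [X_add, mul_assoc]

theorem comm_of (r s : ℕ) (h : commCheck chevG2 2 [r] [s] = true) (t u : F) :
    X r t * X s u = X s u * X r t :=
  (commute_of_commCheck (coreG2 F) 2 h (List.mem_singleton.2 rfl) (List.mem_singleton.2 rfl) t u).eq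

theorem comm_of' (r s : ℕ) (h : commCheck chevG2 2 [r] [s] = true) (t u : F) (z : GL chevG2.Idx F) :
    X r t * (X s u * z) = X s u * (X r t * z) := by
  rw [← mul_assoc, comm_of r s h, mul_assoc]

theorem three_eq_one : (3 : F) = 1 := by
  have h : (2 : F) = 0 := CharTwo.two_eq_zero
  linear_combination h

theorem x76 (b t : F) :
    X 7 b * X 6 t = X 6 t * (X 7 b * (X 8 (b * t) * (X 9 (b ^ 2 * t) * X 10 (b ^ 3 * t)))) := by
  have h := (coreG2 F).xGL_comm (r := 6) (s := 7) (by decide) (by decide) (by decide)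
    (by decide +kernel) t b
  have ht : chevG2.commTerms 6 7 = [(8, 1, 1, 1), (9, 1, 1, 2), (10, -1, 1, 3), (11, -2, 2, 3)] := by
    decide +kernel
  simp only [X]
  rw [h, mul_assoc]
  simp [ChevalleyDatum.commWord, ht, ChevCore.wordGL, CharTwo.neg_eq, CharTwo.two_eq_zero,
    (coreG2 F).xGL_zero, mul_comm]

theorem x87 (c t : F) :
    X 8 c * X 7 t = X 7 t * (X 8 c * (X 10 (c * t ^ 2) * X 11 (c ^ 2 * t))) := by
  have h := (coreG2 F).xGL_comm (r := 7) (s := 8) (by decide) (by decide) (by decide)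
    (by decide +kernel) t c
  have ht : chevG2.commTerms 7 8 = [(9, -2, 1, 1), (10, -3, 2, 1), (11, 3, 1, 2)] := by
    decide +kernel
  simp only [X]
  rw [h, mul_assoc]
  simp [ChevalleyDatum.commWord, ht, ChevCore.wordGL, CharTwo.neg_eq, CharTwo.two_eq_zero,
    three_eq_one, (coreG2 F).xGL_zero, mul_comm]

theorem x97 (d t : F) : X 9 d * X 7 t = X 7 t * (X 9 d * X 10 (d * t)) := by
  have h := (coreG2 F).xGL_comm (r := 7) (s := 9) (by decide) (by decide) (by decide)
    (by decide +kernel) t d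
  have ht : chevG2.commTerms 7 9 = [(10, 3, 1, 1)] := by decide +kernel
  simp only [X]
  rw [h, mul_assoc]
  simp [ChevalleyDatum.commWord, ht, ChevCore.wordGL, CharTwo.neg_eq, three_eq_one, mul_comm]

theorem x98 (d t : F) : X 9 d * X 8 t = X 8 t * (X 9 d * X 11 (d * t)) := by
  have h := (coreG2 F).xGL_comm (r := 8) (s := 9) (by decide) (by decide) (by decide)
    (by decide +kernel) t d
  have ht : chevG2.commTerms 8 9 = [(11, 3, 1, 1)] := by decide +kernel
  simp only [X]
  rw [h, mul_assoc]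
  simp [ChevalleyDatum.commWord, ht, ChevCore.wordGL, CharTwo.neg_eq, three_eq_one, mul_comm]

theorem x106 (e t : F) : X 10 e * X 6 t = X 6 t * (X 10 e * X 11 (e * t)) := by
  have h := (coreG2 F).xGL_comm (r := 6) (s := 10) (by decide) (by decide) (by decide)
    (by decide +kernel) t e
  have ht : chevG2.commTerms 6 10 = [(11, 1, 1, 1)] := by decide +kernel
  simp only [X]
  rw [h, mul_assoc]
  simp [ChevalleyDatum.commWord, ht, ChevCore.wordGL, CharTwo.neg_eq, mul_comm]

/-- The element with the given coordinates. -/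
noncomputable def E (a b c d e f : F) : GL chevG2.Idx F :=
  X 6 a * (X 7 b * (X 8 c * (X 9 d * (X 10 e * X 11 f))))

theorem E_mul_X11 (a b c d e f t : F) : E a b c d e f * X 11 t = E a b c d e (f + t) := by
  simp only [E, mul_assoc, X_add]

theorem E_mul_X10 (a b c d e f t : F) : E a b c d e f * X 10 t = E a b c d (e + t) f := by
  simp only [E, mul_assoc]
  rw [comm_of 11 10 (by decide +kernel), X_mul_assoc 10]

theorem E_mul_X9 (a b c d e f t : F) : E a b c d e f * X 9 t = E a b c (d + t) e f := by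
  simp only [E, mul_assoc]
  rw [comm_of 11 9 (by decide +kernel), comm_of' 10 9 (by decide +kernel), X_mul_assoc 9]

theorem E_mul_X8 (a b c d e f t : F) :
    E a b c d e f * X 8 t = E a b (c + t) d e (f + d * t) := by
  simp only [E, mul_assoc]
  rw [comm_of 11 8 (by decide +kernel), comm_of' 10 8 (by decide +kernel), ← mul_assoc (X 9 d),
    x98, mul_assoc, X_mul_assoc 8, mul_assoc]
  rw [comm_of' 11 10 (by decide +kernel), ← X_add, add_comm (d * t) f]

theorem E_mul_X7 (a b c d e f t : F) : E a b c d e f * X 7 t =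
    E a (b + t) c d (e + d * t + c * t ^ 2) (f + c ^ 2 * t) := by
  simp only [E, mul_assoc]
  rw [comm_of 11 7 (by decide +kernel), comm_of' 10 7 (by decide +kernel), ← mul_assoc (X 9 d),
    x97, mul_assoc, mul_assoc, ← mul_assoc (X 8 c), x87, mul_assoc, X_mul_assoc 7]
  simp only [mul_assoc]
  rw [comm_of' 11 9 (by decide +kernel), comm_of' 10 9 (by decide +kernel),
    comm_of' 11 10 (by decide +kernel), X_mul_assoc 10, comm_of' 11 10 (by decide +kernel),
    X_mul_assoc 10, ← X_add, add_comm (c ^ 2 * t) f,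
    show c * t ^ 2 + d * t + e = e + d * t + c * t ^ 2 by ring]

theorem E_mul_X6 (a b c d e f t : F) : E a b c d e f * X 6 t =
    E (a + t) b (c + b * t) (d + b ^ 2 * t) (e + b ^ 3 * t) (f + e * t + b ^ 2 * t * c) := by
  simp only [E, mul_assoc]
  rw [comm_of 11 6 (by decide +kernel), ← mul_assoc (X 10 e), x106, mul_assoc, mul_assoc,
    comm_of' 9 6 (by decide +kernel), comm_of' 8 6 (by decide +kernel), ← mul_assoc (X 7 b), x76,
    mul_assoc, X_mul_assoc 6]
  simp only [mul_assoc]
  rw [comm_of' 10 8 (by decide +kernel), ← mul_assoc (X 9 (b ^ 2 * t)), x98, mul_assoc,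
    mul_assoc, X_mul_assoc 8, comm_of' 11 10 (by decide +kernel), comm_of' 11 9 (by decide +kernel),
    comm_of' 10 9 (by decide +kernel), X_mul_assoc 9, comm_of' 11 10 (by decide +kernel),
    X_mul_assoc 10, ← X_add, ← X_add, add_comm (b * t) c, add_comm (b ^ 2 * t) d,
    add_comm (b ^ 3 * t) e, show b ^ 2 * t * c + (e * t + f) = f + e * t + b ^ 2 * t * c by ring,
    mul_assoc (b ^ 2) t c]

theorem E_mul_E (a b c d e f a' b' c' d' e' f' : F) : E a b c d e f * E a' b' c' d' e' f' =
    E (a + a') (b + b') (c + b * a' + c') (d + b ^ 2 * a' + d')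
      (e + b ^ 3 * a' + (d + b ^ 2 * a') * b' + (c + b * a') * b' ^ 2 + e')
      (f + e * a' + b ^ 2 * a' * c + (c + b * a') ^ 2 * b' + (d + b ^ 2 * a') * c' + f') := by
  conv_lhs => arg 2; unfold E
  simp only [← mul_assoc]
  rw [E_mul_X6, E_mul_X7, E_mul_X8, E_mul_X9, E_mul_X10, E_mul_X11]

theorem exists_E {g : GL chevG2.Idx F} (hg : g ∈ chevG2.posUnipotent F) :
    ∃ a b c d e f, g = E a b c d e f := by
  have hset : ∀ r, r < chevG2.nroots → (r ∈ [6, 7, 8, 9, 10, 11] ↔ chevG2.IsPosRoot r) := by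
    decide +kernel
  have heq : {r | r ∈ [6, 7, 8, 9, 10, 11]} = {r | chevG2.IsPosRoot r} := by
    refine Set.ext fun r => ⟨fun hr => (hset r ?_).1 hr, fun hr => (hset r hr.1).2 hr⟩
    have h : ∀ r ∈ [6, 7, 8, 9, 10, 11], r < chevG2.nroots := by decide +kernel
    exact h r hr
  obtain ⟨u, rfl⟩ := (coreG2 F).exists_word (L := [6, 7, 8, 9, 10, 11]) (by decide)
    (heq ▸ (coreG2 F).R.isClosed_pos) g (by rw [heq, ← (coreG2 F).posUnipotent_eq]; exact hg)
  refine ⟨u 6, u 7, u 8, u 9, u 10, u 11, ?_⟩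
  simp [E, X, (coreG2 F).word_cons, (coreG2 F).word_nil]

theorem E_inj {a b c d e f a' b' c' d' e' f' : F} (h : E a b c d e f = E a' b' c' d' e' f') :
    a = a' ∧ b = b' ∧ c = c' ∧ d = d' ∧ e = e' ∧ f = f' := by
  have hpos : ∀ r ∈ [6, 7, 8, 9, 10, 11], chevG2.IsPosRoot r := by decide +kernel
  have h' := (coreG2 F).word_injective (L := [6, 7, 8, 9, 10, 11]) (by decide) hpos
    (fun r => [a, b, c, d, e, f].getD (r - 6) 0) (fun r => [a', b', c', d', e', f'].getD (r - 6) 0)
    (by simpa [E, X, (coreG2 F).word_cons, (coreG2 F).word_nil] using h)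
  refine ⟨?_, ?_, ?_, ?_, ?_, ?_⟩
  · simpa using h' 6 (by simp)
  · simpa using h' 7 (by simp)
  · simpa using h' 8 (by simp)
  · simpa using h' 9 (by simp)
  · simpa using h' 10 (by simp)
  · simpa using h' 11 (by simp)

end CfsgLib.KnownSimple.G2Uni
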