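import Cfsg.Agent.Lib.KnownSimple.ChevSimpleGen

set_option autoImplicit false

/-!
A graph automorphism maps every root element to a root element up to a sign (one root length).
-/

namespace CfsgLib.KnownSimple

open Cfsg.Lie CfsgLib.ChevStr
open scoped MatrixGroups

/-- a node permutation preserves the bonds -/
def symB (D : ChevalleyDatum) (π : Equiv.Perm (Fin D.rank)) : Bool :=
  (List.finRange D.rank).all fun i => (List.finRange D.rank).all fun j =>
    decide (i = j) || decide (D.bonds (π i).val (π j).val = D.bonds i.val j.val)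

/-- the induced permutation of the roots commutes with the reflections -/
def equivB (D : ChevalleyDatum) (π : Equiv.Perm (Fin D.rank)) : Bool :=
  (List.finRange D.rank).all fun i => decide (D.permRoot π (D.simple i.val) = D.simple (π i).val) &&
    ((List.range D.nroots).all fun s => decide (D.permRoot π s < D.nroots) &&
      decide (D.permRoot π (D.reflectRoot i.val s) = D.reflectRoot (π i).val (D.permRoot π s)))

theorem equivB_D4 : ∀ π : Equiv.Perm (Fin chevD4.rank), (!symB chevD4 π || equivB chevD4 π) = true := by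
  decide +kernel

theorem equivB_E6 : ∀ π : Equiv.Perm (Fin chevE6.rank), (!symB chevE6 π || equivB chevE6 π) = true := by
  decide +kernel

variable {D : ChevalleyDatum} {F : Type*} [Field F] (C : ChevCore D F)

include C in
theorem graph_signs (π : Equiv.Perm (Fin D.rank)) (he : equivB D π = true)
    (φ : ↥(D.group F) ≃* ↥(D.group F))
    (hφ : ∀ (g : ↥(D.group F)) (i : Fin D.rank) (t : F),
      (((g : GL D.Idx F) : Matrix D.Idx D.Idx F) = D.x F (D.simple i.val) t →
        ((φ g : GL D.Idx F) : Matrix D.Idx D.Idx F) = D.x F (D.simple (π i).val) t) ∧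
      (((g : GL D.Idx F) : Matrix D.Idx D.Idx F) = D.x F (D.neg (D.simple i.val)) t →
        ((φ g : GL D.Idx F) : Matrix D.Idx D.Idx F) = D.x F (D.neg (D.simple (π i).val)) t))
    (r : ℕ) (hr : r < D.nroots) :
    ∃ ε : F, (ε = 1 ∨ ε = -1) ∧ ∀ (g : ↥(D.group F)) (t : F),
      ((g : GL D.Idx F) : Matrix D.Idx D.Idx F) = D.x F r t →
        ((φ g : GL D.Idx F) : Matrix D.Idx D.Idx F) = D.x F (D.permRoot π r) (ε * t) := by
  simp only [equivB, List.all_eq_true, List.mem_finRange, true_implies, List.mem_range,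
    Bool.and_eq_true, decide_eq_true_eq] at he
  let X : ℕ → F → ↥(D.group F) := fun s t => ⟨C.xGL s t, C.xGL_mem_group s t⟩
  let N : Fin D.rank → ↥(D.group F) := fun i => ⟨C.nS i, C.nGL_mem_group _ _⟩
  have hX : ∀ (g : ↥(D.group F)) s t, ((g : GL D.Idx F) : Matrix D.Idx D.Idx F) = D.x F s t → g = X s t :=
    fun g s t h => Subtype.ext (Units.ext h)
  have hsimple : ∀ i t, φ (X (D.simple i.val) t) = X (D.simple (π i).val) t := fun i t =>
    hX _ _ _ ((hφ (X (D.simple i.val) t) i t).1 rfl)
  have hneg : ∀ i t, φ (X (D.neg (D.simple i.val)) t) = X (D.neg (D.simple (π i).val)) t := fun i t =>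
    hX _ _ _ ((hφ (X (D.neg (D.simple i.val)) t) i t).2 rfl)
  have hN : ∀ i, φ (N i) = N (π i) := by
    intro i
    have hw : ∀ j : Fin D.rank,
        N j = X (D.simple j.val) 1 * (X (D.neg (D.simple j.val)) (-1⁻¹) * X (D.simple j.val) 1) := by
      intro j
      apply Subtype.ext
      show C.nS j = _
      simp only [X, Subgroup.coe_mul, ChevCore.nS, ChevCore.nGL, ChevalleyDatum.nWord, C.wordGL_cons,
        C.wordGL_nil, mul_one]
    rw [hw, hw, map_mul, map_mul, hsimple, hneg]
  let P : ℕ → Prop := fun s => ∃ ε : F, (ε = 1 ∨ ε = -1) ∧ ∀ t, φ (X s t) = X (D.permRoot π s) (ε * t)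
  have hbase : ∀ i : Fin D.rank, P (D.simple i.val) := fun i =>
    ⟨1, Or.inl rfl, fun t => by rw [one_mul, (he i).1]; exact hsimple i t⟩
  have hstep : ∀ (i : Fin D.rank) (s : ℕ), s < D.nroots → P s → P (D.reflectRoot i.val s) := by
    rintro i s hs ⟨ε, hε, h⟩
    obtain ⟨-, e, he1⟩ := C.acts_nS i
    obtain ⟨-, e', he2⟩ := C.acts_nS (π i)
    obtain ⟨hsgn, -, hconj⟩ := he1 ⟨s, hs⟩
    obtain ⟨hsgn', -, hconj'⟩ := he2 ⟨D.permRoot π s, ((he i).2 s hs).1⟩
    have hee : (e s : F) * (e s : F) = 1 := by rcases hsgn with h | h <;> simp [h]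
    refine ⟨(e' (D.permRoot π s) : F) * ε * (e s : F), ?_, fun t => ?_⟩
    · rcases hε with rfl | rfl <;> rcases hsgn with h1 | h1 <;> rcases hsgn' with h2 | h2 <;>
        simp [h1, h2]
    · have h1 : X (D.reflectRoot i.val s) t = N i * X s ((e s : F) * t) * (N i)⁻¹ := by
        apply Subtype.ext
        show C.xGL _ t = C.nS i * C.xGL s _ * (C.nS i)⁻¹
        rw [hconj, ← mul_assoc, hee, one_mul]
        rfl
      rw [h1, map_mul, map_mul, map_inv, hN, h, ((he i).2 s hs).2]
      apply Subtype.ext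
      show C.nS (π i) * C.xGL _ _ * (C.nS (π i))⁻¹ = C.xGL _ _
      rw [hconj']
      congr 1
      ring
  obtain ⟨w, hw, k, hk⟩ := C.exists_simple_image ⟨r, hr⟩
  have hPr : P r := by
    have hall : ∀ v ∈ C.hR.weyl, ∀ s : Fin D.nroots, P s.val → P (v s).val := by
      intro v hv
      induction hv using Subgroup.closure_induction_left with
      | one => exact fun s hs => hs
      | mul_left x hx z _ ih =>
        obtain ⟨i, rfl⟩ := hx
        intro s hs
        rw [Equiv.Perm.mul_apply, C.hR.sPerm_val]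
        exact hstep i _ (z s).isLt (ih s hs)
      | inv_mul_cancel x hx z _ ih =>
        obtain ⟨i, rfl⟩ := hx
        intro s hs
        rw [inv_eq_of_mul_eq_one_right (C.hR.sPerm_mul_self i), Equiv.Perm.mul_apply, C.hR.sPerm_val]
        exact hstep i _ (z s).isLt (ih s hs)
    have := hall w hw ⟨D.simple k.val, C.R.simple_lt k⟩ (hbase k)
    rwa [hk] at this
  obtain ⟨ε, hε, h⟩ := hPr
  refine ⟨ε, hε, fun g t hg => ?_⟩
  rw [hX g r t hg, h t]
  rfl

end CfsgLib.KnownSimple
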