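import Cfsg.Agent.Lib.KnownSimple.ChevRootCentralizer
import Cfsg.Agent.Lib.ChevStr.InstanceTables

set_option autoImplicit false
set_option linter.unusedSectionVars false

/-!
Small tools for applying the root centraliser criterion to tabulated types in characteristic two.
-/

namespace CfsgLib.KnownSimple.RootCent

open Cfsg.Lie CfsgLib.ChevStr
open scoped MatrixGroups

/-- All roots of `L` commute with all roots of `E`. -/
def commCheck (D : ChevalleyDatum) (p : ℕ) (L E : List ℕ) : Bool :=
  L.all fun r => E.all fun e => decide (r < D.nroots) && decide (e < D.nroots) && termsInto D p [] r e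

variable {D : ChevalleyDatum} {F : Type*} [Field F] (C : ChevCore D F) (p : ℕ) [CharP F p]

theorem commute_of_commCheck {L E : List ℕ} (h : commCheck D p L E = true) {r e : ℕ} (hr : r ∈ L)
    (he : e ∈ E) (t u : F) : Commute (C.xGL r t) (C.xGL e u) := by
  simp only [commCheck, List.all_eq_true, Bool.and_eq_true, decide_eq_true_eq] at h
  obtain ⟨⟨h1, h2⟩, h3⟩ := h r hr e he
  exact commute_mod C p h1 h2 h3 t u

theorem Ucl_centralizes {L E : List ℕ} (h : commCheck D p L E = true) {v : GL D.Idx F}
    (hv : v ∈ UL C E) {x : GL D.Idx F} (hx : x ∈ UL C L) : x * v * x⁻¹ = v := by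
  have hle : UL C L ≤ Subgroup.centralizer (UL C E : Set (GL D.Idx F)) := by
    refine C.Ucl_le fun r hr t => Subgroup.mem_centralizer_iff.2 fun y hy => ?_
    have hle2 : UL C E ≤ Subgroup.centralizer ({C.xGL r t} : Set (GL D.Idx F)) :=
      C.Ucl_le fun e he u => Subgroup.mem_centralizer_iff.2 fun z hz => by
        rw [Set.mem_singleton_iff] at hz
        subst hz
        exact commute_of_commCheck C p h hr he t u
    exact (Subgroup.mem_centralizer_iff.1 (hle2 hy) _ rfl).symm
  rw [← Subgroup.mem_centralizer_iff.1 (hle hx) v hv]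
  group

variable [CharP F 2]

/-- Conjugating a root element by one with a single odd commutator term, in characteristic two. -/
theorem conj_single {r s k : ℕ} {c : ℤ} (hr : r < D.nroots) (hs : s < D.nroots) (hk : k < D.nroots)
    (h1 : r ≠ s) (h2 : r ≠ D.neg s) (hterms : D.commTerms s r = [(k, c, 1, 1)]) (hc : c % 2 = 1)
    (hrk : termsInto D 2 [] r k = true) (u : F) :
    C.xGL r u * C.xGL s 1 * (C.xGL r u)⁻¹ = C.xGL s 1 * C.xGL k u := by
  have h := C.xGL_comm hs hr h1 h2 1 u
  have hW : C.wordGL (D.commWord F s r 1 u) = C.xGL k u := by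
    have hc2 : (c : F) = 1 := by
      have h3 : ((c - 1 : ℤ) : F) = 0 := (CharP.intCast_eq_zero_iff F 2 _).2 (by omega)
      rw [Int.cast_sub, Int.cast_one, sub_eq_zero] at h3
      exact h3
    simp [ChevalleyDatum.commWord, hterms, ChevCore.wordGL, hc2, CharTwo.neg_eq]
  rw [h, hW]
  have hcm := commute_mod C 2 hr hk hrk u u
  rw [mul_assoc (C.xGL s 1), hcm.eq]
  group

theorem conj_commute {r s : ℕ} (hr : r < D.nroots) (hs : s < D.nroots)
    (h : termsInto D 2 [] r s = true) (u t : F) :
    C.xGL r u * C.xGL s t * (C.xGL r u)⁻¹ = C.xGL s t := by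
  rw [(commute_mod C 2 hr hs h u t).eq]; group

end CfsgLib.KnownSimple.RootCent
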