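import Cfsg.Agent.Lib.KnownSimple.ChevLevels
import Cfsg.Agent.Lib.KnownSimple.ChevParabolicRadical

set_option autoImplicit false
set_option linter.unusedSectionVars false

/-!
Centralisers of products of commuting root elements: a table-checked criterion forcing the Weyl
part of a centralising element into the stabiliser of an optimal functional.
-/

namespace CfsgLib.KnownSimple.RootCent

open Cfsg.Lie CfsgLib.ChevStr CfsgLib.KnownSimple.ChevLevels
open scoped MatrixGroups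

/-- The commutator terms of two roots lie in `S` or have coefficient divisible by `p`. -/
def termsInto (D : ChevalleyDatum) (p : ℕ) (S : List ℕ) (r s : ℕ) : Bool :=
  decide (r = s) || (decide (r ≠ D.neg s) && decide (s ≠ D.neg r) &&
    (D.commTerms r s).all fun c => decide (c.1 ∈ S) || decide (c.2.1 % (p : ℤ) = 0))

/-- Every root of `L` normalises the subgroup of `S`. -/
def normCheck (D : ChevalleyDatum) (p : ℕ) (L S : List ℕ) : Bool :=
  L.all fun r => S.all fun s => termsInto D p S r s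

/-- The positive roots. -/
def posList (D : ChevalleyDatum) : List ℕ := (List.range D.nroots).filter fun r => decide (D.IsPosRoot r)

theorem mem_posList {D : ChevalleyDatum} {r : ℕ} : r ∈ posList D ↔ D.IsPosRoot r := by
  simp only [posList, List.mem_filter, List.mem_range, decide_eq_true_eq]
  exact ⟨fun h => h.2, fun h => ⟨h.1, h⟩⟩

variable {D : ChevalleyDatum} {F : Type*} [Field F] (C : ChevCore D F)

/-- The subgroup of a list of roots. -/
abbrev UL (S : List ℕ) : Subgroup (GL D.Idx F) := C.Ucl {k | k ∈ S}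

variable (p : ℕ) [CharP F p]

theorem commWord_mem_mod {S : List ℕ} {r s : ℕ} (hne : r ≠ s) (h : termsInto D p S r s = true) (t u : F) :
    C.wordGL (D.commWord F r s t u) ∈ UL C S := by
  simp only [termsInto, Bool.or_eq_true, decide_eq_true_eq, Bool.and_eq_true, List.all_eq_true] at h
  obtain ⟨-, hc⟩ := h.resolve_left hne
  refine Subgroup.list_prod_mem _ fun x hx => ?_
  simp only [List.mem_map, ChevalleyDatum.commWord] at hx
  obtain ⟨q, ⟨c, hmem, rfl⟩, rfl⟩ := hx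
  rcases hc c hmem with h1 | h1
  · exact C.xGL_mem_Ucl (S := {k | k ∈ S}) h1 _
  · rw [(CharP.intCast_eq_zero_iff F p c.2.1).2 (Int.dvd_of_emod_eq_zero h1), zero_mul, zero_mul,
      C.xGL_zero]
    exact one_mem _

theorem xGL_conj_mem_mod {S : List ℕ} {r : ℕ} (hr : r < D.nroots)
    (h : ∀ s ∈ S, s < D.nroots ∧ termsInto D p S r s = true) (t : F) :
    ∀ g ∈ UL C S, (C.xGL r t)⁻¹ * g * C.xGL r t ∈ UL C S := by
  have hle : UL C S ≤ (UL C S).comap (MulAut.conj (C.xGL r t)⁻¹).toMonoidHom := by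
    refine C.Ucl_le fun s hs u => ?_
    show (C.xGL r t)⁻¹ * C.xGL s u * (C.xGL r t)⁻¹⁻¹ ∈ UL C S
    rw [inv_inv]
    obtain ⟨hsn, hc⟩ := h s hs
    by_cases hsr : r = s
    · subst hsr
      rw [mul_assoc, ← C.xGL_add, add_comm u t, C.xGL_add, inv_mul_cancel_left]
      exact C.xGL_mem_Ucl (S := {k | k ∈ S}) hs u
    · have hneg : s ≠ D.neg r := by
        simp only [termsInto, Bool.or_eq_true, decide_eq_true_eq, Bool.and_eq_true] at hc
        exact (hc.resolve_left hsr).1.2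
      rw [mul_assoc, C.xGL_comm hr hsn (Ne.symm hsr) hneg, ← mul_assoc, ← mul_assoc, inv_mul_cancel,
        one_mul]
      exact mul_mem (C.xGL_mem_Ucl (S := {k | k ∈ S}) hs u) (commWord_mem_mod C p hsr hc t u)
  intro g hg
  simpa using hle hg

theorem xGL_mem_normalizer_mod {L S : List ℕ} (h : normCheck D p L S = true) {r : ℕ} (hrL : r ∈ L)
    (hr : r < D.nroots) (hS : ∀ s ∈ S, s < D.nroots) (t : F) :
    C.xGL r t ∈ Subgroup.normalizer (UL C S : Set (GL D.Idx F)) := by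
  simp only [normCheck, List.all_eq_true] at h
  have h' : ∀ s ∈ S, s < D.nroots ∧ termsInto D p S r s = true := fun s hs => ⟨hS s hs, h r hrL s hs⟩
  refine Subgroup.mem_normalizer_iff.2 fun g => ⟨fun hg => ?_, fun hg => ?_⟩
  · simpa [C.xGL_inv] using xGL_conj_mem_mod C p hr h' (-t) g hg
  · simpa [mul_assoc] using xGL_conj_mem_mod C p hr h' t _ hg

theorem borel_le_normalizer_mod {S : List ℕ} (h : normCheck D p (posList D) S = true)
    (hS : ∀ s ∈ S, s < D.nroots) :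
    D.borelSubgroup F ≤ Subgroup.normalizer (UL C S : Set (GL D.Idx F)) := by
  refine sup_le (C.posUnipotent_le fun r t hr =>
    xGL_mem_normalizer_mod C p h (mem_posList.2 hr) hr.1 hS t) ?_
  rw [C.diagonalSubgroup_eq]
  exact C.torus_normalizes _

theorem commute_mod {r s : ℕ} (hr : r < D.nroots) (hs : s < D.nroots)
    (h : termsInto D p [] r s = true) (t u : F) : Commute (C.xGL r t) (C.xGL s u) := by
  by_cases hrs : r = s
  · subst hrs
    show C.xGL r t * C.xGL r u = C.xGL r u * C.xGL r t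
    rw [← C.xGL_add, ← C.xGL_add, add_comm]
  · have hneg : s ≠ D.neg r := by
      simp only [termsInto, Bool.or_eq_true, decide_eq_true_eq, Bool.and_eq_true] at h
      exact (h.resolve_left hrs).1.2
    have h1 : C.wordGL (D.commWord F r s t u) = 1 := by
      have h2 := commWord_mem_mod C p hrs h t u
      have h3 : UL C ([] : List ℕ) ≤ ⊥ := C.Ucl_le fun k hk => absurd hk List.not_mem_nil
      simpa using h3 h2
    have h3 := C.xGL_comm hr hs (Ne.symm hrs) hneg t u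
    rw [h1, mul_one] at h3
    exact h3.symm

/-! ### Sets of roots without combinations -/

/-- No two roots of `S` have a root as a positive combination. -/
def NoCombo (S : Set ℕ) : Prop := ∀ r ∈ S, ∀ s ∈ S, ∀ k, ¬ C.R.IsCombo r s k

theorem noCombo_of_gap {S : Set ℕ} (h : ∃ i, ∀ r ∈ S, ∀ k, k < D.nroots → C.R.α k i < 2 * C.R.α r i) :
    NoCombo C S := by
  obtain ⟨i, hi⟩ := h
  rintro r hr s hs k ⟨hk, a, b, ha, hb, hab⟩
  have h1 := hi r hr k hk
  have h2 := hi s hs k hk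
  have h5 := hi r hr (D.neg k) (C.R.neg_lt k hk)
  have h6 := hi s hs (D.neg k) (C.R.neg_lt k hk)
  rw [C.R.α_neg k hk, Pi.neg_apply] at h5 h6
  have h3 := congrFun hab i
  simp only [Pi.add_apply, Pi.smul_apply, smul_eq_mul] at h3
  have ha' : (1 : ℤ) ≤ a := by omega
  have hb' : (1 : ℤ) ≤ b := by omega
  have h7 := mul_le_mul_of_nonneg_right ha' (by omega : (0 : ℤ) ≤ C.R.α r i)
  have h8 := mul_le_mul_of_nonneg_right hb' (by omega : (0 : ℤ) ≤ C.R.α s i)
  omega

theorem NoCombo.mono {S T : Set ℕ} (h : NoCombo C S) (hTS : T ⊆ S) : NoCombo C T :=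
  fun r hr s hs => h r (hTS hr) s (hTS hs)

theorem NoCombo.isClosed {S : Set ℕ} (h : NoCombo C S) (hpos : ∀ r ∈ S, D.IsPosRoot r) :
    C.R.IsClosed S := ⟨hpos, fun r hr s hs k hk => absurd hk (h r hr s hs k)⟩

/-- The roots of `S` sent into `S`. -/
def stay (w : Equiv.Perm (Fin D.nroots)) (S : Set ℕ) : Set ℕ :=
  {s | ∃ h : s < D.nroots, s ∈ S ∧ ((w ⟨s, h⟩ : Fin D.nroots) : ℕ) ∈ S}

/-- A conjugate by a monomial element staying in `Ucl S` only involves roots staying in `S`. -/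
theorem mem_stay {S : Set ℕ} (hnc : NoCombo C S) (hpos : ∀ r ∈ S, D.IsPosRoot r) {n : GL D.Idx F}
    (hn : n ∈ D.monomialSubgroup F) {w : Equiv.Perm (Fin D.nroots)} (hw : C.Moves n w)
    {y : GL D.Idx F} (hy : y ∈ C.Ucl S) (hy' : n * y * n⁻¹ ∈ C.Ucl S) :
    y ∈ C.Ucl (stay w S) := by
  set P : Set ℕ := {s | ∃ h : s < D.nroots, s ∈ S ∧ D.IsPosRoot (w ⟨s, h⟩)}
  set N : Set ℕ := {s | ∃ h : s < D.nroots, s ∈ S ∧ D.IsNegRoot (w ⟨s, h⟩)}
  have hPS : P ⊆ S := fun s ⟨_, h, _⟩ => h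
  have hNS : N ⊆ S := fun s ⟨_, h, _⟩ => h
  have hnorm : C.Ucl N ≤ Subgroup.normalizer (C.Ucl P : Set (GL D.Idx F)) :=
    C.Ucl_le fun r hr t => C.pos_normalizes (hpos r (hNS hr)) (fun s hs => hpos s (hPS hs))
      (fun s hs k hk => absurd hk (hnc r (hNS hr) s (hPS hs) k)) t
  have hle : C.Ucl S ≤ C.Ucl P ⊔ C.Ucl N := C.Ucl_le fun r hr t => by
    have hrn := (hpos r hr).1
    rcases C.R.pos_or_neg (w ⟨r, hrn⟩).isLt with h | h
    · exact le_sup_left (b := C.Ucl N) (C.xGL_mem_Ucl (S := P) ⟨hrn, hr, h⟩ t)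
    · exact le_sup_right (a := C.Ucl P) (C.xGL_mem_Ucl (S := N) ⟨hrn, hr, h⟩ t)
  have h1 := hle hy
  rw [← SetLike.mem_coe, Subgroup.coe_mul_of_right_le_normalizer_left _ _ hnorm] at h1
  obtain ⟨a, ha, b, hb, rfl⟩ := h1
  have hbneg : n * b * n⁻¹ ∈ D.negUnipotent F :=
    C.conj_Ucl_le hw (fun s hs t => C.xGL_mem_negUnipotent hs.2.2 t) b hb
  have haB : n * a * n⁻¹ ∈ D.borelSubgroup F :=
    C.conj_Ucl_le hw (fun s hs t => C.pos_mem_borel hs.2.2 t) a ha
  have hyB : n * (a * b) * n⁻¹ ∈ D.borelSubgroup F :=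
    C.Ucl_le (fun r hr t => C.pos_mem_borel (hpos r hr) t) hy'
  have hb1 : b = 1 := by
    have h2 : n * b * n⁻¹ ∈ D.borelSubgroup F := by
      rw [show n * b * n⁻¹ = (n * a * n⁻¹)⁻¹ * (n * (a * b) * n⁻¹) by group]
      exact mul_mem (inv_mem haB) hyB
    have h3 := (Subgroup.eq_bot_iff_forall _).1 C.borel_inf_negUnipotent _
      (Subgroup.mem_inf.2 ⟨h2, hbneg⟩)
    simpa using h3
  subst hb1
  simp only [mul_one] at hy' ⊢
  set W : Set ℕ := {k | ∃ h : k < D.nroots,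
    ((w⁻¹ ⟨k, h⟩ : Fin D.nroots) : ℕ) ∈ P ∧ D.IsPosRoot k}
  have haW : n * a * n⁻¹ ∈ C.Ucl W := by
    refine C.conj_Ucl_le hw (fun s hs t => C.xGL_mem_Ucl (S := W) ?_ t) a ha
    exact ⟨(w s).isLt, by rw [Fin.eta, Equiv.Perm.inv_def, Equiv.symm_apply_apply]; exact hs,
      hs.2.2⟩
  have hWclosed : C.R.IsClosed W := by
    refine ⟨fun k ⟨_, _, h⟩ => h, ?_⟩
    rintro r ⟨hr, hr', -⟩ s ⟨hs, hs', -⟩ k hk
    obtain ⟨hkn, i, j, hi, hj, hij⟩ := hk
    refine absurd ⟨(w⁻¹ ⟨k, hkn⟩).isLt, i, j, hi, hj, ?_⟩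
      (hnc _ (hPS hr') _ (hPS hs') (w⁻¹ ⟨k, hkn⟩ : Fin D.nroots))
    exact C.hR.combo_weyl (inv_mem hw.1) (r := ⟨r, hr⟩) (s := ⟨s, hs⟩) (k := ⟨k, hkn⟩) hij
  have h4 := C.Ucl_inf hWclosed (hnc.isClosed C hpos) haW hy'
  have hmv := ChevCore.Moves.inv C hn hw
  have h5 := C.conj_Ucl_le hmv (T := C.Ucl (stay w S)) (fun s hs t => by
    refine C.xGL_mem_Ucl (S := stay w S) ?_ t
    obtain ⟨⟨hsn, hP, -⟩, hsS⟩ := hs
    refine ⟨(w⁻¹ s).isLt, hPS hP, ?_⟩
    rw [Fin.eta, Equiv.Perm.inv_def, Equiv.apply_symm_apply]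
    exact hsS) _ h4
  simpa [mul_assoc] using h5

/-- The integral value of a functional at a root. -/
def levI (lam : Fin D.rank → ℤ) (r : ℕ) : ℤ := ∑ i, lam i * C.R.α r i

/-- The data of a root centraliser computation. -/
structure CentData (p : ℕ) where
  S : List ℕ
  supp : List ℕ
  lam : Fin D.rank → ℤ
  cw : ℕ → ℤ
  cl : ℕ → Bool
  κ : ℤ
  S_pos : ∀ r ∈ S, D.IsPosRoot r
  supp_mem : ∀ e ∈ supp, e ∈ S
  gap : ∃ i, ∀ r ∈ S, ∀ k, k < D.nroots → C.R.α k i < 2 * C.R.α r i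
  norm : normCheck D p (posList D) S = true
  normX : ∀ e ∈ supp, normCheck D p (posList D) (S.filter fun s => s != e) = true
  cl_refl : ∀ (i : Fin D.rank) r, r < D.nroots → cl (D.reflectRoot i.val r) = cl r
  lam_nonneg : ∀ i, 0 ≤ lam i
  cw_nonneg : ∀ e ∈ supp, 0 ≤ cw e
  κ_pos : 0 < κ
  raise : ∀ e ∈ supp, ∀ k ∈ S, cl k = cl e → levI C lam e ≤ levI C lam k
  dual : ∀ i, (∑ r : Fin D.nroots, levI C lam r * C.R.α r i) =
    κ * (supp.map fun e => cw e * C.R.α e i).sum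

namespace CentData

variable {C p} (K : CentData C p)

/-- The functional of the data, with real values. -/
noncomputable def lamR : Fin D.rank → ℝ := fun i => (K.lam i : ℝ)

/-- The set of indices of the parabolic. -/
noncomputable def J : Set ℕ := zeroSet K.lamR

theorem lt_of_mem {s : ℕ} (h : s ∈ K.S) : s < D.nroots := (K.S_pos s h).1

theorem cl_weyl : ∀ w ∈ C.hR.weyl, ∀ s : Fin D.nroots, K.cl (w s) = K.cl s := by
  refine C.hR.weyl_induction (fun s => rfl) fun w _ i ih s => ?_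
  rw [Equiv.Perm.mul_apply, ih, C.hR.sPerm_val, K.cl_refl i s s.isLt]

theorem ev_lamR (r : ℕ) : ev K.lamR (C.R.α r) = (levI C K.lam r : ℝ) := by
  simp only [ev_apply, levI, lamR]
  push_cast
  rfl

/-- An element with the standard shape: leading coefficient one at every support root. -/
def IsLead (v : GL D.Idx F) : Prop :=
  v ∈ UL C K.S ∧ ∀ e ∈ K.supp, (C.xGL e 1)⁻¹ * v ∈ UL C (K.S.filter fun s => s != e)

theorem isClosed_filter (e : ℕ) : C.R.IsClosed {k | k ∈ K.S.filter fun s => s != e} := by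
  have hsub : {k | k ∈ K.S.filter fun s => s != e} ⊆ {k | k ∈ K.S} := fun k hk =>
    (List.mem_filter.1 hk).1
  exact ((noCombo_of_gap C K.gap).mono C hsub).isClosed C fun r hr => K.S_pos r (hsub hr)

theorem not_mem_filter {v : GL D.Idx F} (hv : K.IsLead v) {e : ℕ} (he : e ∈ K.supp) :
    v ∉ UL C (K.S.filter fun s => s != e) := fun h => by
  have h1 : C.xGL e 1 ∈ UL C (K.S.filter fun s => s != e) := by
    rw [show C.xGL e 1 = v * ((C.xGL e 1)⁻¹ * v)⁻¹ by group]
    exact mul_mem h (inv_mem (hv.2 e he))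
  have h2 := ChevRadical.root_mem_of_mem_Ucl C (K.isClosed_filter e)
    (K.lt_of_mem (K.supp_mem e he)) one_ne_zero h1
  simp at h2

include K in
/-- The Weyl part of a centralising element stabilises the functional. -/
theorem mem_parabolic {v : GL D.Idx F} (hv : K.IsLead v) {g : GL D.Idx F} (hg : g ∈ D.group F)
    (hgv : g * v * g⁻¹ = v) : g ∈ D.parabolicSubgroup F K.J := by
  obtain ⟨n, hn, hcell⟩ := C.exists_bigCell hg
  obtain ⟨a, ha, b, hb, hgab⟩ := C.mem_bigCell.1 hcell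
  obtain ⟨w, hw, -⟩ := C.exists_moves hn
  have hS := fun s hs => K.lt_of_mem (s := s) hs
  have hBS := borel_le_normalizer_mod C p K.norm hS
  set y := b * v * b⁻¹ with hy
  have hyS : y ∈ UL C K.S := (Subgroup.mem_normalizer_iff.1 (hBS hb) v).1 hv.1
  have hyn : n * y * n⁻¹ ∈ UL C K.S := by
    have h1 : n * y * n⁻¹ = a⁻¹ * (g * v * g⁻¹) * a⁻¹⁻¹ := by rw [hy, hgab]; group
    rw [h1, hgv]
    exact (Subgroup.mem_normalizer_iff.1 (hBS (inv_mem ha)) v).1 hv.1
  have hstay := mem_stay C (noCombo_of_gap C K.gap) K.S_pos hn hw hyS hyn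
  have hraise : ∀ e ∈ K.supp, ev K.lamR (C.R.α e) ≤ ev (pull C K.lamR w) (C.R.α e) := by
    intro e he
    have hen := hS e (K.supp_mem e he)
    have hmem : ((w ⟨e, hen⟩ : Fin D.nroots) : ℕ) ∈ K.S := by
      by_contra hne
      refine K.not_mem_filter hv he ?_
      have h1 : y ∈ UL C (K.S.filter fun s => s != e) := by
        refine C.Ucl_mono ?_ hstay
        rintro s ⟨hsn, hs1, hs2⟩
        refine List.mem_filter.2 ⟨hs1, bne_iff_ne.2 fun hse => hne ?_⟩
        subst hse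
        exact hs2
      have hX := borel_le_normalizer_mod C p (K.normX e he)
        (fun s hs => hS s (List.mem_filter.1 hs).1)
      exact (Subgroup.mem_normalizer_iff.1 (hX hb) v).2 h1
    have hcl := K.cl_weyl w hw.1 ⟨e, hen⟩
    have hle : ((levI C K.lam e : ℤ) : ℝ) ≤ (levI C K.lam (w ⟨e, hen⟩ : Fin D.nroots) : ℝ) := by
      exact_mod_cast K.raise e he _ hmem hcl
    rw [ev_pull, show C.R.α e = C.R.α (⟨e, hen⟩ : Fin D.nroots) from rfl, rootAct_α C hw.1,
      K.ev_lamR, K.ev_lamR]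
    exact hle
  have hG : ∀ mu : Fin D.rank → ℝ, (∑ r : Fin D.nroots, ev K.lamR (C.R.α r) * ev mu (C.R.α r)) =
      (K.κ : ℝ) * (K.supp.map fun e => (K.cw e : ℝ) * ev mu (C.R.α e)).sum := by
    intro mu
    have hdual : ∀ i, (∑ r : Fin D.nroots, (levI C K.lam r : ℝ) * (C.R.α r i : ℝ)) =
        (K.κ : ℝ) * (K.supp.map fun e => (K.cw e : ℝ) * (C.R.α e i : ℝ)).sum := fun i => by
      have h1 := congrArg (fun z : ℤ => (z : ℝ)) (K.dual i)
      simpa [Function.comp_def, List.map_map] using h1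
    calc (∑ r : Fin D.nroots, ev K.lamR (C.R.α r) * ev mu (C.R.α r))
        = ∑ i, mu i * (∑ r : Fin D.nroots, (levI C K.lam r : ℝ) * (C.R.α r i : ℝ)) := by
          simp only [K.ev_lamR, ev_apply mu, Finset.mul_sum]
          rw [Finset.sum_comm]
          exact Finset.sum_congr rfl fun i _ => Finset.sum_congr rfl fun r _ => by ring
      _ = ∑ i, mu i * ((K.κ : ℝ) * (K.supp.map fun e => (K.cw e : ℝ) * (C.R.α e i : ℝ)).sum) :=
          Finset.sum_congr rfl fun i _ => by rw [hdual i]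
      _ = _ := by
          induction K.supp with
          | nil => simp
          | cons e L ih =>
            simp only [List.map_cons, List.sum_cons, mul_add, Finset.sum_add_distrib, ih]
            congr 1
            rw [ev_apply, Finset.mul_sum, Finset.mul_sum]
            exact Finset.sum_congr rfl fun i _ => by ring
  set mu := pull C K.lamR w with hmu
  have hκ : (0 : ℝ) ≤ (K.κ : ℝ) := by exact_mod_cast K.κ_pos.le
  have hge : (∑ r : Fin D.nroots, ev K.lamR (C.R.α r) * ev K.lamR (C.R.α r)) ≤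
      ∑ r : Fin D.nroots, ev K.lamR (C.R.α r) * ev mu (C.R.α r) := by
    rw [hG, hG]
    refine mul_le_mul_of_nonneg_left (List.sum_le_sum fun e he => ?_) hκ
    exact mul_le_mul_of_nonneg_left (hraise e he) (by exact_mod_cast K.cw_nonneg e he)
  have hnorm : normSq C mu = normSq C K.lamR := normSq_pull C _ hw.1
  have hdiff : normSq C (fun i => K.lamR i - mu i) ≤ 0 := by
    have e2 : ∀ v, ev (fun i => K.lamR i - mu i) v = ev K.lamR v - ev mu v := fun v => by
      simp only [ev_apply, ← Finset.sum_sub_distrib]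
      exact Finset.sum_congr rfl fun i _ => by ring
    have e3 : normSq C (fun i => K.lamR i - mu i) = normSq C K.lamR + normSq C mu -
        2 * ∑ r : Fin D.nroots, ev K.lamR (C.R.α r) * ev mu (C.R.α r) := by
      simp only [normSq, e2, Finset.mul_sum, ← Finset.sum_add_distrib, ← Finset.sum_sub_distrib]
      exact Finset.sum_congr rfl fun s _ => by ring
    have e4 : normSq C K.lamR = ∑ r : Fin D.nroots, ev K.lamR (C.R.α r) * ev K.lamR (C.R.α r) :=
      Finset.sum_congr rfl fun s _ => sq _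
    linarith
  have heq : pull C K.lamR w = K.lamR := funext fun i => by
    have e1 := sq_le_normSq C (fun i => K.lamR i - mu i) i
    have e3 := pow_eq_zero_iff two_ne_zero |>.1 (le_antisymm (e1.trans hdiff) (sq_nonneg _))
    linarith
  have hnn : ∀ i, 0 ≤ K.lamR i := fun i => by
    have := K.lam_nonneg i
    simp only [lamR]; exact_mod_cast this
  have hwJ := (dominant_unique C hnn hnn hw.1 heq).2
  obtain ⟨m, hmP, hmN, hm⟩ := C.exists_rep_sub (F := F) hwJ
  have hd : n * m⁻¹ ∈ D.diagonalSubgroup F := by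
    refine C.mem_diagonal_of_moves_one (mul_mem hn (inv_mem hmN)) ?_
    simpa using ChevCore.Moves.mul C hw (ChevCore.Moves.inv C hmN (ChevCore.Acts.moves C hm))
  have hBP : D.borelSubgroup F ≤ D.parabolicSubgroup F K.J := le_sup_left
  have hnP : n ∈ D.parabolicSubgroup F K.J := by
    simpa [CentData.J] using mul_mem (hBP (le_sup_right (a := D.posUnipotent F) hd)) hmP
  rw [hgab]
  exact mul_mem (mul_mem (hBP ha) hnP) (hBP hb)

/-- The group generated by the root subgroups of `±` the fundamental roots of `J`. -/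
noncomputable def Qgrp : Subgroup (GL D.Idx F) :=
  C.Ucl {r | ∃ i ∈ finSet D K.J, r = D.simple i.val ∨ r = D.neg (D.simple i.val)}

theorem torusSingle_mem_Qgrp {i : Fin D.rank} (hi : i ∈ finSet D K.J) (c : Fˣ) :
    C.R.torusSingle i c ∈ K.Qgrp := by
  rw [← C.hGL_simple]
  refine Subgroup.list_prod_mem _ fun x hx => ?_
  simp only [List.mem_map, ChevalleyDatum.hWord, ChevalleyDatum.nWord, List.mem_append,
    List.mem_cons, List.not_mem_nil, or_false] at hx
  obtain ⟨q, hq, rfl⟩ := hx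
  rcases hq with (rfl | rfl | rfl) | (rfl | rfl | rfl) <;>
    refine C.xGL_mem_Ucl ?_ _
  exacts [⟨i, hi, Or.inl rfl⟩, ⟨i, hi, Or.inr rfl⟩, ⟨i, hi, Or.inl rfl⟩,
    ⟨i, hi, Or.inl rfl⟩, ⟨i, hi, Or.inr rfl⟩, ⟨i, hi, Or.inl rfl⟩]

theorem nS_mem_Qgrp {i : Fin D.rank} (hi : i ∈ finSet D K.J) : C.nS i ∈ K.Qgrp := by
  refine Subgroup.list_prod_mem _ fun x hx => ?_
  simp only [List.mem_map, ChevalleyDatum.nWord, List.mem_cons, List.not_mem_nil, or_false] at hx
  obtain ⟨q, hq, rfl⟩ := hx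
  rcases hq with rfl | rfl | rfl <;> refine C.xGL_mem_Ucl ?_ _
  exacts [⟨i, hi, Or.inl rfl⟩, ⟨i, hi, Or.inr rfl⟩, ⟨i, hi, Or.inl rfl⟩]

theorem xGL_mem_Qgrp {r : ℕ} (h : D.InRootSub K.J r) (t : F) : C.xGL r t ∈ K.Qgrp := by
  obtain ⟨w, hw, k, hk, hwk⟩ := C.hR.exists_simple_image_sub ⟨r, h.1⟩ h
  obtain ⟨n, hn, -, e, he⟩ : ∃ n ∈ K.Qgrp, C.Acts n w := by
    refine C.hR.weylSub_induction (P := fun w => ∃ n ∈ K.Qgrp, C.Acts n w)
      ⟨1, one_mem _, C.acts_one⟩ ?_ w hw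
    rintro v - i hi - ⟨n, hn, hv⟩
    exact ⟨n * C.nS i, mul_mem hn (K.nS_mem_Qgrp hi), ChevCore.Acts.mul C hv (C.acts_nS i)⟩
  obtain ⟨h1, -, h2⟩ := he ⟨D.simple k.val, C.R.simple_lt k⟩
  have h3 := h2 (((e (D.simple k.val) : ℤ) : F) * t)
  rw [hwk] at h3
  have hee : ((e (D.simple k.val) : ℤ) : F) * ((e (D.simple k.val) : ℤ) : F) = 1 := by
    rcases h1 with h | h <;> simp [show e (D.simple k.val) = _ from h]
  simp only [← mul_assoc, hee, one_mul] at h3
  rw [← h3]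
  exact mul_mem (mul_mem hn (C.xGL_mem_Ucl
    (S := {r | ∃ i ∈ finSet D K.J, r = D.simple i.val ∨ r = D.neg (D.simple i.val)})
    ⟨k, hk, Or.inl rfl⟩ _)) (inv_mem hn)

theorem parabolic_decomp {g : GL D.Idx F} (hg : g ∈ D.parabolicSubgroup F K.J) :
    ∃ z ∈ D.unipotentRadical F K.J, ∃ t, ∃ q ∈ K.Qgrp, g = z * C.R.torus t * q := by
  have hL : D.leviSubgroup F K.J ≤ C.R.torus.range ⊔ K.Qgrp := by
    refine sup_le (C.diagonalSubgroup_eq ▸ le_sup_left) ((Subgroup.closure_le _).2 ?_)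
    rintro g ⟨r, t, hr, hg⟩
    rw [show g = C.xGL r t from Units.ext (by rw [hg, C.coe_xGL])]
    exact le_sup_right (a := C.R.torus.range) (K.xGL_mem_Qgrp hr t)
  have hLN : D.leviSubgroup F K.J ≤
      Subgroup.normalizer (D.unipotentRadical F K.J : Set (GL D.Idx F)) := by
    refine le_trans ?_ C.parabolic_le_normalizer
    rw [← C.radical_sup_levi]
    exact le_sup_right
  rw [← C.radical_sup_levi, ← SetLike.mem_coe,
    Subgroup.coe_mul_of_right_le_normalizer_left _ _ hLN] at hg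
  obtain ⟨z, hz, l, hl, rfl⟩ := hg
  have hl' := hL hl
  rw [← SetLike.mem_coe, Subgroup.coe_mul_of_left_le_normalizer_right _ _
    (show C.R.torus.range ≤ Subgroup.normalizer (K.Qgrp : Set (GL D.Idx F)) from C.torus_normalizes _)] at hl'
  obtain ⟨_, ⟨t, rfl⟩, q, hq, rfl⟩ := hl'
  exact ⟨z, hz, t, q, hq, (mul_assoc _ _ _).symm⟩

theorem conj_xGL_mem {e : ℕ} (he : e ∈ K.supp) (t : F) {z : GL D.Idx F}
    (hzU : z ∈ D.posUnipotent F) (hinto : ∀ r, D.IsPosRoot r → termsInto D p (K.S.filter fun s => s != e) e r = true) :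
    (C.xGL e t)⁻¹ * (z * C.xGL e t * z⁻¹) ∈ UL C (K.S.filter fun s => s != e) := by
  set X := UL C (K.S.filter fun s => s != e)
  have hX := borel_le_normalizer_mod C p (K.normX e he)
    (fun s hs => K.lt_of_mem (List.mem_filter.1 hs).1)
  have hepos := K.S_pos e (K.supp_mem e he)
  rw [C.posUnipotent_eq] at hzU
  have hB : C.Ucl {r | D.IsPosRoot r} ≤ D.borelSubgroup F := C.Ucl_le fun r hr u => C.pos_mem_borel hr u
  suffices ∃ m ∈ X, z * C.xGL e t * z⁻¹ = C.xGL e t * m by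
    obtain ⟨m, hm, hm'⟩ := this
    rw [hm', inv_mul_cancel_left]
    exact hm
  refine Subgroup.closure_induction
    (p := fun g _ => ∃ m ∈ X, g * C.xGL e t * g⁻¹ = C.xGL e t * m) ?_ ?_ ?_ ?_ hzU
  · rintro _ ⟨r, hr, u, rfl⟩
    by_cases hre : r = e
    · subst hre
      exact ⟨1, one_mem _, by rw [mul_one, mul_inv_eq_iff_eq_mul, ← C.xGL_add, ← C.xGL_add, add_comm]⟩
    · have hne : r ≠ D.neg e := fun h => C.R.not_pos_and_neg hr (by
        rw [h, C.R.isNeg_neg_iff hepos.1]; exact hepos)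
      have hW : C.wordGL (D.commWord F e r t u) ∈ X :=
        commWord_mem_mod C p (Ne.symm hre) (hinto r hr) t u
      refine ⟨C.xGL r u * C.wordGL (D.commWord F e r t u) * (C.xGL r u)⁻¹,
        (Subgroup.mem_normalizer_iff.1 (hX (C.pos_mem_borel hr u)) _).1 hW, ?_⟩
      rw [C.xGL_comm hepos.1 hr.1 hre hne t u]
      group
  · exact ⟨1, one_mem _, by group⟩
  · rintro x y hx hy ⟨m, hm, hm'⟩ ⟨m', hm'', hm3⟩
    refine ⟨m * (x * m' * x⁻¹), mul_mem hm
      ((Subgroup.mem_normalizer_iff.1 (hX (hB hx)) _).1 hm''), ?_⟩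
    calc x * y * C.xGL e t * (x * y)⁻¹ = x * (y * C.xGL e t * y⁻¹) * x⁻¹ := by group
      _ = (x * C.xGL e t * x⁻¹) * (x * m' * x⁻¹) := by rw [hm3]; group
      _ = _ := by rw [hm', mul_assoc]
  · rintro x hx ⟨m, hm, hm'⟩
    refine ⟨x⁻¹ * m⁻¹ * x⁻¹⁻¹,
      (Subgroup.mem_normalizer_iff.1 (hX (inv_mem (hB hx))) _).1 (inv_mem hm), ?_⟩
    calc x⁻¹ * C.xGL e t * x⁻¹⁻¹ = x⁻¹ * (C.xGL e t * m) * m⁻¹ * x := by group
      _ = x⁻¹ * (x * C.xGL e t * x⁻¹) * m⁻¹ * x := by rw [hm']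
      _ = _ := by group

/-- The characters of a centralising `z h` at the support roots are trivial. -/
theorem torusChar_eq_one {v : GL D.Idx F} (hv : K.IsLead v)
    (hinto : ∀ e ∈ K.supp, ∀ r, D.IsPosRoot r →
      termsInto D p (K.S.filter fun s => s != e) e r = true)
    {z : GL D.Idx F} (hz : z ∈ D.posUnipotent F) {t : Fin D.rank → Fˣ}
    (hc : z * C.R.torus t * v * (z * C.R.torus t)⁻¹ = v) {e : ℕ} (he : e ∈ K.supp) :
    C.R.torusChar t (C.R.α e) = 1 := by
  set L := K.S.filter fun s => s != e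
  set χ : F := (C.R.torusChar t (C.R.α e) : F) with hχ
  have hen := K.lt_of_mem (K.supp_mem e he)
  have hX := borel_le_normalizer_mod C p (K.normX e he) (fun s hs => K.lt_of_mem (List.mem_filter.1 hs).1)
  have hzB : z ∈ D.borelSubgroup F := le_sup_left (b := D.diagonalSubgroup F) hz
  have hzt : z * C.R.torus t ∈ D.borelSubgroup F := mul_mem hzB (C.torus_mem_borel t)
  set m := (C.xGL e 1)⁻¹ * v with hm
  have hm1 : z * C.R.torus t * m * (z * C.R.torus t)⁻¹ ∈ UL C L :=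
    (Subgroup.mem_normalizer_iff.1 (hX hzt) _).1 (hv.2 e he)
  have hm2 := K.conj_xGL_mem he χ hz (hinto e he)
  have hact : C.R.torus t * C.xGL e 1 * (C.R.torus t)⁻¹ = C.xGL e χ := by
    have := C.acts_torus t ⟨e, hen⟩ 1
    simp only [mul_one] at this
    exact this
  have h1 : (C.xGL e χ)⁻¹ * v ∈ UL C L := by
    have e1 : (C.xGL e χ)⁻¹ * v = ((C.xGL e χ)⁻¹ * (z * C.xGL e χ * z⁻¹)) *
        (z * C.R.torus t * m * (z * C.R.torus t)⁻¹) := by
      conv_lhs => rw [← hc, show v = C.xGL e 1 * m by rw [hm]; group]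
      rw [← hact]
      group
    rw [e1]
    exact mul_mem hm2 hm1
  have h2 : C.xGL e (χ + -1) ∈ UL C L := by
    rw [add_comm, C.xGL_add, ← C.xGL_inv,
      show (C.xGL e 1)⁻¹ * C.xGL e χ = m * ((C.xGL e χ)⁻¹ * v)⁻¹ by rw [hm]; group]
    exact mul_mem (hv.2 e he) (inv_mem h1)
  refine Units.ext (?_ : χ = 1)
  by_contra hne
  have h3 := ChevRadical.root_mem_of_mem_Ucl C (K.isClosed_filter e) hen
    (fun h => hne (by rwa [← sub_eq_add_neg, sub_eq_zero] at h)) h2
  simp [L] at h3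

theorem torus_mem_Qgrp {t : Fin D.rank → Fˣ} (h : ∀ i, i ∉ finSet D K.J → t i = 1) :
    C.R.torus t ∈ K.Qgrp := by
  rw [C.torus_eq_prod]
  refine Subgroup.list_prod_mem _ fun x hx => ?_
  obtain ⟨i, -, rfl⟩ := List.mem_map.1 hx
  by_cases hi : i ∈ finSet D K.J
  · exact K.torusSingle_mem_Qgrp hi _
  · rw [h i hi]
    show C.R.torus (Pi.mulSingle i 1) ∈ _
    rw [Pi.mulSingle_one, map_one]
    exact one_mem _

include K in
/-- The shape of the centraliser. -/
theorem centralizer_eq {v : GL D.Idx F} (hv : K.IsLead v)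
    (hinto : ∀ e ∈ K.supp, ∀ r, D.IsPosRoot r →
      termsInto D p (K.S.filter fun s => s != e) e r = true)
    {M : Subgroup (GL D.Idx F)} (hM : M ≤ D.group F) (hMv : ∀ x ∈ M, x * v * x⁻¹ = v)
    (hQ : ∀ i ∈ finSet D K.J, ∀ t, C.xGL (D.simple i.val) t ∈ M ∧ C.xGL (D.neg (D.simple i.val)) t ∈ M)
    (hchar : ∀ t : Fin D.rank → Fˣ, (∀ e ∈ K.supp, C.R.torusChar t (C.R.α e) = 1) →
      ∀ i, i ∉ finSet D K.J → t i = 1)
    (hz : ∀ z ∈ D.unipotentRadical F K.J, z * v * z⁻¹ = v → z ∈ M) :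
    D.group F ⊓ Subgroup.centralizer {v} = M := by
  have hQM : K.Qgrp ≤ M := C.Ucl_le fun r ⟨i, hi, hr⟩ t => by
    rcases hr with rfl | rfl
    exacts [(hQ i hi t).1, (hQ i hi t).2]
  refine le_antisymm ?_ (le_inf hM fun x hx => Subgroup.mem_centralizer_iff.2 fun y hy => by
    rw [Set.mem_singleton_iff] at hy
    subst hy
    conv_lhs => rw [← hMv x hx]
    group)
  intro g hg
  obtain ⟨hgG, hgC⟩ := Subgroup.mem_inf.1 hg
  have hgv : g * v * g⁻¹ = v := by
    rw [← Subgroup.mem_centralizer_iff.1 hgC v rfl]; group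
  obtain ⟨z, hzR, t, q, hq, rfl⟩ := K.parabolic_decomp (K.mem_parabolic hv hgG hgv)
  have hzh : z * C.R.torus t * v * (z * C.R.torus t)⁻¹ = v := by
    conv_lhs => rw [← hMv q (hQM hq)]
    rw [← hgv]
    simp only [hgv]
    rw [show z * C.R.torus t * (q * v * q⁻¹) * (z * C.R.torus t)⁻¹ =
      z * C.R.torus t * q * v * (z * C.R.torus t * q)⁻¹ by group]
    exact hgv
  have hzU : z ∈ D.posUnipotent F := by
    rw [C.radical_eq] at hzR
    exact C.Ucl_le (fun r hr u => C.xGL_mem_posUnipotent hr.1 u) hzR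
  have ht : C.R.torus t ∈ M := hQM (K.torus_mem_Qgrp
    (hchar t fun e he => K.torusChar_eq_one hv hinto hzU hzh he))
  refine mul_mem (mul_mem (hz z hzR ?_) ht) (hQM hq)
  conv_lhs => rw [← hMv _ ht]
  rw [show z * (C.R.torus t * v * (C.R.torus t)⁻¹) * z⁻¹ =
    z * C.R.torus t * v * (z * C.R.torus t)⁻¹ by group]
  exact hzh

end CentData

end CfsgLib.KnownSimple.RootCent
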