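import Cfsg.Agent.Lib.KnownSimple.QuadTwo

/-!
`Sym (2m+2)`, `m` odd, on even subsets modulo the whole set: embedding in the orthogonal group of
dimension `2m` over `ZMod 2`.
-/

set_option autoImplicit false

namespace CfsgLib.KnownSimple.EvenSubsetModule

open Cfsg CfsgLib.KnownSimple.QuadTwo

abbrev Vec (m : ℕ) := Fin (2 * m + 2) → ZMod 2

variable {m : ℕ}

/-- The weight. -/
def wt (v : Vec m) : ℕ := ∑ i, (v i).val

/-- Half the weight, mod `2`. -/
def half (v : Vec m) : ZMod 2 := ((wt v / 2 : ℕ) : ZMod 2)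

/-- The standard product. -/
def dot (u v : Vec m) : ZMod 2 := ∑ i, u i * v i

theorem wt_cast (v : Vec m) : ((wt v : ℕ) : ZMod 2) = ∑ i, v i := by
  simp [wt, ZMod.natCast_val]

theorem two_dvd_wt {v : Vec m} (hv : ∑ i, v i = 0) : 2 ∣ wt v := by
  rw [← ZMod.natCast_eq_zero_iff, wt_cast, hv]

theorem half_add {u v : Vec m} (hu : ∑ i, u i = 0) (hv : ∑ i, v i = 0) :
    half (u + v) = half u + half v + dot u v := by
  have h : wt (u + v) + 2 * (∑ i, (u i * v i).val) = wt u + wt v := by
    simp only [wt, Finset.mul_sum, ← Finset.sum_add_distrib, Pi.add_apply]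
    refine Finset.sum_congr rfl fun i _ => ?_
    generalize u i = a, v i = b
    revert a b; decide
  obtain ⟨a, ha⟩ := two_dvd_wt hu
  obtain ⟨b, hb⟩ := two_dvd_wt hv
  have hd : dot u v = ((∑ i, (u i * v i).val : ℕ) : ZMod 2) := by
    simp [dot, ZMod.natCast_val]
  have hc : wt (u + v) / 2 + (∑ i, (u i * v i).val) = a + b := by omega
  rw [half, half, half, hd, ha, hb, Nat.mul_div_cancel_left a two_pos,
    Nat.mul_div_cancel_left b two_pos]
  have h2 := congrArg (fun n : ℕ => (n : ZMod 2)) hc
  simp only [Nat.cast_add] at h2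
  linear_combination h2 - zadd (((∑ i, (u i * v i).val : ℕ) : ZMod 2))

/-- Indicator of `[a, b)`. -/
def seg (m a b : ℕ) : Vec m := fun i => if a ≤ i.val ∧ i.val < b then 1 else 0

theorem sum_range_ite (n a b : ℕ) (hb : b ≤ n) :
    (∑ i : Fin n, if a ≤ i.val ∧ i.val < b then (1 : ℕ) else 0) = b - a := by
  rw [Fin.sum_univ_eq_sum_range (fun i => if a ≤ i ∧ i < b then 1 else 0), ← Finset.sum_filter,
    Finset.sum_const, smul_eq_mul, mul_one]
  have : (Finset.range n).filter (fun i => a ≤ i ∧ i < b) = Finset.Ico a b := by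
    ext i; simp; omega
  rw [this, Nat.card_Ico]

theorem wt_seg {a b : ℕ} (hb : b ≤ 2 * m + 2) : wt (seg m a b) = b - a := by
  rw [← sum_range_ite (2 * m + 2) a b hb, wt]
  refine Finset.sum_congr rfl fun i _ => ?_
  unfold seg; split_ifs <;> rfl

theorem sum_seg {a b : ℕ} (hb : b ≤ 2 * m + 2) : ∑ i, seg m a b i = ((b - a : ℕ) : ZMod 2) := by
  rw [← wt_cast, wt_seg hb]

theorem dot_seg {a b c d : ℕ} (hb : b ≤ 2 * m + 2) :
    dot (seg m a b) (seg m c d) = ((min b d - max a c : ℕ) : ZMod 2) := by
  have h : ∀ i, seg m a b i * seg m c d i = seg m (max a c) (min b d) i := by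
    intro i
    unfold seg
    split_ifs <;> simp <;> omega
  simp only [dot, h]
  exact sum_seg (le_trans (min_le_left _ _) hb)

/-- The symplectic basis. -/
def bas (j : Fin m ⊕ Fin m) : Vec m :=
  Sum.elim (fun j => seg m (2 * j.val) (2 * j.val + 2)) (fun j => seg m (2 * j.val + 1) (2 * m + 1)) j

theorem bas_even (j : Fin m ⊕ Fin m) : ∑ i, bas j i = 0 := by
  rcases j with j | j <;> simp only [bas, Sum.elim_inl, Sum.elim_inr] <;>
    rw [sum_seg (by omega), ZMod.natCast_eq_zero_iff] <;> omega

theorem cast_even {n : ℕ} (h : n % 2 = 0) : ((n : ℕ) : ZMod 2) = 0 :=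
  (ZMod.natCast_eq_zero_iff _ _).2 (Nat.dvd_of_mod_eq_zero h)

theorem cast_odd {n : ℕ} (h : n % 2 = 1) : ((n : ℕ) : ZMod 2) = 1 := by
  rw [← ZMod.natCast_mod, h, Nat.cast_one]

theorem dot_bas (j k : Fin m ⊕ Fin m) : dot (bas j) (bas k) = B m (Pi.single j 1) (Pi.single k 1) := by
  have h1 : ∀ a b : Fin m, B m (Pi.single (.inl a) 1) (Pi.single (.inr b) 1) = if a = b then 1 else 0 := by
    intro a b; simp [B_apply, Pi.single_apply, Finset.sum_ite_eq', eq_comm]
  have h0 : ∀ a b : Fin m, B m (Pi.single (.inl a) 1) (Pi.single (.inl b) 1) = 0 ∧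
      B m (Pi.single (.inr a) 1) (Pi.single (.inr b) 1) = 0 := by
    intro a b; simp [B_apply, Pi.single_apply]
  rcases j with j | j <;> rcases k with k | k <;>
    simp only [bas, Sum.elim_inl, Sum.elim_inr] <;> rw [dot_seg (by omega)]
  · rw [(h0 j k).1]
    apply cast_even
    rcases lt_trichotomy j.val k.val with h | h | h <;> omega
  · rw [h1]
    split_ifs with h
    · subst h; apply cast_odd; omega
    · have : j.val ≠ k.val := fun h' => h (Fin.ext h')
      apply cast_even; omega
  · rw [B_comm, h1]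
    split_ifs with h
    · subst h; apply cast_odd; omega
    · have : j.val ≠ k.val := fun h' => h (Fin.ext h'.symm)
      apply cast_even; omega
  · rw [(h0 j k).2]
    apply cast_even; omega

/-- The section into even vectors. -/
def lift (m : ℕ) : V m →ₗ[ZMod 2] Vec m := Fintype.linearCombination (ZMod 2) (bas (m := m))

/-- The dot product as a bilinear map. -/
def dotL (m : ℕ) : Vec m →ₗ[ZMod 2] Vec m →ₗ[ZMod 2] ZMod 2 :=
  LinearMap.mk₂ (ZMod 2) dot
    (by intros; simp [dot, add_mul, Finset.sum_add_distrib])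
    (by intros; simp [dot, Finset.mul_sum, mul_assoc])
    (by intros; simp [dot, mul_add, Finset.sum_add_distrib])
    (by intros; simp [dot, Finset.mul_sum, mul_left_comm])

theorem dotL_apply (u v : Vec m) : dotL m u v = dot u v := rfl

theorem dot_lift (a b : V m) : dot (lift m a) (lift m b) = B m a b := by
  have h : (dotL m).compl₁₂ (lift m) (lift m) = B m := by
    refine (Pi.basisFun (ZMod 2) (Fin m ⊕ Fin m)).ext fun j =>
      (Pi.basisFun (ZMod 2) (Fin m ⊕ Fin m)).ext fun k => ?_
    simp only [Pi.basisFun_apply, LinearMap.compl₁₂_apply, lift,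
      Fintype.linearCombination_apply_single, one_smul, dotL_apply]
    exact dot_bas j k
  exact LinearMap.congr_fun₂ h a b

theorem lift_even (a : V m) : ∑ i, lift m a i = 0 := by
  simp only [lift, Fintype.linearCombination_apply, Finset.sum_apply, Pi.smul_apply, smul_eq_mul]
  rw [Finset.sum_comm]
  exact Finset.sum_eq_zero fun j _ => by rw [← Finset.mul_sum, bas_even, mul_zero]

/-- The coordinates of a vector. -/
def coordMap (m : ℕ) : Vec m →ₗ[ZMod 2] V m :=
  LinearMap.pi (Sum.elim (fun j => (dotL m).flip (bas (.inr j))) (fun j => (dotL m).flip (bas (.inl j))))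

theorem coordMap_lift (a : V m) : coordMap m (lift m a) = a := by
  have hb : ∀ j, bas j = lift m (Pi.single j 1) := fun j => by
    rw [lift, Fintype.linearCombination_apply_single, one_smul]
  funext j
  rcases j with j | j
  · show dot (lift m a) (bas (.inr j)) = _
    rw [hb, dot_lift]
    simp [B_apply, Pi.single_apply]
  · show dot (lift m a) (bas (.inl j)) = _
    rw [hb, dot_lift]
    simp [B_apply, Pi.single_apply]

theorem coordMap_eq_zero {v : Vec m} (hv : ∑ i, v i = 0) (h : coordMap m v = 0) :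
    ∀ i j, v i = v j := by
  have hseg : ∀ a b, a ≤ b → b ≤ 2 * m + 2 →
      dot v (seg m a b) = ∑ i ∈ Finset.univ.filter (fun i : Fin (2 * m + 2) => a ≤ i.val ∧ i.val < b), v i := by
    intro a b _ _
    rw [Finset.sum_filter]
    refine Finset.sum_congr rfl fun i _ => ?_
    unfold seg; split_ifs <;> simp
  set f : ℕ → ZMod 2 := fun n => if h : n < 2 * m + 2 then v ⟨n, h⟩ else 0 with hf
  have hs : ∀ a b, b ≤ 2 * m + 2 → dot v (seg m a b) = ∑ i ∈ Finset.Ico a b, f i := by
    intro a b hb
    have h1 : dot v (seg m a b) =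
        ∑ i : Fin (2 * m + 2), if a ≤ i.val ∧ i.val < b then f i.val else 0 := by
      refine Finset.sum_congr rfl fun i _ => ?_
      simp only [seg, hf, dif_pos i.isLt]
      split_ifs <;> simp
    rw [h1, Fin.sum_univ_eq_sum_range (fun i => if a ≤ i ∧ i < b then f i else 0), ← Finset.sum_filter]
    congr 1
    ext i; simp; omega
  have hpair : ∀ j, j < m → f (2 * j) = f (2 * j + 1) := by
    intro j hj
    have h1 : dot v (seg m (2 * j) (2 * j + 2)) = 0 := congrFun h (.inr ⟨j, hj⟩)
    rw [hs _ _ (by omega), Finset.sum_Ico_succ_top (by omega), Nat.Ico_succ_singleton,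
      Finset.sum_singleton] at h1
    exact CharTwo.add_eq_zero.1 h1
  have hlink : ∀ j, j < m → f (2 * j + 1) = f (2 * j + 2) := by
    intro j hj
    have h1 : dot v (seg m (2 * j + 1) (2 * m + 1)) = 0 := congrFun h (.inl ⟨j, hj⟩)
    have h2 : ∑ i ∈ Finset.Ico (2 * j + 3) (2 * m + 1), f i = 0 := by
      by_cases hj' : j + 1 < m
      · have : dot v (seg m (2 * (j + 1) + 1) (2 * m + 1)) = 0 := congrFun h (.inl ⟨j + 1, hj'⟩)
        rwa [hs _ _ (by omega)] at this
      · rw [Finset.Ico_eq_empty (by omega), Finset.sum_empty]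
    rw [hs _ _ (by omega), Finset.sum_eq_sum_Ico_succ_bot (by omega),
      Finset.sum_eq_sum_Ico_succ_bot (by omega), h2, add_zero] at h1
    exact CharTwo.add_eq_zero.1 h1
  have hconst : ∀ j, j ≤ m → f (2 * j) = f 0 := by
    intro j
    induction j with
    | zero => intro _; rfl
    | succ j ih =>
      intro hj
      rw [show 2 * (j + 1) = 2 * j + 2 by ring, ← hlink j (by omega), ← hpair j (by omega), ih (by omega)]
  have hall' : ∀ n, n ≤ 2 * m → f n = f 0 := by
    intro n hn
    rcases Nat.even_or_odd n with ⟨k, rfl⟩ | ⟨k, rfl⟩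
    · rw [← two_mul]; exact hconst k (by omega)
    · rw [← hpair k (by omega)]; exact hconst k (by omega)
  have hlast : f (2 * m + 1) = f 0 := by
    have h1 : ∑ n ∈ Finset.range (2 * m + 2), f n = 0 := by
      rw [← Fin.sum_univ_eq_sum_range, ← hv]
      exact Finset.sum_congr rfl fun i _ => by simp [hf, i.isLt]
    rw [Finset.sum_range_succ, Finset.sum_congr rfl (fun n hn => hall' n (by simp at hn; omega)),
      Finset.sum_const, Finset.card_range, nsmul_eq_mul, cast_odd (by omega), one_mul] at h1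
    exact (CharTwo.add_eq_zero.1 h1).symm
  intro i j
  have hi : ∀ i : Fin (2 * m + 2), v i = f 0 := by
    intro i
    rw [show v i = f i.val by simp [hf, i.isLt]]
    by_cases hn : i.val ≤ 2 * m
    · exact hall' _ hn
    · rw [show i.val = 2 * m + 1 by omega]; exact hlast
  rw [hi i, hi j]

theorem lift_coordMap {v : Vec m} (hv : ∑ i, v i = 0) :
    ∃ c : ZMod 2, lift m (coordMap m v) = v + fun _ => c := by
  set d : Vec m := lift m (coordMap m v) + v with hd
  have h1 : ∑ i, d i = 0 := by
    simp only [hd, Pi.add_apply, Finset.sum_add_distrib, lift_even, hv, add_zero]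
  have h2 : coordMap m d = 0 := by
    rw [hd, map_add, coordMap_lift, ZModModule.add_self]
  refine ⟨d ⟨0, by omega⟩, funext fun i => ?_⟩
  rw [Pi.add_apply, ← coordMap_eq_zero h1 h2 i ⟨0, by omega⟩, hd, Pi.add_apply]
  linear_combination -(zadd (v i))

theorem coordMap_const (c : ZMod 2) : coordMap m (fun _ => c) = 0 := by
  funext j
  have h : ∀ k, dot (fun _ => c) (bas (m := m) k) = 0 := fun k => by
    rw [dot, ← Finset.mul_sum, bas_even, mul_zero]
  rcases j with j | j
  · exact h _
  · exact h _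

theorem sum_const_even (c : ZMod 2) : ∑ _i : Fin (2 * m + 2), c = 0 := by
  rw [Finset.sum_const, Finset.card_univ, Fintype.card_fin, nsmul_eq_mul, cast_even (by omega), zero_mul]

/-- The induced quadratic form. -/
def form (m : ℕ) (a : V m) : ZMod 2 := half (lift m a)

theorem form_hasPolar : HasPolar (form m) := by
  intro a b
  rw [polar_eq, form, form, form, map_add, half_add (lift_even a) (lift_even b), dot_lift]

theorem half_add_const (hm : Odd m) {v : Vec m} (hv : ∑ i, v i = 0) (c : ZMod 2) :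
    half (v + fun _ => c) = half v := by
  rw [half_add hv (sum_const_even c), dot, ← Finset.sum_mul, hv, zero_mul, add_zero]
  have h0 : half (fun _ : Fin (2 * m + 2) => c) = 0 := by
    obtain ⟨k, hk⟩ := hm
    rw [half, wt, Finset.sum_const, Finset.card_univ, Fintype.card_fin, smul_eq_mul]
    apply cast_even
    by_cases hc : c = 0
    · subst hc; simp
    · rw [zeq_one hc, ZMod.val_one]; omega
  rw [h0, add_zero]

/-- The permutation action on vectors. -/
def permL (σ : Equiv.Perm (Fin (2 * m + 2))) : Vec m →ₗ[ZMod 2] Vec m :=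
  LinearMap.funLeft (ZMod 2) (ZMod 2) σ.symm

theorem sum_permL (σ : Equiv.Perm (Fin (2 * m + 2))) (v : Vec m) :
    ∑ i, permL σ v i = ∑ i, v i :=
  Equiv.sum_comp σ.symm v

/-- The action on the quotient. -/
def act (σ : Equiv.Perm (Fin (2 * m + 2))) : Module.End (ZMod 2) (V m) :=
  coordMap m ∘ₗ permL σ ∘ₗ lift m

theorem act_mul (σ τ : Equiv.Perm (Fin (2 * m + 2))) : act (m := m) (σ * τ) = act σ * act τ := by
  refine LinearMap.ext fun a => ?_
  show coordMap m (permL (σ * τ) (lift m a)) =
    coordMap m (permL σ (lift m (coordMap m (permL τ (lift m a)))))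
  obtain ⟨c, hc⟩ := lift_coordMap (v := permL τ (lift m a)) (by rw [sum_permL, lift_even])
  have h1 : permL σ (fun _ : Fin (2 * m + 2) => c) = fun _ => c := rfl
  rw [hc, map_add, map_add, h1, coordMap_const, add_zero]
  rfl

/-- The representation. -/
def actHom (m : ℕ) : Equiv.Perm (Fin (2 * m + 2)) →* Module.End (ZMod 2) (V m) where
  toFun := act
  map_one' := LinearMap.ext fun a => coordMap_lift a
  map_mul' := act_mul

theorem form_act (hm : Odd m) (σ : Equiv.Perm (Fin (2 * m + 2))) (a : V m) :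
    form m (act σ a) = form m a := by
  obtain ⟨c, hc⟩ := lift_coordMap (v := permL σ (lift m a)) (by rw [sum_permL, lift_even])
  show half (lift m (coordMap m (permL σ (lift m a)))) = half (lift m a)
  rw [hc, half_add_const hm (by rw [sum_permL, lift_even])]
  simp only [half, wt]
  congr 2
  exact Equiv.sum_comp σ.symm (fun i => (lift m a i).val)

theorem actHom_injective (hm : 2 ≤ m) : Function.Injective (actHom m) := by
  rw [injective_iff_map_eq_one]
  intro σ hσ
  have key : ∀ p q : Fin (2 * m + 2), p ≠ q → σ p = p ∨ σ p = q := by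
    intro p q hpq
    by_contra hne
    push Not at hne
    set u : Vec m := Pi.single p 1 + Pi.single q 1 with hu
    have hev : ∑ i, u i = 0 := by
      simp only [hu, Pi.add_apply, Finset.sum_add_distrib, Finset.sum_pi_single', Finset.mem_univ, if_true]
      decide
    obtain ⟨c, hc⟩ := lift_coordMap hev
    have h1 : coordMap m (permL σ (lift m (coordMap m u))) = coordMap m u :=
      LinearMap.congr_fun hσ (coordMap m u)
    rw [hc, map_add, map_add, show permL σ (fun _ : Fin (2 * m + 2) => c) = fun _ => c from rfl,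
      coordMap_const, add_zero] at h1
    have h2 : coordMap m (permL σ u + u) = 0 := by rw [map_add, h1, ZModModule.add_self]
    have h3 := coordMap_eq_zero (v := permL σ u + u)
      (by simp only [Pi.add_apply, Finset.sum_add_distrib, sum_permL, hev, add_zero]) h2
    obtain ⟨r, hr⟩ : ∃ r, r ∉ ({p, q, σ p, σ q} : Finset (Fin (2 * m + 2))) := by
      by_contra h
      push Not at h
      have hcard := Finset.card_le_card (fun x (_ : x ∈ (Finset.univ : Finset _)) => h x)
      rw [Finset.card_univ, Fintype.card_fin] at hcard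
      have := Finset.card_le_four (a := p) (b := q) (c := σ p) (d := σ q)
      omega
    simp only [Finset.mem_insert, Finset.mem_singleton, not_or] at hr
    have hsr : ∀ x, σ x ≠ r → σ.symm r ≠ x := fun x hx h => hx (by rw [← h, Equiv.apply_symm_apply])
    have h4 := h3 (σ p) r
    simp [hu, permL, LinearMap.funLeft_apply, Pi.single_apply, hpq, hne.1, hne.2, hr.1, hr.2.1,
      hsr p (Ne.symm hr.2.2.1), hsr q (Ne.symm hr.2.2.2)] at h4
  refine Equiv.ext fun p => ?_
  obtain ⟨q, hq⟩ : ∃ q, q ∉ ({p, σ p} : Finset (Fin (2 * m + 2))) := by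
    by_contra h
    push Not at h
    have hcard := Finset.card_le_card (fun x (_ : x ∈ (Finset.univ : Finset _)) => h x)
    rw [Finset.card_univ, Fintype.card_fin] at hcard
    have := Finset.card_le_two (a := p) (b := σ p)
    omega
  simp only [Finset.mem_insert, Finset.mem_singleton, not_or] at hq
  exact (key p q (Ne.symm hq.1)).resolve_right (Ne.symm hq.2)

theorem exists_shift_value (m : ℕ) :
    ∃ w : V m, form m = (fun v => Q m v + B m v w) ∧
      Q m w = ∑ j : Fin m, ((m - j.val : ℕ) : ZMod 2) := by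
  obtain ⟨w, hw⟩ := (form_hasPolar (m := m)).exists_shift
  refine ⟨w, hw, Finset.sum_congr rfl fun j _ => ?_⟩
  have hx : w (.inr j) = 1 := by
    have h := congrFun hw (Pi.single (.inl j) 1)
    rw [form, lift, Fintype.linearCombination_apply_single, one_smul, bas, Sum.elim_inl, half,
      wt_seg (by omega), show (2 * j.val + 2 - 2 * j.val) / 2 = 1 by omega] at h
    simpa [quadFormPlus, B_apply, Pi.single_apply] using h.symm
  have hy : w (.inl j) = ((m - j.val : ℕ) : ZMod 2) := by
    have h := congrFun hw (Pi.single (.inr j) 1)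
    rw [form, lift, Fintype.linearCombination_apply_single, one_smul, bas, Sum.elim_inr, half,
      wt_seg (by omega), show (2 * m + 1 - (2 * j.val + 1)) / 2 = m - j.val by omega] at h
    simpa [quadFormPlus, B_apply, Pi.single_apply] using h.symm
  rw [hx, hy, mul_one]

theorem sum_sub_cast (k : ℕ) :
    ∑ j : Fin (2 * k + 1), ((2 * k + 1 - j.val : ℕ) : ZMod 2) = ((k + 1 : ℕ) : ZMod 2) := by
  induction k with
  | zero => decide
  | succ k ih =>
    rw [show 2 * (k + 1) + 1 = 2 * k + 1 + 1 + 1 by ring, Fin.sum_univ_succ, Fin.sum_univ_succ]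
    simp only [Fin.val_zero, Fin.val_succ, Nat.add_sub_add_right, Nat.sub_zero, zero_add]
    rw [ih, show 2 * k + 1 + 1 + 1 - 1 = 2 * k + 1 + 1 by omega, cast_odd (n := 2 * k + 1 + 1 + 1) (by omega),
      cast_even (n := 2 * k + 1 + 1) (by omega)]
    push_cast; ring

/-- An action by isometries, as a hom into the matrix isometry group. -/
theorem exists_hom_isometry {ι : Type} [Fintype ι] [DecidableEq ι] {G : Type*} [Group G]
    (Qf : (ι → ZMod 2) → ZMod 2) (f : G →* Module.End (ZMod 2) (ι → ZMod 2))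
    (hf : Function.Injective f) (h : ∀ g v, Qf (f g v) = Qf v) :
    ∃ φ : G →* ↥(isometryGroup (ZMod 2) Qf), Function.Injective φ := by
  let e : Module.End (ZMod 2) (ι → ZMod 2) →* Matrix ι ι (ZMod 2) :=
    (LinearMap.toMatrixAlgEquiv' (R := ZMod 2) (n := ι)).toAlgHom.toRingHom.toMonoidHom
  let φ : G →* Matrix.GeneralLinearGroup ι (ZMod 2) := (Units.map (e.comp f)).comp toUnits.toMonoidHom
  have hφ : ∀ g v, (φ g : Matrix ι ι (ZMod 2)).mulVec v = f g v := fun g v => by
    show (LinearMap.toMatrix' (f g)).mulVec v = f g v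
    rw [LinearMap.toMatrix'_mulVec]
  refine ⟨φ.codRestrict _ (fun g u v => by
    show Qf ((φ g : Matrix ι ι (ZMod 2)).mulVec u) = Qf u
    rw [hφ, h]), fun a b hab => hf ?_⟩
  have hab' : φ a = φ b := congrArg Subtype.val hab
  exact LinearMap.ext fun v => by rw [← hφ, ← hφ, hab']

/-- The conjugated representation. -/
theorem exists_hom_of_type {ι : Type} [Fintype ι] [DecidableEq ι] (hm : Odd m) (h2 : 2 ≤ m)
    (Qf : (ι → ZMod 2) → ZMod 2) (g : V m ≃ₗ[ZMod 2] (ι → ZMod 2))
    (hg : ∀ v, form m v = Qf (g v)) :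
    ∃ φ : Equiv.Perm (Fin (2 * m + 2)) →* ↥(isometryGroup (ZMod 2) Qf), Function.Injective φ := by
  refine exists_hom_isometry Qf ((g.conjRingEquiv).toRingHom.toMonoidHom.comp (actHom m))
    (g.conjRingEquiv.injective.comp (actHom_injective h2)) fun σ v => ?_
  obtain ⟨a, rfl⟩ := g.surjective v
  show Qf (g (actHom m σ (g.symm (g a)))) = Qf (g a)
  rw [g.symm_apply_apply, ← hg, ← hg]
  exact form_act hm σ a

theorem sym_embeds_plus {k : ℕ} (hk : 1 ≤ k) (ho : Odd k) :
    ∃ φ : Equiv.Perm (Fin (4 * k + 4)) →* ↥(isometryGroup (ZMod 2) (quadFormPlus (2 * k + 1) (ZMod 2))),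
      Function.Injective φ := by
  obtain ⟨w, hw, hQ⟩ := exists_shift_value (2 * k + 1)
  rw [sum_sub_cast, cast_even (by obtain ⟨r, rfl⟩ := ho; omega)] at hQ
  have := exists_hom_of_type (m := 2 * k + 1) ⟨k, rfl⟩ (by omega) (Q (2 * k + 1)) (transvection w)
    (fun v => by rw [hw]; exact shift_equiv_of_singular (q := Q (2 * k + 1)) (fun u v => by ring) hQ v)
  rwa [show 4 * k + 4 = 2 * (2 * k + 1) + 2 by ring]

theorem sym_embeds_minus {k : ℕ} (hk : 1 ≤ k) (he : Even k) :
    ∃ φ : Equiv.Perm (Fin (4 * k + 4)) →*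
      ↥(isometryGroup (ZMod 2) (quadFormMinus (2 * k) (ZMod 2) 1 1)), Function.Injective φ := by
  obtain ⟨w, hw, hQ⟩ := exists_shift_value (2 * k + 1)
  rw [sum_sub_cast, cast_odd (by obtain ⟨r, rfl⟩ := he; omega)] at hQ
  obtain ⟨g, hg⟩ := shift_equiv_of_nonsingular (2 * k) hQ
  have := exists_hom_of_type (m := 2 * k + 1) ⟨k, rfl⟩ (by omega) _ g
    (fun v => by rw [hw]; exact hg v)
  rwa [show 4 * k + 4 = 2 * (2 * k + 1) + 2 by ring]

end CfsgLib.KnownSimple.EvenSubsetModule
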