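import Mathlib

set_option autoImplicit false

/-!
A permutation action of the additive group of `F^κ` which is normalised by `SL κ F` and moves
some point has degree at least `q^m + (q^m - 1)/(q - 1)` unless its orbits have one of two shapes.
-/

namespace CfsgLib.KnownSimple.ModulePerm

open Matrix Finset

variable {F : Type*} [Field F] [Fintype F] {κ : Type*} [Fintype κ] [DecidableEq κ]

/-! ### Linear algebra helpers -/

/-- a vector with prescribed dot products -/
theorem exists_dot {U : Submodule F (κ → F)} {v : κ → F} (hv : v ∉ U) :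
    ∃ f : κ → F, (∀ u ∈ U, f ⬝ᵥ u = 0) ∧ f ⬝ᵥ v = 1 := by
  obtain ⟨L, hLv, hLU⟩ := Submodule.exists_le_ker_of_notMem hv
  let f₀ : κ → F := fun i => L (Pi.single i 1)
  have hf : ∀ x, f₀ ⬝ᵥ x = L x := by
    intro x
    conv_rhs => rw [pi_eq_sum_univ x]
    rw [map_sum]
    apply Finset.sum_congr rfl
    intro i _
    rw [map_smul, smul_eq_mul]
    rw [mul_comm]
    congr 1
    exact congrArg L (by ext j; simp [Pi.single_apply, eq_comm])
  refine ⟨(L v)⁻¹ • f₀, ?_, ?_⟩
  · intro u hu
    rw [smul_dotProduct, hf, LinearMap.mem_ker.mp (hLU hu), smul_zero]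
  · rw [smul_dotProduct, hf, smul_eq_mul, inv_mul_cancel₀ hLv]

/-- The transvection `x ↦ x + (f ⬝ x) u`. -/
def tv (u f : κ → F) (h : f ⬝ᵥ u = 0) : SpecialLinearGroup κ F :=
  ⟨1 + vecMulVec u f, by
    rw [vecMulVec_eq (ι := Unit), det_one_add_replicateCol_mul_replicateRow, h, add_zero]⟩

theorem tv_mulVec (u f : κ → F) (h : f ⬝ᵥ u = 0) (x : κ → F) :
    (tv u f h : Matrix κ κ F) *ᵥ x = x + (f ⬝ᵥ x) • u := by
  show (1 + vecMulVec u f) *ᵥ x = _
  rw [add_mulVec, one_mulVec]
  congr 1
  ext i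
  simp only [mulVec, vecMulVec_apply, dotProduct, Pi.smul_apply, smul_eq_mul, Finset.sum_mul]
  exact Finset.sum_congr rfl fun j _ => by ring

theorem tv_transpose_mulVec (u f : κ → F) (h : f ⬝ᵥ u = 0) (x : κ → F) :
    (tv u f h : Matrix κ κ F).transpose *ᵥ x = x + (u ⬝ᵥ x) • f := by
  show (1 + vecMulVec u f).transpose *ᵥ x = _
  rw [transpose_add, transpose_one, transpose_vecMulVec]
  exact tv_mulVec f u (by rwa [dotProduct_comm]) x

/-- Transitivity of `SL` on non-zero vectors. -/
theorem sl_transitive (hκ : 2 ≤ Fintype.card κ) {a b : κ → F} (ha : a ≠ 0) (hb : b ≠ 0) :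
    ∃ g : SpecialLinearGroup κ F, (g : Matrix κ κ F) *ᵥ a = b := by
  have step : ∀ {a b : κ → F}, a ≠ 0 → b ∉ Submodule.span F {a} →
      ∃ g : SpecialLinearGroup κ F, (g : Matrix κ κ F) *ᵥ a = b := by
    intro a b ha hab
    have h : a ∉ Submodule.span F {b - a} := by
      intro hm
      obtain ⟨c, hc⟩ := Submodule.mem_span_singleton.mp hm
      apply hab
      rcases eq_or_ne c 0 with rfl | hc0
      · exact absurd (by simpa using hc.symm) ha
      · refine Submodule.mem_span_singleton.mpr ⟨c⁻¹ + 1, ?_⟩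
        rw [add_smul, one_smul]
        conv_lhs => arg 1; rw [← hc, smul_smul, inv_mul_cancel₀ hc0, one_smul]
        abel
    obtain ⟨f, hf0, hf1⟩ := exists_dot h
    refine ⟨tv (b - a) f (hf0 _ (Submodule.mem_span_singleton_self _)), ?_⟩
    rw [tv_mulVec, hf1, one_smul]
    abel
  by_cases hab : b ∈ Submodule.span F {a}
  · obtain ⟨c, hc⟩ : ∃ c, c ∉ Submodule.span F {a} := by
      by_contra hcon
      push Not at hcon
      have h1 : Submodule.span F {a} = ⊤ := eq_top_iff.mpr fun x _ => hcon x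
      have h2 := finrank_span_singleton (K := F) ha
      rw [h1, finrank_top, Module.finrank_pi] at h2
      omega
    obtain ⟨g₁, hg₁⟩ := step ha hc
    have hc0 : c ≠ 0 := by rintro rfl; exact hc (Submodule.zero_mem _)
    have hbc : b ∉ Submodule.span F {c} := by
      intro hm
      obtain ⟨s, rfl⟩ := Submodule.mem_span_singleton.mp hm
      have hs : s ≠ 0 := by rintro rfl; simp at hb
      exact hc (by simpa [smul_smul, hs] using Submodule.smul_mem _ s⁻¹ hab)
    obtain ⟨g₂, hg₂⟩ := step hc0 hbc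
    exact ⟨g₂ * g₁, by rw [Matrix.SpecialLinearGroup.coe_mul, ← mulVec_mulVec, hg₁, hg₂]⟩
  · exact step ha hab

/-- An additive subgroup with two independent vectors, stable under all transvections fixing one
of its non-zero members, is everything. -/
theorem eq_univ_of_stable (B : AddSubgroup (κ → F))
    (hB : ∀ (v : κ → F), v ∈ B → v ≠ 0 → ∀ (w f : κ → F) (h : f ⬝ᵥ w = 0), f ⬝ᵥ v = 0 →
      ∀ x ∈ B, x + (f ⬝ᵥ x) • w ∈ B)
    {u v : κ → F} (hu : u ∈ B) (hv : v ∈ B) (huv : u ∉ Submodule.span F {v})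
    (hvu : v ∉ Submodule.span F {u}) : B = ⊤ := by
  have hu0 : u ≠ 0 := by rintro rfl; exact huv (Submodule.zero_mem _)
  have hv0 : v ≠ 0 := by rintro rfl; exact hvu (Submodule.zero_mem _)
  have key : ∀ {u v : κ → F}, u ∈ B → v ∈ B → v ≠ 0 → ∀ w, u ∉ Submodule.span F {v, w} → w ∈ B := by
    intro u v hu hv hv0 w hw
    obtain ⟨f, hf0, hf1⟩ := exists_dot hw
    have h := hB v hv hv0 w f (hf0 w (Submodule.subset_span (by simp)))
      (hf0 v (Submodule.subset_span (by simp))) u hu
    rw [hf1, one_smul] at h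
    simpa using B.sub_mem h hu
  rw [eq_top_iff]
  intro w _
  by_cases h1 : u ∈ Submodule.span F {v, w}
  swap
  · exact key hu hv hv0 w h1
  obtain ⟨a, b, hab⟩ := Submodule.mem_span_pair.mp h1
  have hb : b ≠ 0 := by
    rintro rfl
    exact huv (Submodule.mem_span_singleton.mpr ⟨a, by simpa using hab⟩)
  have hsplit : w = (b⁻¹) • u + (-(b⁻¹ * a)) • v := by
    rw [← hab]
    simp [smul_add, smul_smul, hb]
  rw [hsplit]
  refine B.add_mem ?_ ?_
  · apply key hv hu hu0
    intro hm
    apply hvu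
    refine Submodule.span_le.mpr ?_ hm
    rintro x hx
    simp only [Set.mem_insert_iff, Set.mem_singleton_iff] at hx
    rcases hx with rfl | rfl
    · exact Submodule.mem_span_singleton_self _
    · exact Submodule.smul_mem _ _ (Submodule.mem_span_singleton_self _)
  · apply key hu hv hv0
    intro hm
    apply huv
    refine Submodule.span_le.mpr ?_ hm
    rintro x hx
    simp only [Set.mem_insert_iff, Set.mem_singleton_iff] at hx
    rcases hx with rfl | rfl
    · exact Submodule.mem_span_singleton_self _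
    · exact Submodule.smul_mem _ _ (Submodule.mem_span_singleton_self _)

/-! ### The dual of a subgroup of `F^κ` -/

variable (F) in
theorem exists_char : ∃ c : AddChar F ℂ, ∀ a : F, a ≠ 0 → ∃ x, c (a * x) ≠ 1 := by
  obtain ⟨c, hc⟩ := (AddChar.exists_apply_ne_zero (a := (1 : F))).mpr one_ne_zero
  exact ⟨c, fun a ha => ⟨a⁻¹, by rwa [mul_inv_cancel₀ ha]⟩⟩

variable (F) in
/-- a fixed non-trivial additive character -/
noncomputable def chi : AddChar F ℂ := (exists_char F).choose

/-- the character of `F^κ` attached to `ψ` -/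
noncomputable def psiChar (ψ : κ → F) : AddChar (κ → F) ℂ :=
  (chi F).compAddMonoidHom (AddMonoidHom.mk' (fun w => ψ ⬝ᵥ w) (fun a b => dotProduct_add ψ a b))

theorem psiChar_apply (ψ w : κ → F) : psiChar ψ w = chi F (ψ ⬝ᵥ w) := rfl

theorem psiChar_bijective : Function.Bijective (psiChar (F := F) (κ := κ)) := by
  rw [Fintype.bijective_iff_injective_and_card, AddChar.card_eq]
  refine ⟨fun a b hab => ?_, rfl⟩
  ext i
  by_contra hne
  obtain ⟨x, hx⟩ := (exists_char F).choose_spec (a i - b i) (sub_ne_zero.mpr hne)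
  apply hx
  have h := DFunLike.congr_fun hab (Pi.single i x)
  rw [psiChar_apply, psiChar_apply, dotProduct_single, dotProduct_single] at h
  show chi F ((a i - b i) * x) = 1
  rw [sub_mul, AddChar.map_sub_eq_div, h]
  exact div_self (AddChar.val_isUnit _ _).ne_zero

/-- the annihilator -/
def dual (K : AddSubgroup (κ → F)) : AddSubgroup (κ → F) where
  carrier := {ψ | ∀ w ∈ K, psiChar ψ w = 1}
  zero_mem' := by intro w _; simp [psiChar_apply]
  add_mem' := by
    intro a b ha hb w hw
    have h1 := ha w hw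
    have h2 := hb w hw
    rw [psiChar_apply] at h1 h2 ⊢
    rw [add_dotProduct, AddChar.map_add_eq_mul, h1, h2, mul_one]
  neg_mem' := by
    intro a ha w hw
    have h1 := ha w hw
    rw [psiChar_apply] at h1 ⊢
    rw [neg_dotProduct, AddChar.map_neg_eq_inv, h1, inv_one]

theorem mem_dual {K : AddSubgroup (κ → F)} {ψ : κ → F} :
    ψ ∈ dual K ↔ ∀ w ∈ K, chi F (ψ ⬝ᵥ w) = 1 := Iff.rfl

theorem card_dual (K : AddSubgroup (κ → F)) :
    Nat.card (dual K) = Nat.card ((κ → F) ⧸ K) := by
  classical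
  have : Fintype ((κ → F) ⧸ K) := Fintype.ofFinite _
  rw [Nat.card_eq_fintype_card (α := (κ → F) ⧸ K), ← AddChar.card_eq, ← Nat.card_eq_fintype_card]
  apply Nat.card_congr
  refine Equiv.ofBijective (fun ψ =>
    { toFun := Quotient.lift (fun w => psiChar (ψ : κ → F) w) ?_
      map_zero_eq_one' := ?_
      map_add_eq_mul' := ?_ }) ⟨?_, ?_⟩
  · intro a b hab
    have hm : -a + b ∈ K := QuotientAddGroup.leftRel_apply.mp hab
    have h := ψ.2 _ hm
    show psiChar (ψ : κ → F) a = psiChar (ψ : κ → F) b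
    conv_rhs => rw [show b = a + (-a + b) by abel, AddChar.map_add_eq_mul, h, mul_one]
  · exact AddChar.map_zero_eq_one _
  · intro a b
    induction a using QuotientAddGroup.induction_on with
    | H a => induction b using QuotientAddGroup.induction_on with
      | H b => exact AddChar.map_add_eq_mul _ a b
  · intro a b hab
    apply Subtype.ext
    apply psiChar_bijective.injective
    ext w
    exact DFunLike.congr_fun hab (QuotientAddGroup.mk w)
  · intro c
    obtain ⟨ψ, hψ⟩ := psiChar_bijective.surjective (c.compAddMonoidHom (QuotientAddGroup.mk' K))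
    refine ⟨⟨ψ, ?_⟩, ?_⟩
    · intro w hw
      rw [hψ]
      show c (QuotientAddGroup.mk w) = 1
      rw [(QuotientAddGroup.eq_zero_iff w).mpr hw, AddChar.map_zero_eq_one]
    · ext x
      induction x using QuotientAddGroup.induction_on with
      | H a => exact DFunLike.congr_fun hψ a

theorem dual_separates (K : AddSubgroup (κ → F)) {w : κ → F}
    (h : ∀ ψ ∈ dual K, chi F (ψ ⬝ᵥ w) = 1) : w ∈ K := by
  by_contra hw
  have hw' : (QuotientAddGroup.mk w : (κ → F) ⧸ K) ≠ 0 := fun h0 =>
    hw ((QuotientAddGroup.eq_zero_iff w).mp h0)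
  obtain ⟨c, hc⟩ := AddChar.exists_apply_ne_zero.mpr hw'
  obtain ⟨ψ, hψ⟩ := psiChar_bijective.surjective (c.compAddMonoidHom (QuotientAddGroup.mk' K))
  apply hc
  have hval : ∀ v, chi F (ψ ⬝ᵥ v) = c (QuotientAddGroup.mk v) := fun v => DFunLike.congr_fun hψ v
  rw [← hval]
  apply h
  intro v hv
  rw [psiChar_apply, hval, (QuotientAddGroup.eq_zero_iff v).mpr hv, AddChar.map_zero_eq_one]

theorem card_punit_ineq (q m : ℕ) (hq : 2 ≤ q) :
    (q ^ m - 1) / (q - 1) * (q - 1) = q ^ m - 1 :=
  Nat.div_mul_cancel (by simpa only [one_pow] using Nat.sub_dvd_pow_sub_pow q 1 m)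

/-! ### The orbit shapes -/

variable {Ω : Type*} [Fintype Ω] [AddAction (κ → F) Ω]

/-- the orbit shapes -/
theorem shapes (hκ : 2 ≤ Fintype.card κ)
    (sym : ∀ g : SpecialLinearGroup κ F, ∃ π : Equiv.Perm Ω,
      ∀ (w : κ → F) (ω : Ω), π (w +ᵥ ω) = ((g : Matrix κ κ F) *ᵥ w) +ᵥ π ω)
    (nontriv : ∃ (ω : Ω) (w : κ → F), w +ᵥ ω ≠ ω)
    (hd : Fintype.card Ω <
      Fintype.card F ^ Fintype.card κ + (Fintype.card F ^ Fintype.card κ - 1) / (Fintype.card F - 1)) :
    (∀ ω : Ω, (∀ w : κ → F, w +ᵥ ω = ω) ∨ (∀ w : κ → F, w +ᵥ ω = ω → w = 0)) ∨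
    (∀ ω : Ω, ∃ ψ : κ → F, ψ ≠ 0 ∧ ∀ w : κ → F, w +ᵥ ω = ω ↔ ψ ⬝ᵥ w = 0) := by
  classical
  set q := Fintype.card F with hq
  have hq2 : 2 ≤ q := Fintype.one_lt_card
  set P := q ^ Fintype.card κ with hP
  have hcardW : Nat.card (κ → F) = P := by rw [Nat.card_eq_fintype_card, Fintype.card_fun]
  let Q := Quotient (AddAction.orbitRel (κ → F) Ω)
  have : Fintype Q := Fintype.ofFinite Q
  let st : Ω → AddSubgroup (κ → F) := fun ω => AddAction.stabilizer (κ → F) ω
  have hst : ∀ (v : κ → F) ω, st (v +ᵥ ω) = st ω := by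
    intro v ω
    ext w
    simp only [st, AddAction.mem_stabilizer_iff]
    rw [vadd_comm]
    exact (vadd_left_cancel_iff v)
  let D : Q → AddSubgroup (κ → F) := fun o => dual (st o.out)
  have hD : ∀ ω : Ω, dual (st ω) = D (Quotient.mk _ ω) := by
    intro ω
    obtain ⟨v, hv⟩ := AddAction.mem_orbit_iff.mp (Quotient.exact (Quotient.out_eq (Quotient.mk (AddAction.orbitRel (κ → F) Ω) ω)) :
      (Quotient.mk (AddAction.orbitRel (κ → F) Ω) ω).out ∈ AddAction.orbit (κ → F) ω)
    show dual (st ω) = dual (st _)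
    rw [← hv, hst]
  have hcard : Fintype.card Ω = ∑ o : Q, Nat.card (D o) := by
    rw [← Nat.card_eq_fintype_card,
      Nat.card_congr (AddAction.selfEquivSigmaOrbitsQuotientStabilizer (κ → F) Ω), Nat.card_sigma]
    exact Finset.sum_congr rfl fun o _ => (card_dual _).symm
  let E : Q → Finset (κ → F) := fun o => Finset.univ.filter (fun ψ => ψ ∈ D o ∧ ψ ≠ 0)
  have hE : ∀ o, Nat.card (D o) = (E o).card + 1 := by
    intro o
    have h0 : (0 : κ → F) ∉ E o := by simp [E]
    rw [← Finset.card_insert_of_notMem h0, Nat.card_eq_fintype_card]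
    apply Fintype.card_of_subtype
    intro x
    by_cases hx : x = 0 <;> simp [E, hx]
  let mult : (κ → F) → ℕ := fun ψ => (Finset.univ.filter (fun o : Q => ψ ∈ D o)).card
  have hswap : ∑ o : Q, (E o).card =
      ∑ ψ ∈ Finset.univ.filter (fun ψ : κ → F => ψ ≠ 0), mult ψ := by
    simp only [E, mult, Finset.card_filter]
    rw [Finset.sum_comm, Finset.sum_filter]
    refine Finset.sum_congr rfl fun ψ _ => ?_
    by_cases hψ : ψ = 0 <;> simp [hψ]
  have hmove : ∀ g : SpecialLinearGroup κ F, ∃ σ : Equiv.Perm Q,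
      ∀ o ψ, ψ ∈ D (σ o) ↔ (g : Matrix κ κ F).transpose *ᵥ ψ ∈ D o := by
    intro g
    obtain ⟨π, hπ⟩ := sym g
    have hinj : Function.Injective (fun w => (g : Matrix κ κ F) *ᵥ w) :=
      Matrix.mulVec_injective_iff_isUnit.mpr
        ((Matrix.isUnit_iff_isUnit_det _).mpr (by rw [g.2]; exact isUnit_one))
    have hsurj : Function.Surjective (fun w => (g : Matrix κ κ F) *ᵥ w) :=
      Finite.injective_iff_surjective.mp hinj
    refine ⟨Quotient.congr π ?_, ?_⟩
    · intro a b
      show a ∈ AddAction.orbit (κ → F) b ↔ π a ∈ AddAction.orbit (κ → F) (π b)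
      constructor
      · rintro ⟨v, rfl⟩
        exact ⟨(g : Matrix κ κ F) *ᵥ v, (hπ v b).symm⟩
      · rintro ⟨v, hv⟩
        obtain ⟨u, rfl⟩ := hsurj v
        refine ⟨u, π.injective ?_⟩
        show π (u +ᵥ b) = π a
        rw [hπ]; exact hv
    · intro o ψ
      induction o using Quotient.inductionOn with
      | _ ω =>
        rw [Quotient.congr_mk, ← hD, ← hD, mem_dual, mem_dual]
        have hdot : ∀ w, ((g : Matrix κ κ F).transpose *ᵥ ψ) ⬝ᵥ w = ψ ⬝ᵥ ((g : Matrix κ κ F) *ᵥ w) := by
          intro w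
          rw [dotProduct_mulVec, ← mulVec_transpose]
        constructor
        · intro h w hw
          rw [hdot]
          apply h
          show _ +ᵥ π ω = π ω
          rw [← hπ, show w +ᵥ ω = ω from hw]
        · intro h w hw
          obtain ⟨u, rfl⟩ := hsurj w
          show chi F (ψ ⬝ᵥ ((g : Matrix κ κ F) *ᵥ u)) = 1
          rw [← hdot]
          apply h
          apply π.injective
          rw [hπ]; exact hw
  have hmult : ∀ a b : κ → F, a ≠ 0 → b ≠ 0 → mult a = mult b := by
    intro a b ha hb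
    obtain ⟨g, hg⟩ := sl_transitive hκ ha hb
    obtain ⟨σ, hσ⟩ := hmove g.transpose
    apply Finset.card_equiv σ.symm
    intro o
    have h := hσ (σ.symm o) a
    rw [Equiv.apply_symm_apply] at h
    simp only [Finset.mem_filter, Finset.mem_univ, true_and]
    rw [h, SpecialLinearGroup.coe_transpose, transpose_transpose, hg]
  obtain ⟨ω₁, w₁, hw₁⟩ := nontriv
  obtain ⟨ψ₀, hψ₀, hψ₀0⟩ : ∃ ψ, ψ ∈ D (Quotient.mk _ ω₁) ∧ ψ ≠ 0 := by
    by_contra hcon
    push Not at hcon
    apply hw₁
    apply dual_separates (st ω₁)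
    intro ψ hψ
    rw [hD] at hψ
    rw [hcon ψ hψ]
    simp
  have hpos : 0 < mult ψ₀ := Finset.card_pos.mpr ⟨_, Finset.mem_filter.mpr ⟨Finset.mem_univ _, hψ₀⟩⟩
  have hne0 : (Finset.univ.filter (fun ψ : κ → F => ψ ≠ 0)).card = P - 1 := by
    rw [Finset.filter_ne', Finset.card_erase_of_mem (Finset.mem_univ _), Finset.card_univ,
      Fintype.card_fun]
  have hsum : ∑ o : Q, (E o).card = (P - 1) * mult ψ₀ := by
    rw [hswap, Finset.sum_congr rfl (g := fun _ => mult ψ₀), Finset.sum_const, hne0, smul_eq_mul]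
    intro ψ hψ
    exact hmult ψ ψ₀ (Finset.mem_filter.mp hψ).2 hψ₀0
  have hdeq : Fintype.card Ω = Fintype.card Q + (P - 1) * mult ψ₀ := by
    rw [hcard, Finset.sum_congr rfl (fun o _ => hE o), Finset.sum_add_distrib, hsum]
    simp [add_comm]
  have hQpos : 0 < Fintype.card Q := Fintype.card_pos_iff.mpr ⟨Quotient.mk _ ω₁⟩
  have hP1 : 1 ≤ P := Nat.one_le_pow _ _ (by omega)
  have hone : mult ψ₀ = 1 := by
    by_contra hne
    have h2 : 2 ≤ mult ψ₀ := by omega
    have h3 : (P - 1) * 2 ≤ (P - 1) * mult ψ₀ := Nat.mul_le_mul_left _ h2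
    have h4 : (P - 1) / (q - 1) ≤ P - 1 := Nat.div_le_self _ _
    omega
  have huniq : ∀ ψ, ψ ≠ 0 → ∀ o o' : Q, ψ ∈ D o → ψ ∈ D o' → o = o' := by
    intro ψ hψ o o' h h'
    have hc : mult ψ = 1 := (hmult ψ ψ₀ hψ hψ₀0).trans hone
    exact Finset.card_le_one.mp hc.le o (by simp [h]) o' (by simp [h'])
  have hfull : ∀ o u v, u ∈ D o → v ∈ D o → u ∉ Submodule.span F {v} →
      v ∉ Submodule.span F {u} → D o = ⊤ := by
    intro o u v hu hv huv hvu
    refine eq_univ_of_stable (D o) ?_ hu hv huv hvu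
    intro v hv hv0 w f hfw hfv x hx
    obtain ⟨σ, hσ⟩ := hmove (tv f w (by rwa [dotProduct_comm]))
    have hso : σ o = o := by
      refine huniq v hv0 _ _ ((hσ o v).mpr ?_) hv
      rwa [tv_transpose_mulVec, hfv, zero_smul, add_zero]
    have h := (hσ o x).mp (by rwa [hso])
    rwa [tv_transpose_mulVec] at h
  by_cases hex : ∃ o, D o = ⊤
  · left
    obtain ⟨o, ho⟩ := hex
    intro ω
    by_cases hω : Quotient.mk _ ω = o
    · right
      intro w hw
      ext i
      by_contra hne
      obtain ⟨x, hx⟩ := (exists_char F).choose_spec (w i) hne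
      apply hx
      have h := (hD ω).trans (hω ▸ ho)
      have hm : (Pi.single i x : κ → F) ∈ dual (st ω) := h ▸ AddSubgroup.mem_top _
      have h2 := hm w hw
      rw [psiChar_apply, single_dotProduct, mul_comm] at h2
      exact h2
    · left
      intro w
      apply dual_separates (st ω)
      intro ψ hψ
      rw [hD] at hψ
      by_cases h0 : ψ = 0
      · simp [h0]
      · exact absurd (huniq ψ h0 _ _ hψ (ho ▸ AddSubgroup.mem_top _)) hω
  · right
    push Not at hex
    have hline : ∀ o u v, u ∈ D o → v ∈ D o → v ≠ 0 → u ∈ Submodule.span F {v} := by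
      intro o u v hu hv hv0
      by_contra hcon
      by_cases hvu : v ∈ Submodule.span F {u}
      · obtain ⟨a, rfl⟩ := Submodule.mem_span_singleton.mp hvu
        have ha : a ≠ 0 := by rintro rfl; simp at hv0
        exact hcon (Submodule.mem_span_singleton.mpr ⟨a⁻¹, by simp [smul_smul, ha]⟩)
      · exact hex o (hfull o u v hu hv hcon hvu)
    have hsub : ∀ o v, v ∈ E o →
        E o ⊆ (Finset.univ.filter (fun a : F => a ≠ 0)).image (fun a => a • v) := by
      intro o v hv u hu
      simp only [E, Finset.mem_filter, Finset.mem_univ, true_and] at hu hv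
      obtain ⟨a, rfl⟩ := Submodule.mem_span_singleton.mp (hline o u v hu.1 hv.1 hv.2)
      refine Finset.mem_image.mpr ⟨a, ?_, rfl⟩
      simp only [Finset.mem_filter, Finset.mem_univ, true_and]
      rintro rfl
      simp at hu
    have hFne : (Finset.univ.filter (fun a : F => a ≠ 0)).card = q - 1 := by
      rw [Finset.filter_ne', Finset.card_erase_of_mem (Finset.mem_univ _), Finset.card_univ]
    have hle : ∀ o, (E o).card ≤ q - 1 := by
      intro o
      rcases (E o).eq_empty_or_nonempty with h | ⟨v, hv⟩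
      · simp [h]
      · exact (Finset.card_le_card (hsub o v hv)).trans (Finset.card_image_le.trans hFne.le)
    have hMeq : (P - 1) / (q - 1) * (q - 1) = P - 1 := card_punit_ineq q (Fintype.card κ) hq2
    rw [hone, mul_one] at hdeq hsum
    have hcle : Fintype.card Q * (q - 1) ≤ P - 1 := by
      rw [← hMeq]
      apply Nat.mul_le_mul_right
      omega
    have hall : ∀ o, (E o).card = q - 1 := by
      intro o
      by_contra hne
      have hlt : ∑ o : Q, (E o).card < ∑ _o : Q, (q - 1) :=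
        Finset.sum_lt_sum (fun o _ => hle o) ⟨o, Finset.mem_univ _, lt_of_le_of_ne (hle o) hne⟩
      rw [hsum, Finset.sum_const, Finset.card_univ, smul_eq_mul] at hlt
      omega
    intro ω
    set o : Q := Quotient.mk _ ω with ho
    obtain ⟨v, hv⟩ : (E o).Nonempty := Finset.card_pos.mp (by rw [hall]; omega)
    have hv' : v ∈ D o ∧ v ≠ 0 := by simpa [E] using hv
    have himg : E o = (Finset.univ.filter (fun a : F => a ≠ 0)).image (fun a => a • v) :=
      Finset.eq_of_subset_of_card_le (hsub o v hv)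
        (Finset.card_image_le.trans (by rw [hFne, hall]))
    refine ⟨v, hv'.2, fun w => ⟨fun hw => ?_, fun hw => ?_⟩⟩
    · by_contra hne
      obtain ⟨x, hx⟩ := (exists_char F).choose_spec _ hne
      apply hx
      rcases eq_or_ne x 0 with rfl | hx0
      · simp
      have hm : x • v ∈ E o := himg ▸ Finset.mem_image.mpr ⟨x, by simp [hx0], rfl⟩
      have hm' : x • v ∈ dual (st ω) := by rw [hD]; exact (Finset.mem_filter.mp hm).2.1
      have h := hm' w hw
      rw [psiChar_apply, smul_dotProduct, smul_eq_mul, mul_comm] at h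
      exact h
    · apply dual_separates (st ω)
      intro ψ hψ
      rw [hD] at hψ
      obtain ⟨a, rfl⟩ := Submodule.mem_span_singleton.mp (hline o ψ v hψ hv'.1 hv'.2)
      rw [smul_dotProduct, hw, smul_zero, AddChar.map_zero_eq_one]

end CfsgLib.KnownSimple.ModulePerm
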