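import Cfsg.Agent.Classical.SLBasic

/-!
`PSL(2, 11)`: kernel-computable normal forms and its two classes of icosahedral subgroups.

An element is coded by the natural number `1331a + 121b + 11c + d` of the representative
`(a b; c d)` whose first nonzero entry is at most `5`.
-/

set_option autoImplicit false

namespace CfsgLib.KnownSimple.PSLEleven

open Matrix

instance factElevenPrime : Fact (Nat.Prime 11) := ⟨by norm_num⟩

abbrev K11 := ZMod 11

abbrev SL11 := Matrix.SpecialLinearGroup (Fin 2) K11

abbrev P11 := Matrix.ProjectiveSpecialLinearGroup (Fin 2) K11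

def enc (a b c d : ℕ) : ℕ := a * 1331 + b * 121 + c * 11 + d

def d1 (q : ℕ) : ℕ := q / 1331
def d2 (q : ℕ) : ℕ := q / 121 % 11
def d3 (q : ℕ) : ℕ := q / 11 % 11
def d4 (q : ℕ) : ℕ := q % 11

def small (a b c d : ℕ) : Bool :=
  if a != 0 then Nat.ble a 5 else if b != 0 then Nat.ble b 5 else if c != 0 then Nat.ble c 5 else Nat.ble d 5

def normN (a b c d : ℕ) : ℕ :=
  if small a b c d then enc a b c d
  else enc ((11 - a) % 11) ((11 - b) % 11) ((11 - c) % 11) ((11 - d) % 11)

def mul (x y : ℕ) : ℕ :=
  normN ((d1 x * d1 y + d2 x * d3 y) % 11) ((d1 x * d2 y + d2 x * d4 y) % 11)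
    ((d3 x * d1 y + d4 x * d3 y) % 11) ((d3 x * d2 y + d4 x * d4 y) % 11)

def inv (x : ℕ) : ℕ := normN (d4 x) ((11 - d2 x) % 11) ((11 - d3 x) % 11) (d1 x)

def one : ℕ := 1332

def conj (g x : ℕ) : ℕ := mul (mul g x) (inv g)

def detOK (q : ℕ) : Bool := (d1 q * d4 q + 11 * 11 - d2 q * d3 q) % 11 == 1

def a0 : ℕ := 231

def invTable : List ℕ := [0, 1, 6, 4, 3, 9, 2, 8, 7, 5, 10]

/-- Runs `p` over all `660` codes. -/
def forallCode (p : ℕ → Bool) : Bool :=
  ([1, 2, 3, 4, 5].all fun a => (List.range 11).all fun b => (List.range 11).all fun c =>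
    p (enc a b c ((1 + b * c) * invTable.getD a 0 % 11))) &&
  ([1, 2, 3, 4, 5].all fun b => (List.range 11).all fun d =>
    p (enc 0 b (11 - invTable.getD b 0) d))

def tableH : List (ℕ × ℕ) :=
  [(7, 1332), (8, 4266), (9, 2934), (11, 5947), (13, 6245), (14, 298), (16, 4913), (17, 1813), (19, 3232), (21, 2486), (22, 3145), (23, 1990), (27, 3848), (28, 231), (29, 3738), (35, 7179), (38, 1587), (39, 5592), (40, 2261), (42, 7069), (44, 6785), (45, 6675), (47, 6650), (48, 1477), (51, 5847), (53, 2679), (54, 7589), (55, 3562), (58, 6135), (59, 3915), (65, 4133), (66, 580), (69, 5005), (70, 7684), (71, 6295), (73, 3456), (76, 6516), (77, 5737), (79, 5303), (80, 4803), (82, 2156), (84, 5507), (85, 4360), (86, 2397), (89, 5415), (95, 443), (96, 7450), (97, 7772), (101, 5193), (102, 7982), (103, 2789), (105, 2583), (107, 628), (108, 1880), (110, 4565), (111, 7002), (113, 4658), (115, 3324), (116, 4030), (117, 7354)]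

def tableK : List (ℕ × ℕ) :=
  [(7, 1332), (8, 5190), (9, 3858), (11, 6167), (13, 5871), (14, 307), (16, 4539), (17, 2319), (19, 3562), (21, 1628), (22, 3651), (23, 2144), (27, 2946), (28, 231), (29, 3056), (35, 7597), (38, 2533), (39, 6516), (40, 1865), (42, 7707), (44, 7874), (45, 6774), (47, 5462), (48, 2643), (51, 6265), (53, 2778), (54, 7193), (55, 3232), (58, 5981), (59, 2881), (65, 5321), (66, 575), (69, 4433), (70, 7090), (71, 5690), (73, 3324), (76, 5592), (77, 6375), (79, 4137), (80, 4649), (82, 1958), (84, 6607), (85, 4965), (86, 1737), (89, 5360), (95, 448), (96, 7318), (97, 7002), (101, 4247), (102, 6794), (103, 3878), (105, 1549), (107, 637), (108, 2254), (110, 4873), (111, 7772), (113, 4790), (115, 3456), (116, 4085), (117, 7420)]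

def wordTable : List (ℕ × List Bool) :=
  [(7, []), (8, [true,false,true,false,true,false,false,true,false,true]), (9, [false,true,false,true,false,false,true,false]), (11, [false,false,true,false,true,false,false,true,false]), (13, [true,false,true,false,false,true,false,false]), (14, [false]), (16, [false,true,false,true,false,false,true]), (17, [false,false,true,false,true,false,false,true]), (19, [true,false,true,false,false,true]), (21, [false,false]), (22, [true,false,true,false,false,true,false]), (23, [false,true,false,true,false,false,true,false,false]), (27, [false,true,false,true,false,false,true,false,true]), (28, [true]), (29, [true,false,true,false,true,false,false,true,false]), (35, [true,false,true,false,true,false,false,true]), (38, [true,false,false,true,false,true,false,false,true]), (39, [false,true,false,false,true]), (40, [true,false,false,true,false,true,false,false,true,false]), (42, [false,true,false,false,true,false,false]), (44, [true,false]), (45, [true,false,false]), (47, [true,false,true,false,true,false,false,true,false,false]),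 (48, [false,true,false,false,true,false]), (51, [true,false,false,true,false,true,false]), (53, [false,true]), (54, [false,false,true,false,true,false,false,true,false,true]), (55, [false,true,false,false]), (58, [true,false,true,false,true,false,false]), (59, [true,false,false,true,false,true,false,false]), (65, [false,true,false,false,true,false,true,false,false,true,false]), (66, [false,true,false]), (69, [true,false,true,false,true]), (70, [true,false,false,true,false,true]), (71, [true,false,true,false,true,false]), (73, [false,true,false,false,true,false,true,false,false,true]), (76, [true,false,true,false,false]), (77, [false,true,false,true,false,false]), (79, [false,false,true,false,true,false,false]), (80, [false,false,true,false,true,false]), (82, [true,false,true]), (84, [true,false,false,true,false,true,false,false,true,false,true]), (85, [true,false,true,false]), (86, [true,false,true,false,false,true,false,true,false,false,true,false]), (89, [false,true,false,true]), (95, [false,true,false,true,false]), (96, [false,false,true,false,true]),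 (97, [true,false,true,false,false,true,false,true,false,false,true]), (101, [true,false,true,false,false,true,false,true]), (102, [false,true,false,false,true,false,true,false]), (103, [false,false,true]), (105, [false,true,false,false,true,false,true]), (107, [true,false,false,true]), (108, [true,false,true,false,false,true,false,true,false]), (110, [false,false,true,false,false]), (111, [false,true,false,false,true,false,true,false,false]), (113, [true,false,false,true,false]), (115, [true,false,true,false,false,true,false,true,false,false]), (116, [true,false,false,true,false,false]), (117, [false,false,true,false])]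

def involConj : List ℕ :=
  [231, 232, 233, 234, 235, 236, 237, 238, 239, 240, 241, 297, 298, 299, 300, 301, 302, 303, 304, 305, 306, 307, 440, 441, 442, 443, 444, 445, 446, 447, 448, 449, 450, 572, 573, 574, 575, 576, 577, 578, 579, 580, 581, 582, 627, 628, 629, 630, 631, 632, 633, 634, 635, 636, 637]

def moves : List ℕ :=
  [231, 231, 235, 238, 239, 234]

def repsH : List ℕ :=
  [1332, 232, 233, 234, 235, 236, 237, 238, 239, 240, 241]

def r0 : ℕ := 232

def listH : List ℕ := tableH.map Prod.snd

def listK : List ℕ := tableK.map Prod.snd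

theorem invol_table : forallCode (fun q =>
    q == one || mul q q != one || involConj.any (fun g => conj g q == a0)) = true := by decide +kernel

theorem cand_table : forallCode (fun q =>
    mul (mul q q) q != one ||
    mul (mul (mul (mul (mul a0 q) (mul a0 q)) (mul a0 q)) (mul a0 q)) (mul a0 q) != one ||
    moves.any (fun g => (listH.contains (conj g a0) && listH.contains (conj g q)) ||
      (listK.contains (conj g a0) && listK.contains (conj g q)))) = true := by decide +kernel

theorem cover_table : forallCode (fun q =>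
    repsH.any (fun r => listH.contains (mul (inv r) q))) = true := by decide +kernel

theorem not_conj_table : repsH.all (fun r =>
    listH.any (fun h => !(listK.contains (conj r h)))) = true := by decide +kernel

theorem two_trans_table : repsH.all (fun r => listH.contains r ||
    listH.any (fun h => listH.contains (mul (inv r) (mul h r0)))) = true := by decide +kernel

theorem r0_facts : (repsH.contains r0 && !(listH.contains r0)) = true := by decide +kernel

theorem det_table : (involConj ++ moves ++ repsH ++ listH ++ listK).all (fun q =>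
    detOK q && normN (d1 q) (d2 q) (d3 q) (d4 q) == q) = true := by decide +kernel

/-- The coordinatewise cast. -/
def fld (q : ℕ) : K11 × K11 × K11 × K11 := ((d1 q : ℕ), (d2 q : ℕ), (d3 q : ℕ), (d4 q : ℕ))

def ent (A : SL11) : K11 × K11 × K11 × K11 := (A.1 0 0, A.1 0 1, A.1 1 0, A.1 1 1)

theorem digits {a b c d : ℕ} (hb : b < 11) (hc : c < 11) (hd : d < 11) :
    d1 (enc a b c d) = a ∧ d2 (enc a b c d) = b ∧ d3 (enc a b c d) = c ∧ d4 (enc a b c d) = d := by
  unfold d1 d2 d3 d4 enc
  omega

theorem cast_neg_mod {a : ℕ} (ha : a < 11) : (((11 - a) % 11 : ℕ) : K11) = -(a : K11) := by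
  rw [ZMod.natCast_mod, Nat.cast_sub ha.le, ZMod.natCast_self, zero_sub]

theorem fld_normN {a b c d : ℕ} (ha : a < 11) (hb : b < 11) (hc : c < 11) (hd : d < 11) :
    fld (normN a b c d) = ((a : K11), (b : K11), (c : K11), (d : K11)) ∨
    fld (normN a b c d) = -((a : K11), (b : K11), (c : K11), (d : K11)) := by
  unfold normN
  split_ifs
  · left
    obtain ⟨h1, h2, h3, h4⟩ := digits (a := a) hb hc hd
    rw [fld, h1, h2, h3, h4]
  · right
    obtain ⟨h1, h2, h3, h4⟩ := digits (a := (11 - a) % 11) (Nat.mod_lt (11 - b) (by norm_num))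
      (Nat.mod_lt (11 - c) (by norm_num)) (Nat.mod_lt (11 - d) (by norm_num : (11 : ℕ) > 0))
    rw [fld, h1, h2, h3, h4, cast_neg_mod ha, cast_neg_mod hb, cast_neg_mod hc, cast_neg_mod hd]
    rfl

theorem neg_mod_le {a : ℕ} (ha : a < 11) (h0 : a ≠ 0) :
    Nat.ble ((11 - a) % 11) 5 = !Nat.ble a 5 ∧ (11 - a) % 11 ≠ 0 := by
  interval_cases a <;> first | exact absurd rfl h0 | decide

theorem small_neg {a b c d : ℕ} (ha : a < 11) (hb : b < 11) (hc : c < 11) (hd : d < 11)
    (h : ¬ (a = 0 ∧ b = 0 ∧ c = 0 ∧ d = 0)) :
    small ((11 - a) % 11) ((11 - b) % 11) ((11 - c) % 11) ((11 - d) % 11) = !small a b c d := by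
  unfold small
  by_cases h1 : a = 0
  · subst h1
    by_cases h2 : b = 0
    · subst h2
      by_cases h3 : c = 0
      · subst h3
        have h4 : d ≠ 0 := fun h4 => h ⟨rfl, rfl, rfl, h4⟩
        simp [(neg_mod_le hd h4).1]
      · obtain ⟨e1, e2⟩ := neg_mod_le hc h3
        simp [h3, e1, e2]
    · obtain ⟨e1, e2⟩ := neg_mod_le hb h2
      simp [h2, e1, e2]
  · obtain ⟨e1, e2⟩ := neg_mod_le ha h1
    simp [h1, e1, e2]

theorem neg_neg_mod {a : ℕ} (ha : a < 11) : (11 - (11 - a) % 11) % 11 = a := by omega

theorem normN_neg {a b c d : ℕ} (ha : a < 11) (hb : b < 11) (hc : c < 11) (hd : d < 11) :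
    normN ((11 - a) % 11) ((11 - b) % 11) ((11 - c) % 11) ((11 - d) % 11) = normN a b c d := by
  by_cases h : a = 0 ∧ b = 0 ∧ c = 0 ∧ d = 0
  · obtain ⟨rfl, rfl, rfl, rfl⟩ := h; rfl
  unfold normN
  rw [small_neg ha hb hc hd h, neg_neg_mod ha, neg_neg_mod hb, neg_neg_mod hc, neg_neg_mod hd]
  cases small a b c d <;> simp

/-- The normal form of a quadruple. -/
def nf (q : K11 × K11 × K11 × K11) : ℕ := normN q.1.val q.2.1.val q.2.2.1.val q.2.2.2.val

theorem val_lt' (x : K11) : x.val < 11 := ZMod.val_lt x

theorem nf_neg (q : K11 × K11 × K11 × K11) : nf (-q) = nf q := by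
  unfold nf
  simp only [Prod.fst_neg, Prod.snd_neg, ZMod.neg_val']
  exact normN_neg (val_lt' _) (val_lt' _) (val_lt' _) (val_lt' _)

theorem fld_nf (q : K11 × K11 × K11 × K11) : fld (nf q) = q ∨ fld (nf q) = -q := by
  have := fld_normN (val_lt' q.1) (val_lt' q.2.1) (val_lt' q.2.2.1) (val_lt' q.2.2.2)
  simpa [nf] using this

theorem nf_fld_nf (q : K11 × K11 × K11 × K11) : nf (fld (nf q)) = nf q := by
  rcases fld_nf q with h | h <;> rw [h]
  exact nf_neg q

/-- Product of quadruples. -/
def pmul (x y : K11 × K11 × K11 × K11) : K11 × K11 × K11 × K11 :=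
  (x.1 * y.1 + x.2.1 * y.2.2.1, x.1 * y.2.1 + x.2.1 * y.2.2.2,
    x.2.2.1 * y.1 + x.2.2.2 * y.2.2.1, x.2.2.1 * y.2.1 + x.2.2.2 * y.2.2.2)

theorem mul_eq (x y : ℕ) : mul x y = nf (pmul (fld x) (fld y)) := by
  unfold mul nf pmul fld
  simp only [← Nat.cast_mul, ← Nat.cast_add, ZMod.val_natCast]

theorem inv_eq {x : ℕ} (hx : x < 14641) :
    inv x = nf ((fld x).2.2.2, -(fld x).2.1, -(fld x).2.2.1, (fld x).1) := by
  have h1 : d1 x < 11 := by unfold d1; omega
  have h2 : d2 x < 11 := by unfold d2; omega
  have h3 : d3 x < 11 := by unfold d3; omega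
  have h4 : d4 x < 11 := by unfold d4; omega
  unfold inv nf fld
  simp only [ZMod.neg_val', ZMod.val_natCast, Nat.mod_eq_of_lt h1, Nat.mod_eq_of_lt h2,
    Nat.mod_eq_of_lt h3, Nat.mod_eq_of_lt h4]

theorem normN_lt {a b c d : ℕ} (ha : a < 11) (hb : b < 11) (hc : c < 11) (hd : d < 11) :
    normN a b c d < 14641 := by
  unfold normN enc
  split_ifs <;> omega

theorem pmul_neg_left (x y : K11 × K11 × K11 × K11) : pmul (-x) y = -pmul x y := by
  simp only [pmul, Prod.fst_neg, Prod.snd_neg, Prod.neg_mk, neg_add, neg_mul]

theorem pmul_neg_right (x y : K11 × K11 × K11 × K11) : pmul x (-y) = -pmul x y := by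
  simp only [pmul, Prod.fst_neg, Prod.snd_neg, Prod.neg_mk, neg_add, mul_neg]

theorem mul_nf (x y : K11 × K11 × K11 × K11) : mul (nf x) (nf y) = nf (pmul x y) := by
  rw [mul_eq]
  rcases fld_nf x with h | h <;> rcases fld_nf y with h' | h' <;> rw [h, h'] <;>
    simp only [pmul_neg_left, pmul_neg_right, nf_neg]

theorem ent_mul (A B : SL11) : ent (A * B) = pmul (ent A) (ent B) := by
  simp [ent, pmul, Matrix.mul_apply, Fin.sum_univ_two]

theorem center_ent (z : SL11) (hz : z ∈ Subgroup.center SL11) :
    ent z = (1, 0, 0, 1) ∨ ent z = -(1, 0, 0, 1) := by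
  obtain ⟨r, hr, hrz⟩ := Matrix.SpecialLinearGroup.mem_center_iff.1 hz
  rw [Fintype.card_fin] at hr
  have : r = 1 ∨ r = -1 := mul_self_eq_one_iff.1 (by rwa [← pow_two])
  unfold ent
  rw [← hrz]
  rcases this with rfl | rfl
  · exact Or.inl (by decide)
  · exact Or.inr (by decide)

/-- The normal form of an element. -/
def code : P11 → ℕ :=
  Quotient.lift (fun A => nf (ent A)) (by
    intro A B h
    have hz : A⁻¹ * B ∈ Subgroup.center SL11 := QuotientGroup.leftRel_apply.1 h
    have hB : ent B = pmul (ent A) (ent (A⁻¹ * B)) := by rw [← ent_mul, mul_inv_cancel_left]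
    have h1 : pmul (ent A) (1, 0, 0, 1) = ent A := by simp [pmul]
    show nf (ent A) = nf (ent B)
    rw [hB]
    rcases center_ent _ hz with h' | h' <;> rw [h']
    · rw [h1]
    · rw [pmul_neg_right, nf_neg, h1])

theorem code_mk (A : SL11) : code (QuotientGroup.mk A) = nf (ent A) := rfl

theorem code_mul (x y : P11) : code (x * y) = mul (code x) (code y) := by
  obtain ⟨A, rfl⟩ := QuotientGroup.mk_surjective x
  obtain ⟨B, rfl⟩ := QuotientGroup.mk_surjective y
  rw [← QuotientGroup.mk_mul, code_mk, code_mk, code_mk, mul_nf, ent_mul]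

theorem code_one : code 1 = one := by
  rw [← QuotientGroup.mk_one, code_mk]; decide

theorem code_inv (x : P11) : code x⁻¹ = inv (code x) := by
  obtain ⟨A, rfl⟩ := QuotientGroup.mk_surjective x
  rw [← QuotientGroup.mk_inv, code_mk, code_mk,
    inv_eq (x := nf (ent A)) (normN_lt (val_lt' _) (val_lt' _) (val_lt' _) (val_lt' _))]
  have : ent A⁻¹ = ((ent A).2.2.2, -(ent A).2.1, -(ent A).2.2.1, (ent A).1) := by
    simp [ent, Matrix.SpecialLinearGroup.coe_inv, Matrix.adjugate_fin_two]
  rw [this]
  rcases fld_nf (ent A) with h | h <;> rw [h]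
  rw [← nf_neg]
  simp

theorem code_conj (g x : P11) : code (g * x * g⁻¹) = conj (code g) (code x) := by
  rw [code_mul, code_mul, code_inv]; rfl

theorem code_injective : Function.Injective code := by
  intro x y h
  obtain ⟨A, rfl⟩ := QuotientGroup.mk_surjective x
  obtain ⟨B, rfl⟩ := QuotientGroup.mk_surjective y
  rw [code_mk, code_mk] at h
  have hq : ent B = ent A ∨ ent B = -ent A := by
    rcases fld_nf (ent A) with h1 | h1 <;> rcases fld_nf (ent B) with h2 | h2 <;> rw [h, h2] at h1
    · exact Or.inl h1
    · exact Or.inr (neg_eq_iff_eq_neg.1 h1)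
    · exact Or.inr h1
    · exact Or.inl (neg_inj.1 h1)
  rw [QuotientGroup.eq, Matrix.SpecialLinearGroup.mem_center_iff]
  rcases hq with hq | hq
  · have : B = A := Subtype.ext (by
      simp only [ent, Prod.ext_iff] at hq
      obtain ⟨h1, h2, h3, h4⟩ := hq
      ext i j; fin_cases i <;> fin_cases j <;> assumption)
    exact ⟨1, one_pow _, by simp [this]⟩
  · have hB : B.1 = -A.1 := by
      simp only [ent, Prod.ext_iff, Prod.fst_neg, Prod.snd_neg] at hq
      obtain ⟨h1, h2, h3, h4⟩ := hq
      ext i j; fin_cases i <;> fin_cases j <;> assumption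
    refine ⟨-1, by simp, ?_⟩
    rw [Matrix.SpecialLinearGroup.coe_mul, hB, mul_neg, Matrix.SpecialLinearGroup.coe_inv,
      Matrix.adjugate_mul, A.2]
    ext i j
    fin_cases i <;> fin_cases j <;> simp

theorem invTable_spec : ∀ a : Fin 11, a.val ≠ 0 → a.val * invTable.getD a.val 0 % 11 = 1 := by
  decide +kernel

theorem forallCode_spec {p : ℕ → Bool} (h : forallCode p = true) (x : P11) : p (code x) = true := by
  obtain ⟨A, rfl⟩ := QuotientGroup.mk_surjective x
  rw [code_mk]
  simp only [forallCode, Bool.and_eq_true, List.all_eq_true] at h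
  obtain ⟨h1, h2⟩ := h
  have gen : ∀ a b c d : ℕ, a < 11 → b < 11 → c < 11 → d < 11 →
      ((a : K11) * d - b * c = 1) → small a b c d = true → p (enc a b c d) = true := by
    intro a b c d ha hb hc hd hdet hs
    by_cases ha0 : a = 0
    · subst ha0
      have hb0 : b ≠ 0 := by rintro rfl; simp at hdet
      have hb5 : b ≤ 5 := by simpa [small, hb0] using hs
      have hce : c = 11 - invTable.getD b 0 := by
        have key : ∀ b c : Fin 11, b.val ≠ 0 → b.val ≤ 5 → (b.val * c.val) % 11 = 10 →
            c.val = 11 - invTable.getD b.val 0 := by decide +kernel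
        apply key ⟨b, hb⟩ ⟨c, hc⟩ hb0 hb5
        have : ((b * c : ℕ) : K11) = ((10 : ℕ) : K11) := by
          push_cast
          have h10 : (10 : K11) = -1 := by decide
          rw [h10]
          push_cast at hdet
          linear_combination -hdet
        have hv := congrArg ZMod.val this
        rwa [ZMod.val_natCast, ZMod.val_natCast] at hv
      rw [hce]
      exact h2 b (by simp; omega) d (by simpa using hd)
    · have ha5 : a ≤ 5 := by simpa [small, ha0] using hs
      have hde : d = (1 + b * c) * invTable.getD a 0 % 11 := by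
        have hinv := invTable_spec ⟨a, ha⟩ ha0
        simp only at hinv
        have hi : ((a * invTable.getD a 0 : ℕ) : K11) = 1 := by
          rw [← ZMod.natCast_mod, hinv, Nat.cast_one]
        push_cast at hi
        have : ((d : ℕ) : K11) = (((1 + b * c) * invTable.getD a 0 : ℕ) : K11) := by
          push_cast
          linear_combination (invTable.getD a 0 : K11) * hdet - (d : K11) * hi
        have hv := congrArg ZMod.val this
        rwa [ZMod.val_natCast, ZMod.val_natCast, Nat.mod_eq_of_lt hd] at hv
      rw [hde]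
      exact h1 a (by simp; omega) b (by simpa using hb) c (by simpa using hc)
  have hd := A.2
  rw [Matrix.det_fin_two] at hd
  have la := val_lt' (A.1 0 0)
  have lb := val_lt' (A.1 0 1)
  have lc := val_lt' (A.1 1 0)
  have ld := val_lt' (A.1 1 1)
  unfold nf ent normN
  simp only
  by_cases hs : small (A.1 0 0).val (A.1 0 1).val (A.1 1 0).val (A.1 1 1).val = true
  · rw [if_pos hs]
    exact gen _ _ _ _ la lb lc ld (by simp only [ZMod.natCast_val, ZMod.cast_id', id_eq]; exact hd) hs
  · rw [if_neg hs]
    refine gen _ _ _ _ (Nat.mod_lt _ (by norm_num)) (Nat.mod_lt _ (by norm_num))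
      (Nat.mod_lt _ (by norm_num)) (Nat.mod_lt _ (by norm_num)) ?_ ?_
    · rw [cast_neg_mod la, cast_neg_mod lb, cast_neg_mod lc, cast_neg_mod ld]
      simp only [ZMod.natCast_val, ZMod.cast_id', id_eq, neg_mul_neg]
      exact hd
    · rw [small_neg la lb lc ld, Bool.eq_false_iff.2 hs]
      · rfl
      · rintro ⟨e1, e2, e3, e4⟩
        rw [ZMod.val_eq_zero] at e1 e2 e3 e4
        rw [e1, e2] at hd
        simp at hd

/-- The element with a given code. -/
def ofCode (q : ℕ) : P11 :=
  if h : ((d1 q : ℕ) : K11) * (d4 q : ℕ) - (d2 q : ℕ) * (d3 q : ℕ) = 1 then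
    QuotientGroup.mk (⟨!![(d1 q : K11), (d2 q : K11); (d3 q : K11), (d4 q : K11)],
      by rw [Matrix.det_fin_two_of]; exact h⟩ : SL11)
  else 1

theorem code_ofCode {q : ℕ} (h : q ∈ involConj ++ moves ++ repsH ++ listH ++ listK) :
    code (ofCode q) = q := by
  have ht := List.all_eq_true.1 det_table q h
  simp only [Bool.and_eq_true, beq_iff_eq, detOK] at ht
  obtain ⟨hd, hn⟩ := ht
  have hl : d2 q * d3 q ≤ 11 * 11 := by unfold d2 d3; exact Nat.mul_le_mul (by omega) (by omega)
  have hdet : ((d1 q : ℕ) : K11) * (d4 q : ℕ) - (d2 q : ℕ) * (d3 q : ℕ) = 1 := by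
    have := congrArg (fun n : ℕ => (n : K11)) hd
    simp only [ZMod.natCast_mod, Nat.cast_one] at this
    rw [Nat.cast_sub (by omega)] at this
    push_cast at this
    have h11 : (11 : K11) = 0 := by decide
    linear_combination this - 11 * h11
  have h0 : q < 14641 := by
    rw [← hn]
    by_cases hlt : d1 q < 11
    · exact normN_lt hlt (by unfold d2; omega) (by unfold d3; omega) (by unfold d4; omega)
    · exfalso
      unfold normN small at hn
      simp only [show (d1 q != 0) = true by simp; omega, if_true] at hn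
      rw [if_neg (by simp; omega)] at hn
      unfold enc at hn
      unfold d1 at hlt
      omega
  have h1 : d1 q < 11 := by unfold d1; omega
  rw [ofCode, dif_pos hdet]
  show nf (ent _) = q
  unfold nf ent
  simp only [Matrix.of_apply, Matrix.cons_val', Matrix.cons_val_zero, Matrix.cons_val_one,
    Matrix.cons_val_fin_one, ZMod.val_natCast, Nat.mod_eq_of_lt h1]
  rw [Nat.mod_eq_of_lt (by unfold d2; omega), Nat.mod_eq_of_lt (by unfold d3; omega),
    Nat.mod_eq_of_lt (by unfold d4; omega)]
  exact hn

/-- The key of an even permutation of five points. -/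
def permKey (π : alternatingGroup (Fin 5)) : ℕ := (π.1 0).val * 25 + (π.1 1).val * 5 + (π.1 2).val

def look (T : List (ℕ × ℕ)) (π : alternatingGroup (Fin 5)) : ℕ := (T.lookup (permKey π)).getD one

/-- `(0 1)(2 3)`. -/
def genA : alternatingGroup (Fin 5) :=
  ⟨Equiv.swap 0 1 * Equiv.swap 2 3, by rw [Equiv.Perm.mem_alternatingGroup]; decide⟩

/-- `(1 2 4)`. -/
def genB : alternatingGroup (Fin 5) :=
  ⟨Equiv.swap 1 2 * Equiv.swap 2 4, by rw [Equiv.Perm.mem_alternatingGroup]; decide⟩

def wordOf (π : alternatingGroup (Fin 5)) : List Bool := (wordTable.lookup (permKey π)).getD []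

def genOf (b : Bool) : alternatingGroup (Fin 5) := if b then genA else genB

theorem word_table : ∀ π, ((wordOf π).map genOf).prod = π := by decide +kernel

theorem gen_facts : genA ≠ 1 ∧ genA * genA = 1 ∧ genB ^ 3 = 1 ∧ (genA * genB) ^ 5 = 1 := by
  decide +kernel

/-- A table describes a monomorphism. -/
def TableOK (T : List (ℕ × ℕ)) : Prop :=
  look T 1 = one ∧
    (∀ π, (T.map Prod.snd).contains (look T π) = true ∧ (look T π = one → π = 1) ∧
      look T (π * genA) = mul (look T π) (look T genA) ∧
      look T (π * genB) = mul (look T π) (look T genB))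

theorem tableH_ok : TableOK tableH := by unfold TableOK; decide +kernel

theorem tableK_ok : TableOK tableK := by unfold TableOK; decide +kernel

theorem tableH_range : ∀ e ∈ tableH, ∃ π, look tableH π = e.2 := by decide +kernel

theorem tableK_range : ∀ e ∈ tableK, ∃ π, look tableK π = e.2 := by decide +kernel

section hom

variable {T : List (ℕ × ℕ)} (hT : TableOK T)
  (hsub : T.map Prod.snd ⊆ involConj ++ moves ++ repsH ++ listH ++ listK)

include hT hsub in
theorem look_mul (π ρ : alternatingGroup (Fin 5)) :
    ofCode (look T (π * ρ)) = ofCode (look T π) * ofCode (look T ρ) := by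
  have hc : ∀ π, code (ofCode (look T π)) = look T π := fun π =>
    code_ofCode (hsub (List.elem_iff.1 (hT.2 π).1))
  have key : ∀ (w : List Bool) π, ofCode (look T (π * (w.map genOf).prod)) =
      ofCode (look T π) * (w.map fun b => ofCode (look T (genOf b))).prod := by
    intro w
    induction w with
    | nil => intro π; simp
    | cons b w ih =>
      intro π
      rw [List.map_cons, List.prod_cons, List.map_cons, List.prod_cons, ← mul_assoc π, ih, ← mul_assoc]
      congr 1
      apply code_injective
      rw [code_mul, hc, hc, hc]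
      cases b
      · exact (hT.2 π).2.2.2
      · exact (hT.2 π).2.2.1
  have h1 : ofCode (look T 1) = 1 := code_injective (by rw [hc, code_one]; exact hT.1)
  have hw : ∀ ρ, ofCode (look T ρ) = ((wordOf ρ).map fun b => ofCode (look T (genOf b))).prod := by
    intro ρ
    conv_lhs => rw [← word_table ρ, ← one_mul ((List.map genOf (wordOf ρ)).prod)]
    rw [key, h1, one_mul]
  conv_lhs => rw [← word_table ρ]
  rw [key, ← hw]

/-- The embedding given by a table. -/
noncomputable def tableHom : alternatingGroup (Fin 5) →* P11 :=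
  MonoidHom.mk' (fun π => ofCode (look T π)) (look_mul hT hsub)

theorem code_tableHom (π : alternatingGroup (Fin 5)) : code (tableHom hT hsub π) = look T π :=
  code_ofCode (hsub (List.elem_iff.1 (hT.2 π).1))

theorem tableHom_injective : Function.Injective (tableHom hT hsub) := by
  rw [injective_iff_map_eq_one]
  intro π h
  have h2 := code_tableHom hT hsub π
  rw [h, code_one] at h2
  exact (hT.2 π).2.1 h2.symm

theorem mem_range_iff (hR : ∀ e ∈ T, ∃ π, look T π = e.2) (x : P11) :
    x ∈ (tableHom hT hsub).range ↔ (T.map Prod.snd).contains (code x) = true := by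
  constructor
  · rintro ⟨π, rfl⟩
    rw [code_tableHom]
    exact (hT.2 π).1
  · intro h
    obtain ⟨e, he, hex⟩ := List.mem_map.1 (List.elem_iff.1 h)
    obtain ⟨π, hπ⟩ := hR e he
    exact ⟨π, code_injective (by rw [code_tableHom, hπ, hex])⟩

end hom

theorem subH : tableH.map Prod.snd ⊆ involConj ++ moves ++ repsH ++ listH ++ listK :=
  fun q h => List.mem_append_left _ (List.mem_append_right _ h)

theorem subK : tableK.map Prod.snd ⊆ involConj ++ moves ++ repsH ++ listH ++ listK :=
  fun q h => List.mem_append_right _ h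

/-- First icosahedral subgroup. -/
noncomputable def H : Subgroup P11 := (tableHom tableH_ok subH).range

/-- Second icosahedral subgroup. -/
noncomputable def K : Subgroup P11 := (tableHom tableK_ok subK).range

theorem mem_H (x : P11) : x ∈ H ↔ listH.contains (code x) = true :=
  mem_range_iff tableH_ok subH tableH_range x

theorem mem_K (x : P11) : x ∈ K ↔ listK.contains (code x) = true :=
  mem_range_iff tableK_ok subK tableK_range x

noncomputable def H_equiv : H ≃* alternatingGroup (Fin 5) :=
  (MonoidHom.ofInjective (tableHom_injective tableH_ok subH)).symm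

noncomputable def K_equiv : K ≃* alternatingGroup (Fin 5) :=
  (MonoidHom.ofInjective (tableHom_injective tableK_ok subK)).symm

theorem card_A5 : Nat.card (alternatingGroup (Fin 5)) = 60 := by
  rw [nat_card_alternatingGroup]; simp [Nat.factorial]

theorem subgroup_conj_to_H_or_K (L : Subgroup P11) (e : L ≃* alternatingGroup (Fin 5)) :
    ∃ g : P11, L.map (MulAut.conj g).toMonoidHom = H ∨ L.map (MulAut.conj g).toMonoidHom = K := by
  obtain ⟨hA1, hA2, hB3, hAB⟩ := gen_facts
  let f : alternatingGroup (Fin 5) →* P11 := L.subtype.comp e.symm.toMonoidHom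
  have hf : Function.Injective f := L.subtype_injective.comp e.symm.injective
  have h0 := forallCode_spec invol_table (f genA)
  simp only [Bool.or_eq_true, beq_iff_eq, bne_iff_ne, List.any_eq_true] at h0
  obtain ⟨q₁, hq₁, hc₁⟩ : ∃ g ∈ involConj, conj g (code (f genA)) = a0 := by
    rcases h0 with (h | h) | h
    · exact absurd ((injective_iff_map_eq_one f).1 hf _ (code_injective (h.trans code_one.symm))) hA1
    · exact absurd (by rw [← code_mul, ← map_mul, hA2, map_one, code_one]) h
    · exact h
  obtain ⟨g₁, rfl⟩ : ∃ g, code g = q₁ := ⟨_, code_ofCode (by simp [hq₁])⟩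
  let f₁ := (MulAut.conj g₁).toMonoidHom.comp f
  have hf₁a : code (f₁ genA) = a0 := (code_conj g₁ _).trans hc₁
  have h1 := forallCode_spec cand_table (f₁ genB)
  simp only [Bool.or_eq_true, Bool.and_eq_true, bne_iff_ne, List.any_eq_true] at h1
  obtain ⟨q₂, hq₂, hc₂⟩ : ∃ g ∈ moves, (listH.contains (conj g a0) = true ∧
      listH.contains (conj g (code (f₁ genB))) = true) ∨ (listK.contains (conj g a0) = true ∧
      listK.contains (conj g (code (f₁ genB))) = true) := by
    rcases h1 with (h | h) | h
    · refine absurd ?_ h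
      rw [← code_mul, ← code_mul, ← map_mul, ← map_mul, ← code_one, ← map_one f₁, ← hB3]
      simp only [pow_succ, pow_zero, one_mul, mul_assoc]
    · refine absurd ?_ h
      rw [← hf₁a]
      simp only [← code_mul, ← map_mul]
      rw [← code_one, ← map_one f₁, ← hAB]
      simp only [pow_succ, pow_zero, one_mul, mul_assoc]
    · exact h
  obtain ⟨g₂, rfl⟩ : ∃ g, code g = q₂ := ⟨_, code_ofCode (by simp [hq₂])⟩
  refine ⟨g₂ * g₁, ?_⟩
  let f₂ := (MulAut.conj g₂).toMonoidHom.comp f₁
  have hf₂ : Function.Injective f₂ :=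
    (MulAut.conj g₂).injective.comp ((MulAut.conj g₁).injective.comp hf)
  have hrange : L.map (MulAut.conj (g₂ * g₁)).toMonoidHom = f₂.range := by
    have hfr : f.range = L := by
      show (L.subtype.comp e.symm.toMonoidHom).range = L
      rw [MonoidHom.range_comp, MonoidHom.range_eq_top.2 e.symm.surjective, ← MonoidHom.range_eq_map,
        Subgroup.range_subtype]
    conv_lhs => rw [← hfr, MonoidHom.map_range]
    congr 1
    refine MonoidHom.ext fun π => ?_
    simp [f₂, f₁, mul_assoc]
  rw [hrange]
  have key : ∀ (M : Subgroup P11), Nat.card M = 60 → f₂ genA ∈ M → f₂ genB ∈ M → f₂.range = M := by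
    intro M hM hA hB
    haveI : Finite M := Nat.finite_of_card_ne_zero (by omega)
    refine Subgroup.eq_of_le_of_card_ge ?_ ?_
    · rintro _ ⟨π, rfl⟩
      rw [← word_table π, map_list_prod]
      refine Subgroup.list_prod_mem M fun x hx => ?_
      rw [List.map_map, List.mem_map] at hx
      obtain ⟨b, -, rfl⟩ := hx
      cases b <;> simp [genOf, hA, hB]
    · rw [hM, ← Nat.card_congr (MonoidHom.ofInjective hf₂).toEquiv, card_A5]
  have e2a : code (f₂ genA) = conj (code g₂) a0 := (code_conj g₂ _).trans (by rw [hf₁a])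
  have e2b : code (f₂ genB) = conj (code g₂) (code (f₁ genB)) := code_conj g₂ _
  rcases hc₂ with ⟨h1, h2⟩ | ⟨h1, h2⟩
  · left
    exact key H ((Nat.card_congr H_equiv.toEquiv).trans card_A5) ((mem_H _).2 (e2a ▸ h1))
      ((mem_H _).2 (e2b ▸ h2))
  · right
    exact key K ((Nat.card_congr K_equiv.toEquiv).trans card_A5) ((mem_K _).2 (e2a ▸ h1))
      ((mem_K _).2 (e2b ▸ h2))

theorem exists_rep (x : P11) : ∃ r : P11, code r ∈ repsH ∧ r⁻¹ * x ∈ H := by
  have h := forallCode_spec cover_table x
  simp only [List.any_eq_true] at h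
  obtain ⟨q, hq, hqx⟩ := h
  obtain ⟨r, rfl⟩ : ∃ g, code g = q := ⟨_, code_ofCode (by simp [hq])⟩
  exact ⟨r, hq, (mem_H _).2 (by rw [code_mul, code_inv]; exact hqx)⟩

theorem not_conj (g : P11) : H.map (MulAut.conj g).toMonoidHom ≠ K := by
  intro heq
  obtain ⟨r, hr, hh⟩ := exists_rep g
  have ht := List.all_eq_true.1 not_conj_table _ hr
  simp only [List.any_eq_true, Bool.not_eq_true'] at ht
  obtain ⟨q, hq, hn⟩ := ht
  obtain ⟨k, rfl⟩ : ∃ k, code k = q := ⟨_, code_ofCode (by simp [hq])⟩
  have hkH : k ∈ H := (mem_H k).2 (List.elem_iff.2 hq)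
  have hk' : (r⁻¹ * g)⁻¹ * k * (r⁻¹ * g) ∈ H := H.mul_mem (H.mul_mem (H.inv_mem hh) hkH) hh
  have hmem : g * ((r⁻¹ * g)⁻¹ * k * (r⁻¹ * g)) * g⁻¹ ∈ K := heq ▸ ⟨_, hk', rfl⟩
  have h1 : r * k * r⁻¹ ∈ K := by convert hmem using 1; group
  have h2 := (mem_K _).1 h1
  rw [code_conj, hn] at h2
  exact Bool.false_ne_true h2

theorem double_coset (g : P11) (hg : g ∉ H) : ∃ h ∈ H, g⁻¹ * (h * ofCode r0) ∈ H := by
  obtain ⟨r, hr, hrg⟩ := exists_rep g
  have ht := List.all_eq_true.1 two_trans_table _ hr
  simp only [Bool.or_eq_true, List.any_eq_true] at ht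
  rcases ht with h | ⟨q, hq, hq'⟩
  · exact absurd (by simpa using H.mul_mem ((mem_H r).2 h) hrg) hg
  · obtain ⟨k, rfl⟩ : ∃ k, code k = q := ⟨_, code_ofCode (by simp [hq])⟩
    refine ⟨k, (mem_H k).2 (List.elem_iff.2 hq), ?_⟩
    have h0 : r0 ∈ repsH := by
      have := r0_facts; simp only [Bool.and_eq_true] at this; exact List.elem_iff.1 this.1
    have : r⁻¹ * (k * ofCode r0) ∈ H :=
      (mem_H _).2 (by rw [code_mul, code_inv, code_mul, code_ofCode (by simp [h0])]; exact hq')
    have h2 := H.mul_mem (H.inv_mem hrg) this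
    convert h2 using 1
    group

theorem ofCode_r0_notMem : ofCode r0 ∉ H := by
  have h := r0_facts
  simp only [Bool.and_eq_true, Bool.not_eq_true'] at h
  rw [mem_H, code_ofCode (by simp [List.elem_iff.1 h.1]), h.2]
  simp


theorem map_center' {G G' : Type*} [Group G] [Group G'] (e : G ≃* G') :
    (Subgroup.center G).map e.toMonoidHom = Subgroup.center G' := by
  ext x
  rw [Subgroup.mem_map_equiv, Subgroup.mem_center_iff, Subgroup.mem_center_iff]
  constructor
  · intro h y
    apply e.symm.injective
    rw [map_mul, map_mul]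
    exact h (e.symm y)
  · intro h y
    simpa using congrArg e.symm (h (e y))

/-- `SL` over isomorphic fields. -/
def slMapEquiv {F : Type*} [CommRing F] (e : F ≃+* K11) :
    Matrix.SpecialLinearGroup (Fin 2) F ≃* SL11 :=
  MonoidHom.toMulEquiv (Matrix.SpecialLinearGroup.map e.toRingHom)
    (Matrix.SpecialLinearGroup.map e.symm.toRingHom)
    (MonoidHom.ext fun A => Subtype.ext (Matrix.ext fun i j => e.symm_apply_apply _))
    (MonoidHom.ext fun A => Subtype.ext (Matrix.ext fun i j => e.apply_symm_apply _))

/-- Every model of `PSL(2, 11)` is isomorphic to `P11`. -/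
noncomputable def modelEquiv {F : Type*} [Field F] [Fintype F] (hF : Fintype.card F = 11) :
    Matrix.ProjectiveSpecialLinearGroup (Fin 2) F ≃* P11 :=
  QuotientGroup.congr _ _ (slMapEquiv (ZMod.ringEquivOfPrime F (by norm_num) hF).symm) (map_center' _)

theorem isSimple_P11 : IsSimpleGroup P11 :=
  Matrix.ProjectiveSpecialLinearGroup.rank_two_simple (by simp)

theorem card_P11 : Nat.card P11 = 660 := by
  have h := Cfsg.Agent.Classical.card_psl_mul (F := K11) 2 (by norm_num)
  rw [ZMod.card] at h
  have hp : (∏ i : Fin 2, (11 ^ 2 - 11 ^ (i : ℕ))) = 13200 := by decide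
  rw [hp, show Nat.gcd 2 (11 - 1) = 2 by decide, ← mul_assoc, show 2 * (11 - 1) = 20 by norm_num] at h
  exact Nat.eq_of_mul_eq_mul_left (show 0 < 20 by norm_num) (h.trans (show 13200 = 20 * 660 by norm_num))

theorem index_of_card_sixty {M : Subgroup P11} (h : Nat.card M = 60) : M.index = 11 := by
  have := M.card_mul_index
  rw [h, card_P11] at this
  omega

theorem normalizer_eq {M : Subgroup P11} (h : Nat.card M = 60) :
    Subgroup.normalizer (M : Set P11) = M := by
  have hi := index_of_card_sixty h
  have hle : M ≤ Subgroup.normalizer (M : Set P11) := Subgroup.le_normalizer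
  have hmul := Subgroup.relIndex_mul_index hle
  rw [hi] at hmul
  rcases (Nat.Prime.eq_one_or_self_of_dvd (by norm_num : Nat.Prime 11) _ (Dvd.intro_left _ hmul)) with h1 | h11
  · exfalso
    rw [Subgroup.index_eq_one] at h1
    haveI : M.Normal := Subgroup.normalizer_eq_top_iff.1 h1
    rcases isSimple_P11.eq_bot_or_eq_top_of_normal M this with h2 | h2 <;> rw [h2] at h hi
    · simp at h
    · simp at hi
  · rw [h11] at hmul
    have : M.relIndex (Subgroup.normalizer (M : Set P11)) = 1 := by omega
    exact le_antisymm (Subgroup.relIndex_eq_one.1 this) hle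

end CfsgLib.KnownSimple.PSLEleven
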