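import Cfsg.Agent.Lib.KnownSimple.ModulePermOrbits
import Cfsg.Agent.Classical.SLGen

set_option autoImplicit false

/-!
Every proper subgroup of `SL_n(q)`, `n ≥ 3`, `(n, q) ≠ (4, 2)`, has index at least
`(q^n - 1)/(q - 1)`.

Proof: let `H` have smaller index and apply the orbit-shape lemma to the transvection group of
each hyperplane. Both shapes force `H` to contain no transvection, so the transvection groups act
regularly, and the complement that `H` cuts out in a parabolic subgroup yields a transvection.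
-/

namespace CfsgLib.KnownSimple.SLMinIndex

open Matrix CfsgLib.KnownSimple.ModulePerm

variable {F : Type*} [Field F] {ι : Type*} [Fintype ι] [DecidableEq ι]

theorem vecMulVec_single_single (i j : ι) (c : F) :
    vecMulVec (Pi.single i c) (Pi.single j 1) = Matrix.single i j c := by
  ext k l
  rw [vecMulVec_apply]
  by_cases hk : k = i
  · subst hk
    by_cases hl : l = j
    · subst hl; simp
    · rw [Pi.single_eq_of_ne hl, mul_zero, Matrix.single_apply_of_ne]
      simp [Ne.symm hl]
  · rw [Pi.single_eq_of_ne hk, zero_mul, Matrix.single_apply_of_ne]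
    simp [Ne.symm hk]

theorem range_pair {α : Type*} (a b : α) : Set.range ![a, b] = ({a, b} : Set α) := by
  ext x; simp [Fin.exists_fin_two, eq_comm, or_comm]

theorem coe_tv (u f : ι → F) (h : f ⬝ᵥ u = 0) :
    (tv u f h : Matrix ι ι F) = 1 + vecMulVec u f := rfl

theorem tv_mul_tv {u v f : ι → F} (hu : f ⬝ᵥ u = 0) (hv : f ⬝ᵥ v = 0) :
    tv u f hu * tv v f hv = tv (u + v) f (by rw [dotProduct_add, hu, hv, add_zero]) := by
  apply Subtype.ext
  rw [Matrix.SpecialLinearGroup.coe_mul, coe_tv, coe_tv, coe_tv, mul_add, mul_one, add_mul, one_mul,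
    vecMulVec_mul_vecMulVec, hv, zero_smul, vecMulVec_zero, add_zero, add_vecMulVec]
  abel

theorem tv_zero (f : ι → F) (h : f ⬝ᵥ (0 : ι → F) = 0) : tv 0 f h = 1 := by
  apply Subtype.ext
  rw [coe_tv, zero_vecMulVec, add_zero, Matrix.SpecialLinearGroup.coe_one]

theorem tv_inv {u f : ι → F} (h : f ⬝ᵥ u = 0) :
    (tv u f h)⁻¹ = tv (-u) f (by rw [dotProduct_neg, h, neg_zero]) := by
  apply inv_eq_of_mul_eq_one_right
  rw [tv_mul_tv]
  simp only [add_neg_cancel]
  exact tv_zero f _

theorem tv_congr {u u' f f' : ι → F} (h : f ⬝ᵥ u = 0) (h' : f' ⬝ᵥ u' = 0) (hu : u = u') (hf : f = f') :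
    tv u f h = tv u' f' h' := by subst hu; subst hf; rfl

/-- The transvection `x ↦ x + (f ⬝ x) u` of `H`, together with the proof that it is one. -/
def InH (H : Subgroup (SpecialLinearGroup ι F)) (u f : ι → F) : Prop :=
  ∃ h : f ⬝ᵥ u = 0, tv u f h ∈ H

theorem mul_tv {g : SpecialLinearGroup ι F} {u f u' f' : ι → F} (h : f ⬝ᵥ u = 0) (h' : f' ⬝ᵥ u' = 0)
    (hu : (g : Matrix ι ι F) *ᵥ u = u') (hf : (g : Matrix ι ι F).transpose *ᵥ f' = f) :
    g * tv u f h = tv u' f' h' * g := by
  apply Subtype.ext
  rw [Matrix.SpecialLinearGroup.coe_mul, Matrix.SpecialLinearGroup.coe_mul, coe_tv, coe_tv, mul_add,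
    mul_one, add_mul, one_mul, mul_vecMulVec, vecMulVec_mul, hu, ← mulVec_transpose, hf]

/-- the inverse transpose automorphism -/
def dualEquiv : SpecialLinearGroup ι F ≃* SpecialLinearGroup ι F where
  toFun g := g⁻¹.transpose
  invFun g := g.transpose⁻¹
  left_inv g := by
    apply inv_injective
    rw [inv_inv]
    apply Subtype.ext
    simp [Matrix.SpecialLinearGroup.coe_transpose]
  right_inv g := by
    show (g.transpose⁻¹)⁻¹.transpose = g
    rw [inv_inv]
    apply Subtype.ext
    simp [Matrix.SpecialLinearGroup.coe_transpose]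
  map_mul' g h := by
    apply Subtype.ext
    rw [_root_.mul_inv_rev, Matrix.SpecialLinearGroup.coe_transpose, Matrix.SpecialLinearGroup.coe_mul,
      transpose_mul, Matrix.SpecialLinearGroup.coe_mul, Matrix.SpecialLinearGroup.coe_transpose,
      Matrix.SpecialLinearGroup.coe_transpose]

theorem dualEquiv_tv {u f : ι → F} (h : f ⬝ᵥ u = 0) :
    dualEquiv (tv u f h) = tv f (-u) (by rw [neg_dotProduct, dotProduct_comm, h, neg_zero]) := by
  show (tv u f h)⁻¹.transpose = _
  rw [tv_inv]
  apply Subtype.ext
  rw [Matrix.SpecialLinearGroup.coe_transpose, coe_tv, coe_tv, transpose_add, transpose_one,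
    transpose_vecMulVec]

theorem inH_smul_left {H : Subgroup (SpecialLinearGroup ι F)} {u f : ι → F} {c : F} (hc : c ≠ 0) :
    InH H (c • u) f ↔ InH H u (c • f) := by
  constructor
  · rintro ⟨h, hm⟩
    refine ⟨by simpa [smul_dotProduct, dotProduct_smul] using h, ?_⟩
    convert hm using 1
    apply Subtype.ext
    rw [coe_tv, coe_tv, smul_vecMulVec, vecMulVec_smul]
  · rintro ⟨h, hm⟩
    refine ⟨by simpa [smul_dotProduct, dotProduct_smul] using h, ?_⟩
    convert hm using 1
    apply Subtype.ext
    rw [coe_tv, coe_tv, smul_vecMulVec, vecMulVec_smul]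

theorem inH_neg_right {H : Subgroup (SpecialLinearGroup ι F)} {u f : ι → F} (h : InH H u f) :
    InH H u (-f) := by
  obtain ⟨h0, hm⟩ := h
  refine ⟨by rw [neg_dotProduct, h0, neg_zero], ?_⟩
  have h2 := H.inv_mem hm
  rw [tv_inv] at h2
  convert h2 using 1
  apply Subtype.ext
  rw [coe_tv, coe_tv, neg_vecMulVec, vecMulVec_neg]

/-- "each hyperplane: all or none" -/
def AllOrNone (H : Subgroup (SpecialLinearGroup ι F)) : Prop :=
  ∀ f : ι → F, f ≠ 0 →
    (∀ u, f ⬝ᵥ u = 0 → InH H u f) ∨ (∀ u, InH H u f → u = 0)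

/-- "each hyperplane: a hyperplane of the transvection group" -/
def HyperplaneType (H : Subgroup (SpecialLinearGroup ι F)) : Prop :=
  ∀ f : ι → F, f ≠ 0 → ∃ l : ι → F, l ∉ Submodule.span F {f} ∧
    ∀ u, f ⬝ᵥ u = 0 → (InH H u f ↔ l ⬝ᵥ u = 0)

/-- `HyperplaneType` is impossible. -/
theorem not_hyperplaneType [Fintype F] (hι : 3 ≤ Fintype.card ι) (H : Subgroup (SpecialLinearGroup ι F)) :
    ¬ HyperplaneType H := by
  intro hyp
  choose! L hL1 hL2 using hyp
  let W : (ι → F) → Submodule F (ι → F) := fun f => Submodule.span F {f, L f}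
  have hWdim : ∀ f, f ≠ 0 → Module.finrank F (W f) = 2 := by
    intro f hf
    have hli : LinearIndependent F ![f, L f] := by
      rw [LinearIndependent.pair_iff' hf]
      intro a ha
      exact hL1 f hf (Submodule.mem_span_singleton.mpr ⟨a, ha⟩)
    have h := finrank_span_eq_card hli
    rw [range_pair] at h; simpa using h
  have hii : ∀ f g, f ≠ 0 → g ∉ W f → L f ∈ Submodule.span F {g, L g, f} := by
    intro f g hf hg
    have hg0 : g ≠ 0 := by rintro rfl; exact hg (Submodule.zero_mem _)
    by_contra hcon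
    obtain ⟨v, hv, hv1⟩ := exists_dot hcon
    obtain ⟨u, hu, hu1⟩ := exists_dot hg
    have hgv : g ⬝ᵥ v = 0 := by rw [dotProduct_comm]; exact hv g (Submodule.subset_span (by simp))
    have hlgv : L g ⬝ᵥ v = 0 := by rw [dotProduct_comm]; exact hv (L g) (Submodule.subset_span (by simp))
    have hfv : f ⬝ᵥ v = 0 := by rw [dotProduct_comm]; exact hv f (Submodule.subset_span (by simp))
    have hfu : f ⬝ᵥ u = 0 := by rw [dotProduct_comm]; exact hu f (Submodule.subset_span (by simp))
    have hlfu : L f ⬝ᵥ u = 0 := by rw [dotProduct_comm]; exact hu (L f) (Submodule.subset_span (by simp))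
    have hgu : g ⬝ᵥ u = 1 := by rw [dotProduct_comm]; exact hu1
    obtain ⟨_, ha⟩ := (hL2 f hf u hfu).mpr hlfu
    obtain ⟨_, hb⟩ := (hL2 g hg0 v hgv).mpr hlgv
    have hkey : tv v f hfv * (tv u f hfu * tv v g hgv) = tv v g hgv * tv u f hfu := by
      apply Subtype.ext
      simp only [Matrix.SpecialLinearGroup.coe_mul, coe_tv, mul_add, add_mul, mul_one, one_mul,
        vecMulVec_mul_vecMulVec, hfu, hfv, hgu, zero_smul, vecMulVec_zero, zero_vecMulVec, mul_zero,
        add_zero, one_smul]
      abel
    have hmem : tv v f hfv ∈ H := by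
      rw [eq_mul_inv_of_mul_eq hkey]
      exact H.mul_mem (H.mul_mem hb ha) (H.inv_mem (H.mul_mem ha hb))
    have h0 : L f ⬝ᵥ v = 0 := (hL2 f hf v hfv).mp ⟨hfv, hmem⟩
    rw [dotProduct_comm, hv1] at h0
    exact one_ne_zero h0
  have hflip : ∀ f r, f ≠ 0 → r ∈ W f → r ∉ Submodule.span F {f} → W r = W f := by
    intro f r hf hr hrf
    have hr0 : r ≠ 0 := by rintro rfl; exact hrf (Submodule.zero_mem _)
    have hfr : f ∈ W r := by
      by_contra hcon
      have h1 := hii r f hr0 hcon
      have h2 : W r ≤ W f := by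
        refine Submodule.span_le.mpr ?_
        intro x hx
        simp only [Set.mem_insert_iff, Set.mem_singleton_iff] at hx
        rcases hx with rfl | rfl
        · exact hr
        · refine Submodule.span_le.mpr ?_ h1
          intro y hy
          simp only [Set.mem_insert_iff, Set.mem_singleton_iff] at hy
          rcases hy with rfl | rfl | rfl
          · exact Submodule.subset_span (by simp)
          · exact Submodule.subset_span (by simp)
          · exact hr
      exact hcon (Submodule.eq_of_le_of_finrank_eq h2 ((hWdim r hr0).trans (hWdim f hf).symm) ▸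
        Submodule.subset_span (by simp))
    have hsub : Submodule.span F {r, f} ≤ W r ⊓ W f := by
      refine Submodule.span_le.mpr ?_
      intro x hx
      simp only [Set.mem_insert_iff, Set.mem_singleton_iff] at hx
      rcases hx with rfl | rfl
      · exact ⟨Submodule.subset_span (by simp), hr⟩
      · exact ⟨hfr, Submodule.subset_span (by simp)⟩
    have hd : Module.finrank F (Submodule.span F {r, f}) = 2 := by
      have hli : LinearIndependent F ![f, r] := by
        rw [LinearIndependent.pair_iff' hf]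
        intro a ha
        exact hrf (Submodule.mem_span_singleton.mpr ⟨a, ha⟩)
      have h := finrank_span_eq_card hli
      rw [range_pair, Set.pair_comm] at h; simpa using h
    rw [← Submodule.eq_of_le_of_finrank_eq (hsub.trans inf_le_left) (hd.trans (hWdim r hr0).symm),
      Submodule.eq_of_le_of_finrank_eq (hsub.trans inf_le_right) (hd.trans (hWdim f hf).symm)]
  have : Nonempty ι := Fintype.card_pos_iff.mp (by omega)
  obtain ⟨f, hf⟩ := exists_ne (0 : ι → F)
  obtain ⟨g, hg⟩ : ∃ g, g ∉ W f := by
    by_contra hcon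
    push Not at hcon
    have h1 : W f = ⊤ := eq_top_iff.mpr fun x _ => hcon x
    have h2 := hWdim f hf
    rw [h1, finrank_top, Module.finrank_pi] at h2
    omega
  have hg0 : g ≠ 0 := by rintro rfl; exact hg (Submodule.zero_mem _)
  obtain ⟨a, b, c, habc⟩ := Submodule.mem_span_triple.mp (hii f g hf hg)
  set r := L f - c • f with hr
  have hr1 : r ∈ W f := Submodule.sub_mem _ (Submodule.subset_span (by simp))
    (Submodule.smul_mem _ _ (Submodule.subset_span (by simp)))
  have hr2 : r ∈ W g := by
    have : r = a • g + b • L g := by rw [hr, ← habc]; abel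
    rw [this]
    exact Submodule.add_mem _ (Submodule.smul_mem _ _ (Submodule.subset_span (by simp)))
      (Submodule.smul_mem _ _ (Submodule.subset_span (by simp)))
  have hrf : r ∉ Submodule.span F {f} := by
    intro h
    apply hL1 f hf
    have h' := Submodule.add_mem _ h (Submodule.smul_mem _ c (Submodule.mem_span_singleton_self f))
    simpa [hr] using h'
  have hrg : r ∉ Submodule.span F {g} := by
    intro h
    obtain ⟨s, hs⟩ := Submodule.mem_span_singleton.mp h
    rcases eq_or_ne s 0 with rfl | hs0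
    · rw [zero_smul] at hs
      exact hrf (hs ▸ Submodule.zero_mem _)
    · apply hg
      have : g = s⁻¹ • r := by rw [← hs, smul_smul, inv_mul_cancel₀ hs0, one_smul]
      rw [this]
      exact Submodule.smul_mem _ _ hr1
  apply hg
  rw [← hflip f r hf hr1 hrf, hflip g r hg0 hr2 hrg]
  exact Submodule.subset_span (by simp)

/-- all-or-none on both sides: no transvection, unless everything. -/
theorem no_transvection [Fintype F] (hι : 3 ≤ Fintype.card ι) (H : Subgroup (SpecialLinearGroup ι F))
    (hH : H ≠ ⊤) (h1 : AllOrNone H) (h2 : AllOrNone (H.map dualEquiv.toMonoidHom)) :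
    ∀ u f, InH H u f → u = 0 ∨ f = 0 := by
  intro u₀ f₀ h₀
  by_contra hcon
  push Not at hcon
  obtain ⟨hu₀, hf₀⟩ := hcon
  have hyper : ∀ {u f}, InH H u f → u ≠ 0 → f ≠ 0 → ∀ u', f ⬝ᵥ u' = 0 → InH H u' f := by
    intro u f h hu hf
    rcases h1 f hf with h' | h'
    · exact h'
    · exact absurd (h' u h) hu
  have point : ∀ {u f}, InH H u f → u ≠ 0 → f ≠ 0 → ∀ f', f' ⬝ᵥ u = 0 → InH H u f' := by
    intro u f h hu hf f' hf'
    obtain ⟨hh, hm⟩ := h
    have hm' : InH (H.map dualEquiv.toMonoidHom) f (-u) :=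
      ⟨_, ⟨_, hm, (dualEquiv_tv hh)⟩⟩
    rcases h2 (-u) (by simpa using hu) with h' | h'
    · obtain ⟨_, hm2⟩ := h' f' (by rw [neg_dotProduct, dotProduct_comm, hf', neg_zero])
      obtain ⟨x, hx, hxe⟩ := hm2
      refine ⟨hf', ?_⟩
      rw [← dualEquiv.injective (hxe.trans (dualEquiv_tv hf').symm)]
      exact hx
    · exact absurd (h' f hm') hf
  apply hH
  apply Cfsg.Agent.Classical.sl_subgroup_eq_top_of_transvection_mem
  intro i j hij c
  set u : ι → F := Pi.single i c with hu
  set f : ι → F := Pi.single j 1 with hf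
  have hfu : f ⬝ᵥ u = 0 := by rw [hf, hu, single_dotProduct, Pi.single_eq_of_ne hij.symm, mul_zero]
  rcases eq_or_ne c 0 with rfl | hc
  · have h1' : (SpecialLinearGroup.transvection hij (0 : F)) = 1 := by
      apply Subtype.ext
      simp [SpecialLinearGroup.transvection_coe]
    rw [h1']
    exact H.one_mem
  obtain ⟨z, hz⟩ : ∃ z, z ∉ Submodule.span F {f₀, f} := by
    by_contra h
    push Not at h
    have h1' : Submodule.span F ({f₀, f} : Set (ι → F)) = ⊤ := eq_top_iff.mpr fun x _ => h x
    have h2' : Module.finrank F (Submodule.span F (Set.range ![f₀, f])) ≤ 2 :=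
      (finrank_range_le_card (R := F) ![f₀, f]).trans (by simp)
    have h3 : Set.range ![f₀, f] = {f₀, f} := range_pair _ _
    rw [h3, h1', finrank_top, Module.finrank_pi] at h2'
    omega
  obtain ⟨y, hy, hy1⟩ := exists_dot hz
  have hy0 : y ≠ 0 := by rintro rfl; simp at hy1
  have hyf₀ : f₀ ⬝ᵥ y = 0 := by rw [dotProduct_comm]; exact hy f₀ (Submodule.subset_span (by simp))
  have hyf : f ⬝ᵥ y = 0 := by rw [dotProduct_comm]; exact hy f (Submodule.subset_span (by simp))
  have hf0 : f ≠ 0 := by simp [hf]
  obtain ⟨_, hm⟩ := hyper (point (hyper h₀ hu₀ hf₀ y hyf₀) hy0 hf₀ f hyf) hy0 hf0 u hfu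
  convert hm using 1
  apply Subtype.ext
  rw [coe_tv, SpecialLinearGroup.transvection_coe]
  rw [hu, hf, vecMulVec_single_single]

section Block

variable {m : ℕ}

local notation "ιm" => Fin m ⊕ Unit

/-- the last dual vector -/
def eLast : ιm → F := Sum.elim 0 (fun _ => 1)

theorem eLast_dot (w : Fin m → F) : (eLast : ιm → F) ⬝ᵥ (Sum.elim w 0) = 0 := by
  simp [eLast, dotProduct, Fintype.sum_sum_type]

/-- the transvection with axis `eLast` -/
def T (w : Fin m → F) : SpecialLinearGroup ιm F := tv (Sum.elim w 0) eLast (eLast_dot w)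

theorem T_mul (v w : Fin m → F) : T v * T w = T (v + w) := by
  rw [T, T, tv_mul_tv]
  exact tv_congr _ _ (by ext (i | i) <;> simp) rfl

theorem T_zero : T (0 : Fin m → F) = 1 := by
  rw [T]
  exact (tv_congr _ (by simp) (by ext (i | i) <;> rfl) rfl).trans (tv_zero eLast (by simp))

theorem coe_T (w : Fin m → F) :
    (T w : Matrix ιm ιm F) = fromBlocks 1 (of fun i _ => w i) 0 1 := by
  rw [T, coe_tv]
  ext (i | i) (j | j) <;> simp [eLast, vecMulVec_apply, Matrix.one_apply]

/-- block embedding -/
def emb : SpecialLinearGroup (Fin m) F →* SpecialLinearGroup ιm F where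
  toFun g := ⟨fromBlocks (g : Matrix (Fin m) (Fin m) F) 0 0 1, by
    rw [det_fromBlocks_zero₂₁, det_one, mul_one]; exact g.2⟩
  map_one' := Subtype.ext fromBlocks_one
  map_mul' g h := by
    apply Subtype.ext
    show fromBlocks ((g * h : SpecialLinearGroup (Fin m) F) : Matrix (Fin m) (Fin m) F) 0 0 1 =
      fromBlocks (g : Matrix (Fin m) (Fin m) F) 0 0 1 * fromBlocks (h : Matrix (Fin m) (Fin m) F) 0 0 1
    rw [fromBlocks_multiply, Matrix.SpecialLinearGroup.coe_mul]
    simp

theorem emb_mul_T (g : SpecialLinearGroup (Fin m) F) (w : Fin m → F) :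
    emb g * T w = T ((g : Matrix (Fin m) (Fin m) F) *ᵥ w) * emb g := by
  apply Subtype.ext
  rw [Matrix.SpecialLinearGroup.coe_mul, Matrix.SpecialLinearGroup.coe_mul, coe_T, coe_T]
  show fromBlocks (g : Matrix (Fin m) (Fin m) F) 0 0 1 * _ = _ * fromBlocks (g : Matrix (Fin m) (Fin m) F) 0 0 1
  rw [fromBlocks_multiply, fromBlocks_multiply]
  ext (i | i) (j | j) <;> simp [Matrix.mul_apply, mulVec, dotProduct]

theorem coe_emb_tv (u f : Fin m → F) (h : f ⬝ᵥ u = 0) (a : F) :
    T (a • u) * emb (tv u f h) =
      tv (Sum.elim u 0) (Sum.elim f (fun _ => a)) (by simp [dotProduct, Fintype.sum_sum_type] at h ⊢; exact h) := by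
  apply Subtype.ext
  rw [Matrix.SpecialLinearGroup.coe_mul, coe_T]
  show _ * fromBlocks (tv u f h : Matrix (Fin m) (Fin m) F) 0 0 1 = _
  rw [fromBlocks_multiply, coe_tv, coe_tv]
  ext (i | i) (j | j) <;> simp [vecMulVec_apply, Matrix.one_apply, mul_comm]

variable [Fintype F]

/-- a finite set shorthand for the count -/
def Small (H : Subgroup (SpecialLinearGroup ιm F)) : Prop :=
  H.index < Fintype.card F ^ m + (Fintype.card F ^ m - 1) / (Fintype.card F - 1)

theorem shapes_of_small (hm : 2 ≤ m) (H : Subgroup (SpecialLinearGroup ιm F)) (hH : H ≠ ⊤)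
    (hd : Small H) : AllOrNone H ∨ HyperplaneType H := by
  classical
  let S := SpecialLinearGroup ιm F
  let Ω := S ⧸ H
  have : Fintype Ω := Fintype.ofFinite Ω
  let _ : AddAction (Fin m → F) Ω :=
    { vadd := fun w ω => T w • ω
      zero_vadd := fun ω => by show T (0 : Fin m → F) • ω = ω; rw [T_zero, one_smul]
      add_vadd := fun v w ω => by
        show T (v + w) • ω = T v • T w • ω
        rw [smul_smul, T_mul] }
  have hvadd : ∀ (w : Fin m → F) (ω : Ω), w +ᵥ ω = T w • ω := fun w ω => rfl
  have hconjmem : ∀ (x g : S), x • ((g⁻¹ : S) : Ω) = ((g⁻¹ : S) : Ω) ↔ g * x * g⁻¹ ∈ H := by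
    intro x g
    rw [MulAction.Quotient.smul_coe, eq_comm, QuotientGroup.eq, inv_inv, smul_eq_mul, ← mul_assoc]
  have htr : ∀ {a b : ιm → F}, a ≠ 0 → b ≠ 0 → ∃ g : S, (g : Matrix ιm ιm F) *ᵥ a = b :=
    fun ha hb => sl_transitive (by simp; omega) ha hb
  have heL : (eLast : ιm → F) ≠ 0 := fun h => by simpa [eLast] using congrFun h (Sum.inr ())
  have hframe : ∀ f : ιm → F, f ≠ 0 → ∃ g : S, (g : Matrix ιm ιm F).transpose *ᵥ eLast = f ∧
      ∀ u, f ⬝ᵥ u = 0 → ∃ w : Fin m → F, (g : Matrix ιm ιm F) *ᵥ u = Sum.elim w (0 : Unit → F) ∧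
        (InH H u f ↔ w +ᵥ (((g⁻¹)⁻¹ : S) : Ω) = ((g⁻¹)⁻¹ : S)) := by
    intro f hf
    obtain ⟨g', hg'⟩ := htr heL hf
    refine ⟨g'.transpose, by rw [Matrix.SpecialLinearGroup.coe_transpose, transpose_transpose]; exact hg', ?_⟩
    intro u hu
    set g := g'.transpose with hgdef
    have hgf : (g : Matrix ιm ιm F).transpose *ᵥ eLast = f := by
      rw [hgdef, Matrix.SpecialLinearGroup.coe_transpose, transpose_transpose]; exact hg'
    have h0 : eLast ⬝ᵥ ((g : Matrix ιm ιm F) *ᵥ u) = 0 := by
      rw [dotProduct_mulVec, ← mulVec_transpose, hgf, hu]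
    refine ⟨fun i => ((g : Matrix ιm ιm F) *ᵥ u) (Sum.inl i), ?_, ?_⟩
    · ext (i | i)
      · rfl
      · simpa [eLast, dotProduct, Fintype.sum_sum_type] using h0
    · rw [hvadd, hconjmem, inv_inv]
      have hmul : g * tv u f hu = T (fun i => ((g : Matrix ιm ιm F) *ᵥ u) (Sum.inl i)) * g := by
        refine mul_tv hu _ ?_ hgf
        ext (i | i)
        · rfl
        · simpa [eLast, dotProduct, Fintype.sum_sum_type] using h0
      rw [mul_assoc, ← hmul, inv_mul_cancel_left]
      exact ⟨fun ⟨_, h⟩ => h, fun h => ⟨hu, h⟩⟩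
  refine (ModulePerm.shapes (F := F) (κ := Fin m) (Ω := Ω) (by simpa using hm) ?sym ?nontriv ?card).elim (fun h => ?typeOne) (fun h => ?typeTwo)
  case card =>
    rw [← Nat.card_eq_fintype_card, Fintype.card_fin]
    exact hd
  case sym =>
    intro g
    refine ⟨MulAction.toPerm (emb g), fun w ω => ?_⟩
    show emb g • T w • ω = T _ • emb g • ω
    rw [smul_smul, smul_smul, emb_mul_T]
  case nontriv =>
    by_contra hcon
    push Not at hcon
    apply hH
    apply Cfsg.Agent.Classical.sl_subgroup_eq_top_of_transvection_mem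
    intro i j hij c
    set u : ιm → F := Pi.single i c with hu
    set f : ιm → F := Pi.single j 1 with hf
    have hfu : f ⬝ᵥ u = 0 := by rw [hf, hu, single_dotProduct, Pi.single_eq_of_ne hij.symm, mul_zero]
    obtain ⟨g, -, hg⟩ := hframe f (by simp [hf])
    obtain ⟨w, -, hw⟩ := hg u hfu
    obtain ⟨_, hm'⟩ := hw.mpr (hcon _ w)
    convert hm' using 1
    apply Subtype.ext
    rw [coe_tv, SpecialLinearGroup.transvection_coe]
    rw [hu, hf, vecMulVec_single_single]
  case typeOne =>
    left
    intro f hf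
    obtain ⟨g, hgf, hg⟩ := hframe f hf
    rcases h (((g⁻¹)⁻¹ : S) : Ω) with h' | h'
    · left
      intro u hu
      obtain ⟨w, -, hw⟩ := hg u hu
      exact hw.mpr (h' w)
    · right
      intro u hu
      obtain ⟨w, hw0, hw⟩ := hg u hu.1
      have hwz := h' w (hw.mp hu)
      have hinj : Function.Injective (fun x => (g : Matrix ιm ιm F) *ᵥ x) :=
        Matrix.mulVec_injective_iff_isUnit.mpr
          ((Matrix.isUnit_iff_isUnit_det _).mpr (by rw [g.2]; exact isUnit_one))
      apply hinj
      show (g : Matrix ιm ιm F) *ᵥ u = (g : Matrix ιm ιm F) *ᵥ 0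
      rw [hw0, hwz, mulVec_zero]
      ext (i | i) <;> rfl
  case typeTwo =>
    right
    intro f hf
    obtain ⟨g, hgf, hg⟩ := hframe f hf
    obtain ⟨ψ, hψ0, hψ⟩ := h (((g⁻¹)⁻¹ : S) : Ω)
    refine ⟨(g : Matrix ιm ιm F).transpose *ᵥ Sum.elim ψ 0, ?_, ?_⟩
    · intro hmem
      obtain ⟨a, ha⟩ := Submodule.mem_span_singleton.mp hmem
      rw [← hgf, ← mulVec_smul] at ha
      have hinj : Function.Injective (fun x => (g : Matrix ιm ιm F).transpose *ᵥ x) :=
        Matrix.mulVec_injective_iff_isUnit.mpr
          ((Matrix.isUnit_iff_isUnit_det _).mpr (by rw [det_transpose, g.2]; exact isUnit_one))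
      have h' := hinj ha
      apply hψ0
      ext i
      simpa [eLast] using (congrFun h' (Sum.inl i)).symm
    · intro u hu
      obtain ⟨w, hw0, hw⟩ := hg u hu
      rw [hw, hψ]
      have : ((g : Matrix ιm ιm F).transpose *ᵥ Sum.elim ψ 0) ⬝ᵥ u = ψ ⬝ᵥ w := by
        rw [mulVec_transpose, ← dotProduct_mulVec, hw0, sumElim_dotProduct_sumElim, dotProduct_zero,
          add_zero]
      rw [this]

/-- No nontrivial transvection lies in a subgroup of small index. -/
theorem no_transvection_of_small (hm : 2 ≤ m) (H : Subgroup (SpecialLinearGroup ιm F)) (hH : H ≠ ⊤)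
    (hd : Small H) : ∀ u f, InH H u f → u = 0 ∨ f = 0 := by
  have hι : 3 ≤ Fintype.card ιm := by simp; omega
  have hd' : Small (H.map (dualEquiv (F := F) (ι := ιm)).toMonoidHom) := by
    show Subgroup.index _ < _
    rw [Subgroup.index_map_of_bijective (MulEquiv.bijective _)]
    exact hd
  have hH' : H.map (dualEquiv (F := F) (ι := ιm)).toMonoidHom ≠ ⊤ := by
    intro h
    apply hH
    rwa [← Subgroup.map_top_of_surjective (dualEquiv (F := F) (ι := ιm)).toMonoidHom dualEquiv.surjective,
      (Subgroup.map_injective (f := (dualEquiv (F := F) (ι := ιm)).toMonoidHom) dualEquiv.injective).eq_iff] at h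
  refine no_transvection hι H hH ?_ ?_
  · exact (shapes_of_small hm H hH hd).resolve_right (not_hyperplaneType hι H)
  · exact (shapes_of_small hm _ hH' hd').resolve_right (not_hyperplaneType hι _)

/-- The cocycle of the complement and the final contradiction. -/
theorem index_ge (hm : 2 ≤ m) (hexc : ¬ (m = 3 ∧ Fintype.card F = 2))
    (H : Subgroup (SpecialLinearGroup ιm F)) (hH : H ≠ ⊤) :
    Fintype.card F ^ m + (Fintype.card F ^ m - 1) / (Fintype.card F - 1) ≤ H.index := by
  classical
  by_contra hlt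
  have hd : Small H := not_le.mp hlt
  let S := SpecialLinearGroup ιm F
  have hconj : ∀ (g : S), ∀ w : Fin m → F, g⁻¹ * T w * g ∈ H → w = 0 := by
    intro g w hw
    let H' : Subgroup S := H.map (MulAut.conj g).toMonoidHom
    have hH' : H' ≠ ⊤ := by
      intro h
      apply hH
      rwa [← Subgroup.map_top_of_surjective (MulAut.conj g).toMonoidHom (MulAut.conj g).surjective,
        (Subgroup.map_injective (f := (MulAut.conj g).toMonoidHom) (MulAut.conj g).injective).eq_iff] at h
    have hd' : Small H' := by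
      show Subgroup.index _ < _
      rw [Subgroup.index_map_of_bijective (MulEquiv.bijective _)]
      exact hd
    have hmem : InH H' (Sum.elim w 0) eLast :=
      ⟨eLast_dot w, ⟨_, hw, show g * (g⁻¹ * T w * g) * g⁻¹ = T w by simp [mul_assoc]⟩⟩
    rcases no_transvection_of_small hm H' hH' hd' _ _ hmem with h | h
    · ext i; simpa using congrFun h (Sum.inl i)
    · simpa [eLast] using congrFun h (Sum.inr ())
  -- transitivity of the group `T`
  have htrans : ∀ g : S, ∃ w : Fin m → F, T w * g ∈ H := by
    intro g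
    by_contra hcon
    push Not at hcon
    have hinj : ∀ (x : S), Function.Injective (fun w : Fin m → F => ((T w * x : S) : S ⧸ H)) := by
      intro x v w hvw
      have h : x⁻¹ * T (w - v) * x ∈ H := by
        have h' := QuotientGroup.eq.mp hvw
        convert h' using 1
        have hsplit : T w = T v * T (w - v) := by rw [T_mul, add_sub_cancel]
        rw [hsplit]
        simp [mul_assoc]
      exact (sub_eq_zero.mp (hconj x _ h)).symm
    let e : (Fin m → F) ⊕ (Fin m → F) → S ⧸ H :=
      Sum.elim (fun w => ((T w * 1 : S) : S ⧸ H)) (fun w => ((T w * g : S) : S ⧸ H))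
    have he : Function.Injective e := by
      refine Function.Injective.sumElim (hinj 1) (hinj g) ?_
      intro v w hvw
      have h := QuotientGroup.eq.mp hvw
      apply hcon (w - v)
      convert h using 1
      have hsplit : T w = T v * T (w - v) := by rw [T_mul, add_sub_cancel]
      conv_rhs => rw [hsplit]
      simp [mul_assoc]
    have hcard := Nat.card_le_card_of_injective e he
    rw [Nat.card_sum, Nat.card_eq_fintype_card, Fintype.card_fun, Fintype.card_fin] at hcard
    have h4 : (Fintype.card F ^ m - 1) / (Fintype.card F - 1) ≤ Fintype.card F ^ m :=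
      (Nat.div_le_self _ _).trans (Nat.sub_le _ _)
    have hd2 : H.index < Fintype.card F ^ m + (Fintype.card F ^ m - 1) / (Fintype.card F - 1) := hd
    have h5 : Nat.card (S ⧸ H) = H.index := rfl
    omega
  choose c hc using fun g : SpecialLinearGroup (Fin m) F => htrans (emb g)
  have huniq : ∀ g v, T v * emb g ∈ H → v = c g := by
    intro g v hv
    have h := H.mul_mem hv (H.inv_mem (hc g))
    rw [_root_.mul_inv_rev, ← mul_assoc, mul_inv_cancel_right] at h
    have hsplit : T v = T (v - c g) * T (c g) := by rw [T_mul, sub_add_cancel]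
    rw [hsplit, mul_inv_cancel_right] at h
    exact sub_eq_zero.mp (hconj 1 _ (by simpa using h))
  have hcoc : ∀ g h : SpecialLinearGroup (Fin m) F,
      c (g * h) = c g + (g : Matrix (Fin m) (Fin m) F) *ᵥ c h := by
    intro g h
    symm
    apply huniq
    have := H.mul_mem (hc g) (hc h)
    convert this using 1
    rw [← T_mul, map_mul, mul_assoc (T (c g)), ← mul_assoc (T (_ *ᵥ c h)), ← emb_mul_T]
    group
  have hntr : ∀ (u f : Fin m → F) (h : f ⬝ᵥ u = 0), u ≠ 0 → f ≠ 0 → ∀ a : F, c (tv u f h) ≠ a • u := by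
    intro u f h hu hf a heq
    have hmem := hc (tv u f h)
    rw [heq, coe_emb_tv] at hmem
    rcases no_transvection_of_small hm H hH hd _ _ ⟨_, hmem⟩ with h' | h'
    · exact hu (by ext i; simpa using congrFun h' (Sum.inl i))
    · exact hf (by ext i; simpa using congrFun h' (Sum.inl i))
  have hc1 : c 1 = 0 := by
    symm; apply huniq; rw [T_zero, map_one, one_mul]; exact H.one_mem
  -- elementary transvections of `SL_m`
  have hd0 : ∀ {i j : Fin m}, i ≠ j → ∀ s : F, (Pi.single j 1 : Fin m → F) ⬝ᵥ Pi.single i s = 0 := by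
    intro i j hij s
    rw [single_dotProduct, Pi.single_eq_of_ne hij.symm, mul_zero]
  let X : ∀ i j : Fin m, i ≠ j → SpecialLinearGroup (Fin m) F :=
    fun i j hij => tv (Pi.single i 1) (Pi.single j 1) (hd0 hij 1)
  have hX : ∀ i j (hij : i ≠ j) (x : Fin m → F) (k : Fin m),
      ((X i j hij : Matrix (Fin m) (Fin m) F) *ᵥ x) k = x k + if k = i then x j else 0 := by
    intro i j hij x k
    show (((tv (Pi.single i (1 : F)) (Pi.single j 1) (hd0 hij 1) : SpecialLinearGroup (Fin m) F) : Matrix (Fin m) (Fin m) F) *ᵥ x) k = _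
    rw [tv_mulVec, single_dotProduct, one_mul, Pi.add_apply, Pi.smul_apply, Pi.single_apply, smul_eq_mul]
    split_ifs <;> simp
  have hcomm : ∀ i j l (hij : i ≠ j) (hil : i ≠ l) (hlj : l ≠ j),
      X i l hil * X l j hlj = X i j hij * (X l j hlj * X i l hil) := by
    intro i j l hij hil hlj
    apply Subtype.ext
    show (X i l hil * X l j hlj : SpecialLinearGroup (Fin m) F).1 = _
    rw [Matrix.SpecialLinearGroup.coe_mul, Matrix.SpecialLinearGroup.coe_mul, Matrix.SpecialLinearGroup.coe_mul]
    simp only [X, coe_tv, mul_add, add_mul, mul_one, one_mul, vecMulVec_mul_vecMulVec,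
      single_dotProduct, Pi.single_eq_same, Pi.single_eq_of_ne hij.symm, Pi.single_eq_of_ne hlj.symm,
      Pi.single_eq_of_ne hij, Pi.single_eq_of_ne hil, Pi.single_eq_of_ne hil.symm, Pi.single_eq_of_ne hlj,
      zero_smul, one_smul, vecMulVec_zero, mul_zero, zero_mul, add_zero, zero_add]
    abel
  have hrel : ∀ i j l (hij : i ≠ j) (hil : i ≠ l) (hlj : l ≠ j) (k : Fin m), k ≠ i →
      c (X i j hij) k = - if k = l then c (X i l hil) j else 0 := by
    intro i j l hij hil hlj k hki
    have h := congrArg (fun g => c g k) (hcomm i j l hij hil hlj)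
    simp only [hcoc, Pi.add_apply, hX, if_neg hki, add_zero] at h
    linear_combination -h
  set i0 : Fin m := ⟨0, by omega⟩ with hi0
  set i1 : Fin m := ⟨1, by omega⟩ with hi1
  have h01 : i0 ≠ i1 := by simp [hi0, hi1]
  have hkey : ∀ k, k ≠ i0 → c (X i0 i1 h01) k = 0 := by
    intro k hk
    have hk0 : k.val ≠ 0 := fun h => hk (Fin.ext h)
    by_cases h2 : ∃ l : Fin m, l ≠ i0 ∧ l ≠ i1 ∧ l ≠ k
    · obtain ⟨l, hl0, hl1, hlk⟩ := h2
      rw [hrel i0 i1 l h01 (Ne.symm hl0) hl1 k hk, if_neg (Ne.symm hlk), neg_zero]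
    push Not at h2
    rcases ne_or_eq (2 : F) 0 with hodd | heven
    · have h2ne : (2 : F) ≠ 0 := hodd
      rcases lt_or_ge m 3 with hm2 | hm3
      · obtain rfl : m = 2 := by omega
        obtain rfl : k = i1 := by apply Fin.ext; have := k.isLt; simp [hi1]; omega
        let z : SpecialLinearGroup (Fin 2) F := ⟨-1, by simp [det_neg]⟩
        have hzt : z * X i0 i1 h01 = X i0 i1 h01 * z := by
          apply Subtype.ext
          rw [Matrix.SpecialLinearGroup.coe_mul, Matrix.SpecialLinearGroup.coe_mul]
          show -1 * _ = _ * -1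
          simp
        have h := congrArg (fun g => c g i1) hzt
        simp only [hcoc, Pi.add_apply, hX, if_neg hk, add_zero] at h
        have hz : ((z : Matrix (Fin 2) (Fin 2) F) *ᵥ c (X i0 i1 h01)) i1 = - c (X i0 i1 h01) i1 := by
          show ((-1 : Matrix (Fin 2) (Fin 2) F) *ᵥ _) i1 = _
          simp [neg_mulVec]
        rw [hz] at h
        have h' : (2 : F) * c (X i0 i1 h01) i1 = 0 := by linear_combination -h
        simpa [h2ne] using h'
      · set i2 : Fin m := ⟨2, by omega⟩ with hi2
        obtain rfl : i2 = k := h2 i2 (by simp [hi2, hi0]) (by simp [hi2, hi1])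
        have h02 : i0 ≠ i2 := by simp [hi0, hi2]
        have hA := hrel i0 i1 i2 h01 h02 (by simp [hi1, hi2]) i2 hk
        rw [if_pos rfl] at hA
        have hXc : X i0 i1 h01 * X i0 i2 h02 = X i0 i2 h02 * X i0 i1 h01 := by
          show tv _ _ _ * tv _ _ _ = tv _ _ _ * tv _ _ _
          apply Subtype.ext
          simp only [Matrix.SpecialLinearGroup.coe_mul, coe_tv, mul_add, add_mul, mul_one, one_mul,
            vecMulVec_mul_vecMulVec, single_dotProduct, Pi.single_eq_of_ne h01.symm,
            Pi.single_eq_of_ne h02.symm, mul_zero, zero_smul, vecMulVec_zero, add_zero]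
          abel
        have h := congrArg (fun g => c g i0) hXc
        simp only [hcoc, Pi.add_apply, hX, if_true] at h
        have h' : (2 : F) * c (X i0 i1 h01) i2 = 0 := by linear_combination hA - h
        simpa [h2ne] using h'
    · have hch : ∀ x : F, x + x = 0 := fun x => by rw [← two_mul, heven, zero_mul]
      rcases lt_or_ge m 3 with hm2 | hm3
      · obtain rfl : m = 2 := by omega
        obtain rfl : k = i1 := by apply Fin.ext; have := k.isLt; simp [hi1]; omega
        have hsq : X i0 i1 h01 * X i0 i1 h01 = 1 := by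
          show tv _ _ _ * tv _ _ _ = 1
          rw [tv_mul_tv]
          apply Subtype.ext
          rw [coe_tv, Matrix.SpecialLinearGroup.coe_one,
            show (Pi.single i0 1 + Pi.single i0 1 : Fin 2 → F) = 0 from funext fun x => hch _,
            zero_vecMulVec, add_zero]
        have h := congrArg (fun g => c g i0) hsq
        simp only [hcoc, Pi.add_apply, hX, if_true, hc1, Pi.zero_apply] at h
        linear_combination h - hch (c (X i0 i1 h01) i0)
      · set i2 : Fin m := ⟨2, by omega⟩ with hi2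
        obtain rfl : i2 = k := h2 i2 (by simp [hi2, hi0]) (by simp [hi2, hi1])
        have hm' : m = 3 := by
          by_contra hne
          have := h2 ⟨3, by omega⟩ (by simp [hi0]) (by simp [hi1])
          simp [hi2] at this
        subst hm'
        obtain ⟨a, ha0, ha1⟩ : ∃ a : F, a ≠ 0 ∧ a ≠ 1 := by
          by_contra hcon
          push Not at hcon
          apply hexc
          refine ⟨rfl, le_antisymm ?_ Fintype.one_lt_card⟩
          calc Fintype.card F = (Finset.univ : Finset F).card := Finset.card_univ.symm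
            _ ≤ ({0, 1} : Finset F).card := Finset.card_le_card fun x _ => by
                by_cases hx : x = 0 <;> simp [hx, hcon x]
            _ ≤ 2 := Finset.card_le_two
        let d : Fin 3 → F := fun i => if i = i2 then (a * a)⁻¹ else a
        let hdiag : SpecialLinearGroup (Fin 3) F := ⟨diagonal d, by
          rw [det_diagonal, Fin.prod_univ_three]
          simp [d, hi2]
          field_simp⟩
        have hcm : hdiag * X i0 i1 h01 = X i0 i1 h01 * hdiag := by
          apply Subtype.ext
          rw [Matrix.SpecialLinearGroup.coe_mul, Matrix.SpecialLinearGroup.coe_mul]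
          show diagonal d * _ = _ * diagonal d
          simp only [X, coe_tv, mul_add, add_mul, mul_one, one_mul, mul_vecMulVec, vecMulVec_mul]
          congr 1
          ext p r
          simp only [vecMulVec_apply, mulVec_diagonal, vecMul_diagonal, Pi.single_apply]
          split_ifs with hp hr
          · subst hp; subst hr; simp [d, hi0, hi1, hi2]
          all_goals simp
        have h := congrArg (fun g => c g i2) hcm
        simp only [hcoc, Pi.add_apply, hX, if_neg hk, add_zero] at h
        have hv : ((hdiag : Matrix (Fin 3) (Fin 3) F) *ᵥ c (X i0 i1 h01)) i2 =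
            (a * a)⁻¹ * c (X i0 i1 h01) i2 := by
          show (diagonal d *ᵥ _) i2 = _
          rw [mulVec_diagonal]; simp [d]
        rw [hv] at h
        have h' : ((a * a)⁻¹ - 1) * c (X i0 i1 h01) i2 = 0 := by linear_combination h
        rcases mul_eq_zero.mp h' with h'' | h''
        · exfalso
          have h3 : a * a = 1 := inv_eq_one.mp (sub_eq_zero.mp h'')
          have h4 : (a - 1) * (a - 1) = 0 := by linear_combination h3 - hch a + hch 1
          exact ha1 (sub_eq_zero.mp (mul_self_eq_zero.mp h4))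
        · exact h''
  refine hntr (Pi.single i0 1) (Pi.single i1 1) (hd0 h01 1) (by simp) (by simp) (c (X i0 i1 h01) i0) ?_
  ext k
  show c (X i0 i1 h01) k = _
  by_cases hk : k = i0
  · subst hk; simp
  · rw [hkey k hk]; simp [hk]

end Block

end CfsgLib.KnownSimple.SLMinIndex
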