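import Mathlib

/-!
Over a finite field the determinant is surjective on the centralizer of a semisimple endomorphism.
-/

set_option autoImplicit false

namespace CfsgLib.KnownSimple.SemisimpleCentralizer

open Polynomial

theorem squarefree_of_coprime_order {F : Type*} [Field F] {p : ℕ} [Fact p.Prime] [CharP F p]
    {n : ℕ} (hn : n.Coprime p) : Squarefree (X ^ n - 1 : F[X]) := by
  refine (X_pow_sub_one_separable_iff.2 ?_).squarefree
  rw [Ne, CharP.cast_eq_zero_iff F p]
  intro h
  exact (Fact.out : p.Prime).one_lt.ne' (Nat.eq_one_of_dvd_coprimes hn h dvd_rfl)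

theorem exists_irreducible_cyclic {F V : Type*} [Field F] [AddCommGroup V] [Module F V]
    [FiniteDimensional F V] [Nontrivial V] (x : Module.End F V) :
    ∃ (f : F[X]) (w : V), Irreducible f ∧ ∀ q : F[X], aeval x q w = 0 ↔ f ∣ q := by
  have hint : IsIntegral F x := IsIntegral.of_finite F x
  obtain ⟨f, hf, g, hg⟩ := WfDvdMonoid.exists_irreducible_factor (minpoly.not_isUnit F x)
    (minpoly.ne_zero hint)
  have hg0 : g ≠ 0 := fun h => minpoly.ne_zero hint (by rw [hg, h, mul_zero])
  have hne : aeval x g ≠ 0 := by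
    intro h
    have h1 := Polynomial.natDegree_le_of_dvd (minpoly.dvd F x h) hg0
    rw [hg, Polynomial.natDegree_mul hf.ne_zero hg0] at h1
    have := hf.natDegree_pos
    omega
  obtain ⟨u, hu⟩ : ∃ u, aeval x g u ≠ 0 := by
    by_contra h
    push Not at h
    exact hne (LinearMap.ext h)
  refine ⟨f, aeval x g u, hf, fun q => ⟨fun hq => ?_, ?_⟩⟩
  · by_contra hdvd
    obtain ⟨a, b, hab⟩ := (hf.coprime_iff_not_dvd).2 hdvd
    apply hu
    have h := congrArg (fun r : F[X] => aeval x r (aeval x g u)) hab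
    have hfg : aeval x f (aeval x g u) = 0 := by
      rw [← Module.End.mul_apply, ← map_mul, ← hg, minpoly.aeval, LinearMap.zero_apply]
    simp only [map_add, map_mul, map_one, LinearMap.add_apply, Module.End.mul_apply, hfg, hq,
      map_zero, add_zero, Module.End.one_apply] at h
    exact h.symm
  · rintro ⟨r, rfl⟩
    rw [← Module.End.mul_apply, ← map_mul,
      show f * r * g = minpoly F x * r by rw [hg]; ring, map_mul, minpoly.aeval, zero_mul,
      LinearMap.zero_apply]

theorem exists_commute_det_eq {F V : Type*} [Field F] [Finite F] [AddCommGroup V] [Module F V]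
    [FiniteDimensional F V] [Nontrivial V] (x : Module.End F V) (hx : x.IsSemisimple) (a : F) :
    ∃ c : Module.End F V, Commute c x ∧ LinearMap.det c = a := by
  obtain ⟨f, w, hf, hw⟩ := exists_irreducible_cyclic x
  haveI : Fact (Irreducible f) := ⟨hf⟩
  let Φ : F[X] →ₗ[F] V := (LinearMap.applyₗ w).comp (aeval x).toLinearMap
  have hΦ : ∀ q, Φ q = aeval x q w := fun q => rfl
  let W := LinearMap.range Φ
  have hinv : W ∈ Module.End.invtSubmodule x := by
    rintro _ ⟨q, rfl⟩
    refine ⟨X * q, ?_⟩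
    rw [hΦ, hΦ, map_mul, aeval_X]; rfl
  obtain ⟨W', hW', hc⟩ := Module.End.isSemisimple_iff.1 hx W hinv
  haveI : Module.Finite F (AdjoinRoot f) := (AdjoinRoot.powerBasis hf.ne_zero).finite
  haveI : Finite (AdjoinRoot f) := Module.finite_of_finite F
  obtain ⟨b, hb⟩ := FiniteField.norm_surjective F (AdjoinRoot f) a
  obtain ⟨u, rfl⟩ := AdjoinRoot.mk_surjective b
  have hWu : ∀ v ∈ W, aeval x u v ∈ W := by
    rintro _ ⟨q, rfl⟩
    exact ⟨u * q, by rw [hΦ, hΦ, map_mul]; rfl⟩
  let M : Module.End F W := (aeval x u).restrict hWu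
  let mkL : F[X] →ₗ[F] AdjoinRoot f := (AdjoinRoot.mkₐ f).toLinearMap
  have hker : LinearMap.ker mkL = LinearMap.ker Φ := by
    ext q
    rw [LinearMap.mem_ker, LinearMap.mem_ker, hΦ, hw]
    exact AdjoinRoot.mk_eq_zero
  let e : AdjoinRoot f ≃ₗ[F] W :=
    (LinearEquiv.ofTop _ (LinearMap.range_eq_top.2 AdjoinRoot.mk_surjective)).symm ≪≫ₗ
      mkL.quotKerEquivRange.symm ≪≫ₗ (Submodule.quotEquivOfEq _ _ hker) ≪≫ₗ Φ.quotKerEquivRange
  have he : ∀ q, e (AdjoinRoot.mk f q) = ⟨Φ q, q, rfl⟩ := by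
    intro q
    simp only [e, LinearEquiv.trans_apply]
    rw [show (LinearEquiv.ofTop _ (LinearMap.range_eq_top.2 AdjoinRoot.mk_surjective)).symm
      (AdjoinRoot.mk f q) = (⟨mkL q, LinearMap.mem_range_self mkL q⟩ : LinearMap.range mkL) from rfl]
    erw [LinearMap.quotKerEquivRange_symm_apply_image mkL q (LinearMap.mem_range_self mkL q)]
    rfl
  have hdet : LinearMap.det M = a := by
    rw [← hb, Algebra.norm_apply, ← LinearMap.det_conj _ e]
    congr 1
    apply LinearMap.ext
    intro v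
    obtain ⟨y, rfl⟩ := e.surjective v
    obtain ⟨q, rfl⟩ := AdjoinRoot.mk_surjective y
    rw [LinearMap.comp_apply, LinearMap.comp_apply, LinearEquiv.coe_coe, LinearEquiv.coe_coe,
      LinearEquiv.symm_apply_apply, Algebra.coe_lmul_eq_mul, LinearMap.mul_apply_apply, ← map_mul,
      he, he]
    apply Subtype.ext
    show aeval x u (Φ q) = Φ (u * q)
    rw [hΦ, hΦ, map_mul]; rfl
  let E := Submodule.prodEquivOfIsCompl W W' hc
  refine ⟨E.toLinearMap ∘ₗ (M.prodMap LinearMap.id) ∘ₗ E.symm.toLinearMap, ?_, ?_⟩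
  · refine LinearMap.ext fun v => ?_
    obtain ⟨⟨p, p'⟩, rfl⟩ := E.surjective v
    have hcomm : x (E (p, p')) = E (⟨x p.1, hinv p.2⟩, ⟨x p'.1, hW' p'.2⟩) := by
      simp [E, map_add]
    simp only [Module.End.mul_apply, LinearMap.comp_apply, LinearEquiv.coe_coe, hcomm,
      LinearEquiv.symm_apply_apply, LinearMap.prodMap_apply, LinearMap.id_apply]
    simp only [E, Submodule.coe_prodEquivOfIsCompl', map_add]
    congr 1
    show aeval x u (x p.1) = x (aeval x u p.1)
    have : Commute (aeval x u) x := by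
      simpa using ((Commute.all u X).map (aeval (R := F) x))
    exact LinearMap.congr_fun this.eq p.1
  · rw [LinearMap.det_conj, LinearMap.det_prodMap, LinearMap.det_id, mul_one, hdet]

theorem exists_conjugator_det_one {F : Type*} [Field F] [Finite F] {p : ℕ} [Fact p.Prime]
    [CharP F p] {n : ℕ} (x g : GL (Fin n) F) (hx : (orderOf x).Coprime p) :
    ∃ h : GL (Fin n) F, (h : Matrix (Fin n) (Fin n) F).det = 1 ∧ h * x * h⁻¹ = g * x * g⁻¹ := by
  classical
  rcases n.eq_zero_or_pos with rfl | hn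
  · exact ⟨g, Matrix.det_fin_zero, rfl⟩
  haveI : Nonempty (Fin n) := ⟨⟨0, hn⟩⟩
  have hss : Module.End.IsSemisimple (Matrix.toLinAlgEquiv' (x : Matrix (Fin n) (Fin n) F)) := by
    apply Module.End.isSemisimple_of_squarefree_aeval_eq_zero (squarefree_of_coprime_order hx)
    rw [aeval_algEquiv, AlgHom.comp_apply, map_sub, map_pow, map_one, aeval_X, ← Units.val_pow_eq_pow_val,
      pow_orderOf_eq_one, Units.val_one, sub_self, map_zero]
  obtain ⟨c, hc, hcdet⟩ :=
    exists_commute_det_eq _ hss ((g : Matrix (Fin n) (Fin n) F).det)⁻¹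
  set C := LinearMap.toMatrixAlgEquiv' c with hC
  have hdet : C.det = ((g : Matrix (Fin n) (Fin n) F).det)⁻¹ := by
    rw [hC, ← hcdet]
    exact LinearMap.det_toMatrix' c
  have hgd : IsUnit (g : Matrix (Fin n) (Fin n) F).det := (Matrix.isUnit_iff_isUnit_det _).1 g.isUnit
  let cu : GL (Fin n) F := Matrix.GeneralLinearGroup.mkOfDetNeZero C
    (by rw [hdet]; exact inv_ne_zero hgd.ne_zero)
  have hcomm : Commute cu x := by
    apply Units.ext
    show C * (x : Matrix (Fin n) (Fin n) F) = (x : Matrix (Fin n) (Fin n) F) * C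
    have := congrArg LinearMap.toMatrixAlgEquiv' hc.eq
    simpa [hC] using this
  refine ⟨g * cu, ?_, ?_⟩
  · rw [Units.val_mul, Matrix.det_mul]
    show (g : Matrix (Fin n) (Fin n) F).det * C.det = 1
    rw [hdet, mul_inv_cancel₀ hgd.ne_zero]
  · rw [mul_inv_rev, mul_assoc g cu x, hcomm.eq]
    group

end CfsgLib.KnownSimple.SemisimpleCentralizer
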