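import Mathlib

set_option autoImplicit false

/-! Normal form of square-zero endomorphisms, and conjugacy by determinant one maps in char 2. -/

namespace CfsgLib.KnownSimple

variable {F : Type*} [Field F] {V : Type*} [AddCommGroup V] [Module F V] [FiniteDimensional F V]

/-- Normal form of a square-zero endomorphism. -/
theorem exists_squareZero_equiv (N : V →ₗ[F] V) (hN : N ∘ₗ N = 0) (l : ℕ)
    (hl : Module.finrank F (LinearMap.range N) = l) :
    ∃ (d : ℕ), ∃ φ : ((Fin l → F) × ((Fin d → F) × (Fin l → F))) ≃ₗ[F] V,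
      d + 2 * l = Module.finrank F V ∧ ∀ x y z, N (φ (x, y, z)) = φ (0, 0, x) := by
  obtain ⟨C, hC⟩ := Submodule.exists_isCompl (LinearMap.ker N)
  have hrk : LinearMap.range N ≤ LinearMap.ker N := by
    rintro _ ⟨v, rfl⟩
    exact LinearMap.congr_fun hN v
  have hrest : Function.Injective (N ∘ₗ C.subtype) := by
    rw [← LinearMap.ker_eq_bot, eq_bot_iff]
    rintro ⟨c, hc⟩ h
    have hm : c ∈ LinearMap.ker N ⊓ C := Submodule.mem_inf.mpr ⟨h, hc⟩
    rw [hC.inf_eq_bot] at hm
    simpa using hm
  have hfr := LinearMap.finrank_range_add_finrank_ker N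
  have hdimC : Module.finrank F C = l := by
    have h1 := Submodule.finrank_add_eq_of_isCompl hC
    omega
  obtain ⟨E, hE⟩ := Submodule.exists_isCompl
    ((LinearMap.range N).comap (LinearMap.ker N).subtype)
  set R := (LinearMap.range N).comap (LinearMap.ker N).subtype with hR
  have hdimR : Module.finrank F R = l :=
    (Submodule.comapSubtypeEquivOfLe hrk).finrank_eq.trans hl
  have hdimE : Module.finrank F E + 2 * l = Module.finrank F V := by
    have h1 := Submodule.finrank_add_eq_of_isCompl hE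
    omega
  let cb := (Module.finBasisOfFinrankEq F C hdimC).equivFun.symm
  let eb := (Module.finBasis F E).equivFun.symm
  let ι : (Fin l → F) →ₗ[F] V := C.subtype ∘ₗ cb.toLinearMap
  let κ : (Fin (Module.finrank F E) → F) →ₗ[F] V :=
    (LinearMap.ker N).subtype ∘ₗ E.subtype ∘ₗ eb.toLinearMap
  let f : ((Fin l → F) × ((Fin (Module.finrank F E) → F) × (Fin l → F))) →ₗ[F] V :=
    LinearMap.coprod ι (LinearMap.coprod κ (N ∘ₗ ι))
  have hNN : ∀ v, N (N v) = 0 := fun v => LinearMap.congr_fun hN v
  have hfN : ∀ x y z, N (f (x, y, z)) = f (0, 0, x) := by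
    intro x y z
    have hk : N (κ y) = 0 := ((E.subtype (eb y)) : LinearMap.ker N).2
    simp [f, hNN, hk]
  have hinj : Function.Injective f := by
    rw [← LinearMap.ker_eq_bot, eq_bot_iff]
    rintro ⟨x, y, z⟩ h
    have h0 : f (x, y, z) = 0 := h
    have hx : x = 0 := by
      have h1 : f ((0 : Fin l → F), (0 : Fin (Module.finrank F E) → F), x) = 0 := by
        rw [← hfN x y z, h0, map_zero]
      have h2 : N (C.subtype (cb x)) = 0 := by simpa [f, ι] using h1
      have h3 : cb x = 0 := hrest (a₁ := cb x) (a₂ := 0) (by simpa using h2)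
      exact cb.map_eq_zero_iff.mp h3
    subst hx
    have hy : y = 0 := by
      have h1 : κ y + N (ι z) = 0 := by simpa [f] using h0
      have h2 : (eb y : LinearMap.ker N) ∈ R ⊓ E := by
        refine Submodule.mem_inf.mpr ⟨?_, (eb y).2⟩
        rw [hR, Submodule.mem_comap]
        refine ⟨-(ι z), ?_⟩
        rw [map_neg]
        exact (eq_neg_of_add_eq_zero_left h1).symm
      rw [hE.inf_eq_bot] at h2
      have h3 : eb y = 0 := Subtype.ext ((Submodule.mem_bot F).mp h2)
      exact eb.map_eq_zero_iff.mp h3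
    subst hy
    have h1 : N (C.subtype (cb z)) = 0 := by simpa [f, ι] using h0
    have h3 : cb z = 0 := hrest (a₁ := cb z) (a₂ := 0) (by simpa using h1)
    simp [cb.map_eq_zero_iff.mp h3]
  have hdim : Module.finrank F ((Fin l → F) × ((Fin (Module.finrank F E) → F) × (Fin l → F)))
      = Module.finrank F V := by
    simp only [Module.finrank_prod, Module.finrank_fin_fun]
    omega
  refine ⟨_, f.linearEquivOfInjective hinj hdim, hdimE, ?_⟩
  intro x y z
  simp only [LinearMap.linearEquivOfInjective_apply]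
  exact hfN x y z

/-- In characteristic 2 over a perfect field, square-zero maps of equal rank are conjugate by a map of det 1. -/
theorem squareZero_conj_det_one [CharP F 2] [Finite F] (N M : V →ₗ[F] V) (hN : N ∘ₗ N = 0)
    (hM : M ∘ₗ M = 0) (hr : Module.finrank F (LinearMap.range N) = Module.finrank F (LinearMap.range M))
    (h0 : N ≠ 0) :
    ∃ g : V ≃ₗ[F] V, LinearMap.det g.toLinearMap = 1 ∧ ∀ v, g (N v) = M (g v) := by
  obtain ⟨l, hl⟩ : ∃ l, Module.finrank F (LinearMap.range N) = l := ⟨_, rfl⟩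
  obtain ⟨d, φ, hd, hφ⟩ := exists_squareZero_equiv N hN l hl
  obtain ⟨d', ψ, hd', hψ⟩ := exists_squareZero_equiv M hM l (hr.symm.trans hl)
  obtain rfl : d = d' := by omega
  have hl0 : 0 < l := by
    rw [← hl]
    by_contra h
    apply h0
    rw [← LinearMap.range_eq_bot, ← Submodule.finrank_eq_zero (R := F)]
    omega
  set g0 := φ.symm.trans ψ with hg0
  have hdet0 : LinearMap.det g0.toLinearMap ≠ 0 := (LinearEquiv.isUnit_det' g0).ne_zero
  obtain ⟨s, hs⟩ := (frobeniusEquiv F 2).surjective (LinearMap.det g0.toLinearMap)⁻¹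
  have hs2 : s ^ 2 = (LinearMap.det g0.toLinearMap)⁻¹ := by
    simpa [frobeniusEquiv_def, frobenius_def] using hs
  have hsne : s ≠ 0 := by
    rintro rfl
    rw [zero_pow two_ne_zero, eq_comm, inv_eq_zero] at hs2
    exact hdet0 hs2
  let w : Fin l → F := Function.update (fun _ => (1 : F)) ⟨0, hl0⟩ s
  have hwne : ∀ i, w i ≠ 0 := by
    intro i
    simp only [w, Function.update_apply]
    split_ifs <;> simp [hsne]
  let α : (Fin l → F) ≃ₗ[F] (Fin l → F) := LinearEquiv.piCongrRight fun i =>
    LinearEquiv.smulOfNeZero F F (w i) (hwne i)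
  have hα : LinearMap.det α.toLinearMap = s := by
    have : α.toLinearMap = Matrix.toLin' (Matrix.diagonal w) := by
      ext x i
      simp [α, Matrix.toLin'_apply, Matrix.mulVec_diagonal]
    rw [this, LinearMap.det_toLin', Matrix.det_diagonal]
    rw [Finset.prod_eq_single (⟨0, hl0⟩ : Fin l)]
    · simp [w]
    · intro b _ hb
      simp [w, Function.update_of_ne hb]
    · simp
  let β := α.prodCongr ((LinearEquiv.refl F (Fin d → F)).prodCongr α)
  have hβ : LinearMap.det β.toLinearMap = s ^ 2 := by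
    have : β.toLinearMap = LinearMap.prodMap α.toLinearMap
        (LinearMap.prodMap (LinearMap.id (R := F) (M := Fin d → F)) α.toLinearMap) := rfl
    rw [this, LinearMap.det_prodMap, LinearMap.det_prodMap, hα, LinearMap.det_id]
    ring
  refine ⟨φ.symm.trans (β.trans ψ), ?_, ?_⟩
  · have : (φ.symm.trans (β.trans ψ)).toLinearMap =
        g0.toLinearMap ∘ₗ (φ.toLinearMap ∘ₗ (β.toLinearMap ∘ₗ φ.symm.toLinearMap)) := by
      ext v; simp [g0]
    rw [this, LinearMap.det_comp, LinearMap.det_conj, hβ, hs2, mul_inv_cancel₀ hdet0]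
  · intro v
    obtain ⟨⟨x, y, z⟩, rfl⟩ := φ.surjective v
    rw [hφ]
    simp [β, hψ]

end CfsgLib.KnownSimple
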