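import Mathlib

/-!
Element orders of the extension of the twisted tensor module of `SL(2,3^α)` by that group and a sign.
-/

set_option autoImplicit false

namespace CfsgLib.KnownSimple.TwistedTensor

open Matrix

variable (F : Type) [Field F] [CharP F 3]

local notation "V" => Matrix (Fin 2) (Fin 2) F
local notation "SL" => Matrix.SpecialLinearGroup (Fin 2) F

instance fact_three : Fact (Nat.Prime 3) := ⟨Nat.prime_three⟩

/-- The conjugate matrix under cubing. -/
def cube : Matrix (Fin 2) (Fin 2) F →+* Matrix (Fin 2) (Fin 2) F := (frobenius F 3).mapMatrix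

/-- The action of `SL₂ × {±1}` on two by two matrices. -/
def actFun (p : Matrix.SpecialLinearGroup (Fin 2) F × ℤˣ) (X : Matrix (Fin 2) (Fin 2) F) :
    Matrix (Fin 2) (Fin 2) F :=
  ((p.2 : ℤ) : F) • (p.1.val * X * (cube F p.1.val)ᵀ)

theorem actFun_mul (p r : SL × ℤˣ) (X : V) : actFun F (p * r) X = actFun F p (actFun F r X) := by
  have h : (p * r).1.val = p.1.val * r.1.val := rfl
  simp only [actFun, h, Prod.snd_mul, map_mul,
    Matrix.transpose_mul, Units.val_mul, Int.cast_mul, Matrix.mul_smul, Matrix.smul_mul, smul_smul,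
    Matrix.mul_assoc]

theorem actFun_one (X : V) : actFun F 1 X = X := by simp [actFun]

/-- The action as a homomorphism. -/
def act : Matrix.SpecialLinearGroup (Fin 2) F × ℤˣ →* MulAut (Multiplicative (Matrix (Fin 2) (Fin 2) F)) where
  toFun p :=
    { toFun := fun X => Multiplicative.ofAdd (actFun F p X.toAdd)
      invFun := fun X => Multiplicative.ofAdd (actFun F p⁻¹ X.toAdd)
      left_inv := fun X => by
        show Multiplicative.ofAdd (actFun F p⁻¹ (actFun F p X.toAdd)) = X
        rw [← actFun_mul, inv_mul_cancel, actFun_one]; rfl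
      right_inv := fun X => by
        show Multiplicative.ofAdd (actFun F p (actFun F p⁻¹ X.toAdd)) = X
        rw [← actFun_mul, mul_inv_cancel, actFun_one]; rfl
      map_mul' := fun X Y => by
        simp [actFun, Matrix.mul_add, Matrix.add_mul] }
  map_one' := MulEquiv.ext fun X => by
    show Multiplicative.ofAdd (actFun F 1 X.toAdd) = X
    rw [actFun_one]; rfl
  map_mul' p r := MulEquiv.ext fun X => congrArg Multiplicative.ofAdd (actFun_mul F p r X.toAdd)

/-- The acting group. -/
abbrev Acting : Type := ↥(act F).range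

/-- The extension. -/
abbrev Ext : Type := Multiplicative (Matrix (Fin 2) (Fin 2) F) ⋊[(act F).range.subtype] Acting F

variable {F}

theorem cube_apply (M : V) (i j : Fin 2) : cube F M i j = M i j ^ 3 := rfl

theorem trace_cube (g : SL) : (cube F g.val).trace = g.val.trace ^ 3 := by
  simp only [Matrix.trace_fin_two, cube_apply]
  rw [add_pow_char]

theorem det_cube (g : SL) : (cube F g.val).det = 1 := by
  have h := g.2
  simp only [Matrix.det_fin_two, cube_apply] at h ⊢
  rw [← mul_pow, ← mul_pow, ← sub_pow_char, h, one_pow]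

theorem quad (M : V) (h : M.det = 1) : M * M = M.trace • M - 1 := by
  have h' := Matrix.det_fin_two M
  rw [h] at h'
  ext i j
  fin_cases i <;> fin_cases j <;>
    simp [Matrix.mul_apply, Matrix.trace_fin_two, Fin.sum_univ_two]
  · linear_combination h'
  · ring
  · ring
  · linear_combination h'

theorem intCast_units (e : ℤˣ) : ((e : ℤ) : F) * ((e : ℤ) : F) = 1 := by
  rw [← Int.cast_mul, ← Units.val_mul, Int.units_mul_self, Units.val_one, Int.cast_one]

theorem fixed_eq_zero {p : SL × ℤˣ} (ht : p.1.val.trace ≠ ((p.2 : ℤ) : F) * p.1.val.trace ^ 3)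
    {X : V} (hX : actFun F p X = X) : X = 0 := by
  set e : F := ((p.2 : ℤ) : F) with he
  set g := p.1.val with hg
  set h := cube F g with hh
  have hee : e * e = 1 := intCast_units p.2
  have hAB : g * X * hᵀ = e • X := by
    have := congrArg (fun Y => e • Y) hX
    simpa [actFun, smul_smul, ← he, hee] using this
  have hg2 : g * g = g.trace • g - 1 := quad g p.1.2
  have hh2 : hᵀ * hᵀ = (g.trace ^ 3) • hᵀ - 1 := by
    rw [quad hᵀ (by rw [Matrix.det_transpose]; exact det_cube p.1), Matrix.trace_transpose, hh, hg,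
      trace_cube]
  have h1 : e • (g * X) + X * hᵀ = (g.trace * e) • X := by
    have h : g * (g * X * hᵀ) = e • (g * X) := by rw [hAB, Matrix.mul_smul]
    rw [← h, ← Matrix.mul_assoc, ← Matrix.mul_assoc, hg2, Matrix.sub_mul, Matrix.sub_mul,
      Matrix.one_mul, Matrix.smul_mul, Matrix.smul_mul, hAB, smul_smul]
    abel
  have h2 : g * X + e • (X * hᵀ) = (g.trace ^ 3 * e) • X := by
    have h : g * X * hᵀ * hᵀ = e • (X * hᵀ) := by rw [hAB, Matrix.smul_mul]
    rw [← h, Matrix.mul_assoc (g * X), hh2, Matrix.mul_sub, Matrix.mul_smul, Matrix.mul_one, hAB,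
      smul_smul]
    abel
  have h3 : e • (g * X) + X * hᵀ = (g.trace ^ 3) • X := by
    have := congrArg (fun Y => e • Y) h2
    simp only [smul_add, smul_smul, hee, one_smul] at this
    rw [this, mul_left_comm, hee, mul_one]
  have h4 : (g.trace * e - g.trace ^ 3) • X = 0 := by rw [sub_smul, ← h1, ← h3, sub_self]
  refine (smul_eq_zero.1 h4).resolve_left fun h0 => ht ?_
  linear_combination e * h0 - g.trace * hee

theorem orderOf_eq_of_fixed_free [Finite F] (x : Ext F) {p : SL × ℤˣ} (hp : act F p = x.right.1)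
    (hfree : ∀ X : V, actFun F p X = X → X = 0) : orderOf x = orderOf x.right := by
  let d : V →+ V :=
    { toFun := fun X => actFun F p X - X
      map_zero' := by simp [actFun]
      map_add' := fun X Y => by simp [actFun, Matrix.mul_add, Matrix.add_mul]; abel }
  have hinj : Function.Injective d := (injective_iff_map_eq_zero d).2 fun X h =>
    hfree X (sub_eq_zero.1 h)
  obtain ⟨W, hW⟩ := (Finite.injective_iff_surjective.1 hinj) x.left.toAdd
  have hx : x = SemidirectProduct.inl (Multiplicative.ofAdd (-W)) * SemidirectProduct.inr x.right *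
      (SemidirectProduct.inl (Multiplicative.ofAdd (-W)))⁻¹ := by
    ext1
    · simp only [SemidirectProduct.mul_left, SemidirectProduct.inv_left, SemidirectProduct.left_inl,
        SemidirectProduct.right_inl, SemidirectProduct.left_inr, SemidirectProduct.right_inr,
        SemidirectProduct.mul_right, inv_one, map_one, MulAut.one_apply, one_mul, mul_one]
      apply Multiplicative.toAdd.injective
      have : ∀ Z, ((act F).range.subtype x.right) (Multiplicative.ofAdd Z) =
          Multiplicative.ofAdd (actFun F p Z) := fun Z => by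
        show x.right.1 (Multiplicative.ofAdd Z) = _
        rw [← hp]; rfl
      rw [← ofAdd_neg, neg_neg, this]
      show x.left.toAdd = -W + actFun F p W
      rw [← hW]
      show actFun F p W - W = _
      abel
    · simp
  conv_lhs => rw [hx]
  rw [show ∀ a b : Ext F, orderOf (a * b * a⁻¹) = orderOf b from fun a b =>
    orderOf_injective (MulAut.conj a).toMonoidHom (MulAut.conj a).injective b]
  exact orderOf_injective _ SemidirectProduct.inr_injective _

theorem three_nsmul_eq_zero (X : V) : 3 • X = 0 := by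
  ext i j
  rw [Matrix.smul_apply, nsmul_eq_mul, CharP.cast_eq_zero F 3, zero_mul]
  rfl

theorem pow_three_mul_eq_one (x : Ext F) {n : ℕ} (h : x.right ^ n = 1) : x ^ (n * 3) = 1 := by
  rw [pow_mul]
  obtain ⟨v, hv⟩ : ∃ v, x ^ n = SemidirectProduct.inl v := by
    refine ⟨(x ^ n).left, SemidirectProduct.ext rfl ?_⟩
    rw [SemidirectProduct.right_inl, ← h]
    exact map_pow SemidirectProduct.rightHom x n
  rw [hv, ← map_pow]
  refine (map_eq_one_iff _ SemidirectProduct.inl_injective).2 (Multiplicative.toAdd.injective ?_)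
  exact three_nsmul_eq_zero v.toAdd

theorem act_neg_one : act F (-1, 1) = 1 := MulEquiv.ext fun X => by
  show Multiplicative.ofAdd (actFun F (-1, 1) X.toAdd) = X
  simp [actFun, map_neg]

theorem act_of_neg_one_pow {p : SL × ℤˣ} {n : ℕ} (hn : Even n) (h : p.1 ^ n = 1 ∨ p.1 ^ n = -1) :
    act F p ^ n = 1 := by
  rw [← map_pow]
  have h2 : p.2 ^ n = 1 := by
    obtain ⟨k, rfl⟩ := hn
    rw [← two_mul, pow_mul, sq, Int.units_mul_self, one_pow]
  rcases h with h | h
  · rw [show p ^ n = 1 from Prod.ext h h2, map_one]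
  · rw [show p ^ n = (-1, 1) from Prod.ext h h2, act_neg_one]

theorem eq_scalar_of_act_eq_one {g : SL} {e : ℤˣ} (h : act F (g, e) = 1) :
    g.val 0 1 = 0 ∧ g.val 1 0 = 0 ∧ g.val 0 0 * g.val 0 0 ^ 3 = ((e : ℤ) : F) ∧
      g.val 1 1 * g.val 1 1 ^ 3 = ((e : ℤ) : F) ∧ g.val 0 0 * g.val 1 1 ^ 3 = ((e : ℤ) : F) ∧
      g.val 0 0 * g.val 1 1 = 1 := by
  have hX : ∀ X : V, ((e : ℤ) : F) • (g.val * X * (cube F g.val)ᵀ) = X := fun X =>
    congrArg Multiplicative.toAdd (DFunLike.congr_fun h (Multiplicative.ofAdd X))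
  have hee := intCast_units (F := F) e
  have hent : ∀ i j k l : Fin 2, g.val i k * g.val j l ^ 3 =
      if i = k ∧ j = l then ((e : ℤ) : F) else 0 := by
    intro i j k l
    have hs : (g.val * Matrix.single k l (1 : F) * (cube F g.val)ᵀ) i j = g.val i k * g.val j l ^ 3 := by
      fin_cases k <;> fin_cases l <;>
        simp [Matrix.mul_apply, cube_apply, Matrix.single, Fin.sum_univ_two]
    have := congrFun (congrFun (hX (Matrix.single k l 1)) i) j
    rw [Matrix.smul_apply, hs, smul_eq_mul] at this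
    have h2 : g.val i k * g.val j l ^ 3 = ((e : ℤ) : F) * Matrix.single k l (1 : F) i j := by
      rw [← this, ← mul_assoc, hee, one_mul]
    rw [h2, Matrix.single_apply]
    by_cases hc : i = k ∧ j = l
    · rw [if_pos ⟨hc.1.symm, hc.2.symm⟩, if_pos hc, mul_one]
    · rw [if_neg fun h => hc ⟨h.1.symm, h.2.symm⟩, if_neg hc, mul_zero]
  have h00 := hent 0 0 0 0
  have h11 := hent 1 1 1 1
  have h01 := hent 0 1 0 1
  simp only [and_self, if_true] at h00 h11 h01
  have hne : ((e : ℤ) : F) ≠ 0 := fun h0 => by simp [h0] at hee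
  have g00 : g.val 0 0 ≠ 0 := fun h0 => hne (by rw [← h00, h0, zero_mul])
  have g11 : g.val 1 1 ≠ 0 := fun h0 => hne (by rw [← h11, h0, zero_mul])
  have a := hent 0 0 1 0
  have b := hent 1 1 0 1
  simp [g00, g11] at a b
  have hd := g.2
  rw [Matrix.det_fin_two, a, zero_mul, sub_zero] at hd
  exact ⟨a, b, h00, h11, h01, hd⟩

variable [Fintype F]

theorem pow_card_pm {g : SL} (ht : g.val.trace ^ 2 ≠ 4) :
    g ^ (Fintype.card F - 1) = 1 ∨ g ^ (Fintype.card F + 1) = 1 := by
  classical
  let K := AlgebraicClosure F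
  let ι := algebraMap F K
  set t := g.val.trace with htdef
  obtain ⟨a, ha⟩ := IsAlgClosed.exists_root (Polynomial.X ^ 2 - Polynomial.C (ι t) * Polynomial.X + 1 : Polynomial K)
    (by
      have : (Polynomial.X ^ 2 - Polynomial.C (ι t) * Polynomial.X + 1 : Polynomial K).natDegree = 2 := by
        compute_degree!
      intro h0
      rw [Polynomial.natDegree_eq_of_degree_eq_some (n := 0) h0] at this
      exact absurd this (by norm_num))
  simp only [Polynomial.IsRoot, Polynomial.eval_add, Polynomial.eval_sub, Polynomial.eval_pow,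
    Polynomial.eval_X, Polynomial.eval_mul, Polynomial.eval_C, Polynomial.eval_one] at ha
  have ha0 : a ≠ 0 := fun h => by simp [h] at ha
  have hsum : a + a⁻¹ = ι t := by
    rw [inv_eq_of_mul_eq_one_right (b := ι t - a) (by linear_combination -ha)]
    ring
  have hne : a ≠ a⁻¹ := by
    intro h
    refine ht (ι.injective ?_)
    rw [map_pow, ← hsum, ← h, map_ofNat]
    have : a * a = 1 := by nth_rewrite 2 [h]; exact mul_inv_cancel₀ ha0
    linear_combination 4 * this
  set q := Fintype.card F with hq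
  haveI : Fact (Nat.Prime 3) := ⟨Nat.prime_three⟩
  obtain ⟨m, -, hm⟩ := FiniteField.card F 3
  have hfix : (ι t) ^ q = ι t := by rw [← map_pow, hq, FiniteField.pow_card]
  have haq : a ^ q = a ∨ a ^ q = a⁻¹ := by
    have h' : a ^ q + (a ^ q)⁻¹ = a + a⁻¹ := by
      rw [← inv_pow, show q = 3 ^ (m : ℕ) from hm, ← add_pow_char_pow, hsum,
        ← show q = 3 ^ (m : ℕ) from hm, hfix]
    have haq0 : a ^ q ≠ 0 := pow_ne_zero _ ha0
    have : (a ^ q - a) * (a ^ q - a⁻¹) = 0 := by
      linear_combination a ^ q * h' + mul_inv_cancel₀ ha0 - mul_inv_cancel₀ haq0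
    rcases mul_eq_zero.1 this with h | h
    · exact Or.inl (sub_eq_zero.1 h)
    · exact Or.inr (sub_eq_zero.1 h)
  have key : ∀ n : ℕ, a ^ n = 1 → g ^ n = 1 := by
    intro n hn
    let M : Matrix (Fin 2) (Fin 2) K := ι.mapMatrix g.val
    have hM : Polynomial.aeval M ((Polynomial.X - Polynomial.C a) * (Polynomial.X - Polynomial.C a⁻¹)) = 0 := by
      have hq2 : M * M = ι t • M - 1 := by
        show ι.mapMatrix g.val * ι.mapMatrix g.val = _
        rw [← map_mul, quad g.val g.2, map_sub, map_one]
        congr 1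
        ext i j
        simp [M, htdef]
      simp only [map_mul, map_sub, Polynomial.aeval_X, Polynomial.aeval_C, Algebra.algebraMap_eq_smul_one]
      simp only [sub_mul, mul_sub, Matrix.mul_smul, Matrix.smul_mul, Matrix.mul_one, Matrix.one_mul,
        smul_smul, hq2, mul_inv_cancel₀ ha0, inv_mul_cancel₀ ha0, one_smul, ← hsum, add_smul]
      abel
    have hdvd : (Polynomial.X - Polynomial.C a) * (Polynomial.X - Polynomial.C a⁻¹) ∣
        (Polynomial.X ^ n - 1 : Polynomial K) := by
      refine IsCoprime.mul_dvd (Polynomial.isCoprime_X_sub_C_of_isUnit_sub (sub_ne_zero.2 hne).isUnit) ?_ ?_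
      · exact Polynomial.dvd_iff_isRoot.2 (by simp [Polynomial.IsRoot, hn])
      · exact Polynomial.dvd_iff_isRoot.2 (by simp [Polynomial.IsRoot, inv_pow, hn])
    obtain ⟨c, hc⟩ := hdvd
    have h1 := congrArg (Polynomial.aeval M) hc
    rw [map_mul (Polynomial.aeval M) _ c, hM, zero_mul, map_sub, map_pow, Polynomial.aeval_X,
      map_one, sub_eq_zero, ← map_pow] at h1
    refine Subtype.ext (Matrix.map_injective ι.injective ?_)
    show ι.mapMatrix (g ^ n).val = ι.mapMatrix (1 : SL).val
    exact ((congrArg ι.mapMatrix (Matrix.SpecialLinearGroup.coe_pow g n)).trans h1).trans (map_one ι.mapMatrix).symm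
  rcases haq with h | h
  · refine Or.inl (key _ ?_)
    have : a ^ (q - 1) * a = a := by rw [← pow_succ, Nat.sub_add_cancel Fintype.card_pos, h]
    exact mul_eq_right₀ ha0 |>.1 this
  · exact Or.inr (key _ (by rw [pow_succ, h, inv_mul_cancel₀ ha0]))

theorem trace_sq_ne_neg_one {q : ℕ} (hq : Fintype.card F = q) (h4 : q % 4 = 3) (x : F) : x ^ 2 ≠ -1 :=
  fun h => by
    have := FiniteField.isSquare_neg_one_iff.1 ⟨x, by rw [← h, sq]⟩
    rw [hq] at this
    exact this h4

theorem two_eq_neg_one : (2 : F) = -1 := by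
  have h : ((3 : ℕ) : F) = 0 := CharP.cast_eq_zero F 3
  linear_combination (norm := (push_cast; ring)) h

theorem orders_dvd {q : ℕ} (hq : Fintype.card F = q) (h4 : q % 4 = 3) (x : Ext F) :
    orderOf x ∣ 6 ∨ orderOf x ∣ 9 ∨ orderOf x ∣ q - 1 ∨ orderOf x ∣ (q + 1) / 2 := by
  obtain ⟨⟨g, e⟩, hp⟩ := x.right.2
  set t := g.val.trace with htdef
  have hq2 : g.val * g.val = t • g.val - 1 := quad g.val g.2
  by_cases ht0 : t = 0
  · left
    refine orderOf_dvd_of_pow_eq_one (pow_three_mul_eq_one x (n := 2) (Subtype.ext ?_))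
    rw [SubgroupClass.coe_pow, ← hp]
    refine act_of_neg_one_pow (p := (g, e)) even_two (Or.inr (Subtype.ext ?_))
    show g.val ^ 2 = ((-1 : SL) : V)
    rw [sq, hq2, ht0, zero_smul, zero_sub]
    rfl
  by_cases ht1 : t ^ 2 = 1
  · have h6 : g ^ 3 = 1 ∨ g ^ 3 = -1 := by
      have h3 : g.val ^ 3 = (-t) • (1 : V) := by
        rw [pow_succ, sq, hq2, Matrix.sub_mul, Matrix.one_mul, Matrix.smul_mul, hq2, smul_sub,
          smul_smul, ← sq, ht1, one_smul, neg_smul]
        abel
      rcases sq_eq_one_iff.1 ht1 with ht | ht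
      · exact Or.inr (Subtype.ext (show g.val ^ 3 = ((-1 : SL) : V) by rw [h3, ht]; simp))
      · exact Or.inl (Subtype.ext (show g.val ^ 3 = ((1 : SL) : V) by rw [h3, ht]; simp))
    by_cases he : e = 1
    · right; left
      refine orderOf_dvd_of_pow_eq_one (pow_three_mul_eq_one x (n := 3) (Subtype.ext ?_))
      rw [SubgroupClass.coe_pow, ← hp, ← map_pow, he]
      rcases h6 with h | h
      · rw [show ((g, 1) : SL × ℤˣ) ^ 3 = 1 from Prod.ext h (one_pow _), map_one]; rfl
      · rw [show ((g, 1) : SL × ℤˣ) ^ 3 = (-1, 1) from Prod.ext h (one_pow _), act_neg_one]; rfl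
    · left
      have he' : e = -1 := (Int.units_eq_one_or e).resolve_left he
      have hfree : ∀ X : V, actFun F (g, e) X = X → X = 0 := fun X => fixed_eq_zero (by
        subst he'
        simp only [Units.val_neg, Units.val_one, Int.cast_neg, Int.cast_one]
        intro h
        have h3 : (2 : F) * t = 0 := by
          linear_combination h - t * ht1
        rw [two_eq_neg_one] at h3
        simp [ht0] at h3)
      rw [orderOf_eq_of_fixed_free x hp hfree]
      refine orderOf_dvd_of_pow_eq_one (Subtype.ext ?_)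
      rw [SubgroupClass.coe_pow, ← hp]
      refine act_of_neg_one_pow (p := (g, e)) (by decide) ?_
      rw [show (6 : ℕ) = 3 * 2 from rfl, pow_mul]
      rcases h6 with h | h <;> left <;> rw [h] <;> simp
  have hfree : ∀ X : V, actFun F (g, e) X = X → X = 0 := fun X => fixed_eq_zero (by
    intro h
    have hz : t * (((e : ℤ) : F) * t ^ 2 - 1) = 0 := by linear_combination -h
    have h2 := (mul_eq_zero.1 hz).resolve_left ht0
    rcases Int.units_eq_one_or e with rfl | rfl
    · exact ht1 (by simpa [sub_eq_zero] using h2)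
    · refine trace_sq_ne_neg_one hq h4 t ?_
      simp only [Units.val_neg, Units.val_one, Int.cast_neg, Int.cast_one] at h2
      linear_combination -h2)
  rw [orderOf_eq_of_fixed_free x hp hfree]
  have ht4 : t ^ 2 ≠ 4 := by
    rw [show (4 : F) = 2 * 2 by norm_num, two_eq_neg_one]
    simpa using ht1
  have hev : Even ((q + 1) / 2) := by rw [Nat.even_iff]; omega
  rcases pow_card_pm ht4 with h | h <;> rw [hq] at h
  · right; right; left
    refine orderOf_dvd_of_pow_eq_one (Subtype.ext ?_)
    rw [SubgroupClass.coe_pow, ← hp]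
    exact act_of_neg_one_pow (p := (g, e)) (by rw [Nat.even_iff]; omega) (Or.inl h)
  · right; right; right
    refine orderOf_dvd_of_pow_eq_one (Subtype.ext ?_)
    rw [SubgroupClass.coe_pow, ← hp]
    refine act_of_neg_one_pow (p := (g, e)) hev ?_
    have hsq : (g ^ ((q + 1) / 2)) * (g ^ ((q + 1) / 2)) = 1 := by
      rw [← pow_add, show (q + 1) / 2 + (q + 1) / 2 = q + 1 by omega, h]
    set w := g ^ ((q + 1) / 2) with hw
    have hwq := quad w.val w.2
    rw [show w.val * w.val = 1 from congrArg Subtype.val hsq] at hwq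
    have h2w : (2 : F) • (1 : V) = w.val.trace • w.val := by
      rw [two_smul]
      nth_rewrite 1 [hwq]
      abel
    have hne : w.val.trace ≠ 0 := by
      intro h0
      rw [h0, zero_smul, two_eq_neg_one] at h2w
      simpa using congrFun (congrFun h2w 0) 0
    have hw1 : w.val = ((2 : F) / w.val.trace) • (1 : V) := by
      rw [div_eq_inv_mul, mul_smul, h2w, smul_smul, inv_mul_cancel₀ hne, one_smul]
    have hc : ((2 : F) / w.val.trace) ^ 2 = 1 := by
      have hd := w.2
      rw [hw1, Matrix.det_smul, Matrix.det_one, mul_one, Fintype.card_fin] at hd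
      exact hd
    rcases sq_eq_one_iff.1 hc with h1 | h1
    · exact Or.inl (Subtype.ext (by rw [hw1, h1, one_smul]; rfl))
    · exact Or.inr (Subtype.ext (by rw [hw1, h1]; simp))

theorem exists_order_six : ∃ x : Ext F, orderOf x = 6 := by
  let u : SL := ⟨!![1, 1; 0, 1], by simp [Matrix.det_fin_two_of]⟩
  have hu3 : u ^ 3 = 1 := Subtype.ext (by
    show (!![1, 1; 0, 1] : V) ^ 3 = 1
    have h3 : ((3 : ℕ) : F) = 0 := CharP.cast_eq_zero F 3
    ext i j
    fin_cases i <;> fin_cases j <;> simp [pow_succ, Matrix.mul_apply, Fin.sum_univ_two]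
    linear_combination (norm := (push_cast; ring)) h3)
  refine ⟨SemidirectProduct.inr ⟨act F (u, -1), ⟨_, rfl⟩⟩, ?_⟩
  rw [orderOf_injective _ SemidirectProduct.inr_injective]
  rw [orderOf_eq_iff (by norm_num)]
  have hp6 : ∀ n : ℕ, (⟨act F (u, -1), ⟨_, rfl⟩⟩ : Acting F) ^ n = 1 ↔ act F (u ^ n, (-1) ^ n) = 1 := by
    intro n
    rw [← Subtype.coe_inj, SubgroupClass.coe_pow, ← map_pow]
    rfl
  refine ⟨(hp6 6).2 ?_, fun m hm hm0 h1 => ?_⟩
  · rw [show u ^ 6 = 1 by rw [show 6 = 3 * 2 from rfl, pow_mul, hu3, one_pow]]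
    exact map_one _
  · obtain ⟨a, b, c, -⟩ := eq_scalar_of_act_eq_one ((hp6 m).1 h1)
    have hm3 : m = 3 := by
      have : ∀ m : ℕ, (u ^ m).val = !![1, (m : F); 0, 1] := by
        intro m
        induction m with
        | zero => ext i j; fin_cases i <;> fin_cases j <;> simp
        | succ m ih =>
          rw [pow_succ, Matrix.SpecialLinearGroup.coe_mul, ih]
          ext i j
          fin_cases i <;> fin_cases j <;> simp [u, Matrix.mul_apply, Fin.sum_univ_two, add_comm]
      rw [this m] at a
      simp at a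
      have := (CharP.cast_eq_zero_iff F 3 m).1 a
      omega
    subst hm3
    rw [hu3] at c
    simp at c
    exact absurd c (fun h => by
      have h2 : (2 : F) = 0 := by linear_combination h
      rw [two_eq_neg_one] at h2
      simp at h2)

theorem exists_order_nine : ∃ x : Ext F, orderOf x = 9 := by
  let u : SL := ⟨!![1, 1; 0, 1], by simp [Matrix.det_fin_two_of]⟩
  refine ⟨⟨Multiplicative.ofAdd (Matrix.single 1 1 1), ⟨act F (u, 1), ⟨_, rfl⟩⟩⟩, ?_⟩
  haveI : Fact (Nat.Prime 3) := ⟨Nat.prime_three⟩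
  set x : Ext F := ⟨Multiplicative.ofAdd (Matrix.single 1 1 1), ⟨act F (u, 1), ⟨_, rfl⟩⟩⟩ with hx
  have hr : x.right ^ 3 = 1 := Subtype.ext (by
    rw [SubgroupClass.coe_pow]
    show act F (u, 1) ^ 3 = 1
    rw [← map_pow]
    have : ((u, 1) : SL × ℤˣ) ^ 3 = 1 := Prod.ext (Subtype.ext (by
      show (!![1, 1; 0, 1] : V) ^ 3 = 1
      have h3 : ((3 : ℕ) : F) = 0 := CharP.cast_eq_zero F 3
      ext i j
      fin_cases i <;> fin_cases j <;> simp [pow_succ, Matrix.mul_apply, Fin.sum_univ_two]
      linear_combination (norm := (push_cast; ring)) h3)) (one_pow _)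
    rw [this, map_one])
  have h := orderOf_eq_prime_pow (G := Ext F) (x := x) (p := 3) (n := 1) ?_ ?_
  · exact h
  · intro h
    rw [pow_one, pow_succ, pow_two] at h
    have hl : (x * x * x).left.toAdd = Matrix.single 1 1 1 + actFun F (u, 1) (Matrix.single 1 1 1) +
        actFun F (u, 1) (actFun F (u, 1) (Matrix.single 1 1 1)) := rfl
    have h' := congrArg (fun M : V => M 0 0) (hl.symm.trans (congrArg (fun y : Ext F => y.left.toAdd) h))
    have hE : (Matrix.single 1 1 1 : V) = !![0, 0; 0, 1] := by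
      ext i j; fin_cases i <;> fin_cases j <;> simp
    rw [hE] at h'
    simp [actFun, u, cube, frobenius_def, Matrix.vecMul, dotProduct, Fin.sum_univ_two, Matrix.vecHead,
      Matrix.map_apply, Matrix.transpose_apply] at h'
    have h2 : (2 : F) = 0 := by
      have h3 : ((3 : ℕ) : F) = 0 := CharP.cast_eq_zero F 3
      linear_combination (norm := (push_cast; ring)) h' - h3
    rw [two_eq_neg_one] at h2
    simp at h2
  · exact pow_three_mul_eq_one x hr

theorem exists_order_pred {q : ℕ} (hq : Fintype.card F = q) (h4 : q % 4 = 3) :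
    ∃ x : Ext F, orderOf x = q - 1 := by
  classical
  obtain ⟨a, ha⟩ := IsCyclic.exists_generator (α := Fˣ)
  have hord : orderOf a = q - 1 := by
    rw [orderOf_eq_card_of_forall_mem_zpowers ha, Nat.card_eq_fintype_card, Fintype.card_units, hq]
  let d : SL := ⟨!![(a : F), 0; 0, ((a⁻¹ : Fˣ) : F)], by simp [Matrix.det_fin_two_of]⟩
  refine ⟨SemidirectProduct.inr ⟨act F (d, -1), ⟨_, rfl⟩⟩, ?_⟩
  rw [orderOf_injective _ SemidirectProduct.inr_injective]
  have hdn : ∀ n : ℕ, (d ^ n).val = !![((a ^ n : Fˣ) : F), 0; 0, (((a⁻¹) ^ n : Fˣ) : F)] := by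
    intro n
    induction n with
    | zero => ext i j; fin_cases i <;> fin_cases j <;> simp
    | succ n ih =>
      rw [pow_succ, Matrix.SpecialLinearGroup.coe_mul, ih]
      ext i j
      fin_cases i <;> fin_cases j <;> simp [d, Matrix.mul_apply, Fin.sum_univ_two, pow_succ]
  have hev : Even (q - 1) := by rw [Nat.even_iff]; omega
  refine Nat.dvd_antisymm (orderOf_dvd_of_pow_eq_one (Subtype.ext ?_)) ?_
  · rw [SubgroupClass.coe_pow]
    refine act_of_neg_one_pow (p := (d, -1)) hev (Or.inl (Subtype.ext ?_))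
    rw [hdn, inv_pow, ← hord, pow_orderOf_eq_one, inv_one]
    ext i j; fin_cases i <;> fin_cases j <;> simp
  · set n := orderOf (⟨act F (d, -1), ⟨_, rfl⟩⟩ : Acting F) with hn
    have h : act F (d ^ n, (-1) ^ n) = 1 := by
      have := congrArg Subtype.val (pow_orderOf_eq_one (⟨act F (d, -1), ⟨_, rfl⟩⟩ : Acting F))
      rwa [SubgroupClass.coe_pow, ← hn, ← map_pow] at this
    obtain ⟨-, -, h00, -, h01, hd⟩ := eq_scalar_of_act_eq_one h
    rw [hdn] at h00 h01 hd
    simp at h00 h01 hd
    set c : F := ((a : F) ^ n) with hc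
    set s : F := (-1 : F) ^ n with hs
    have hc0 : c ≠ 0 := by simp [hc]
    have hcsq : c ^ 2 = s ∨ c ^ 2 = 1 := by
      left
      have : c * (c⁻¹) ^ 3 = s := by simpa [hc, inv_pow] using h01
      have h' : c ^ 4 * (c * c⁻¹ ^ 3) = c ^ 2 := by field_simp
      have h00' : c * c ^ 3 = s := h00
      rw [this, show c ^ 4 = s by rw [← h00']; ring] at h'
      have hss : s * s = 1 := by rw [hs, ← mul_pow]; norm_num
      have : c ^ 2 = 1 := by rw [← h', hss]
      have hs1 : s = 1 := by rw [← h00', show c * c ^ 3 = (c ^ 2) ^ 2 by ring, this, one_pow]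
      rw [this, hs1]
    have hc1 : c ^ 2 = 1 ∧ s = 1 := by
      have hss : s * s = 1 := by rw [hs, ← mul_pow]; norm_num
      have h00' : c * c ^ 3 = s := h00
      rcases hcsq with h | h
      · have hs1 : s = 1 := by rw [← h00', show c * c ^ 3 = (c ^ 2) ^ 2 by ring, h, sq, hss]
        exact ⟨h.trans hs1, hs1⟩
      · exact ⟨h, by rw [← h00', show c * c ^ 3 = (c ^ 2) ^ 2 by ring, h, one_pow]⟩
    have hne : ((-1 : ℤ) : F) ≠ 1 := by
      intro h
      have h2 : (2 : F) = 0 := by push_cast at h; linear_combination -h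
      rw [two_eq_neg_one] at h2
      simp at h2
    have heven : Even n := by
      by_contra ho
      rw [Nat.not_even_iff_odd] at ho
      have := hc1.2
      rw [hs, ho.neg_one_pow] at this
      exact hne (by simpa using this)
    have h2n : q - 1 ∣ n * 2 := by
      rw [← hord, orderOf_dvd_iff_pow_eq_one, pow_mul]
      exact Units.ext (by simpa [hc] using hc1.1)
    obtain ⟨k, hk⟩ := heven
    have hhalf : (q - 1) / 2 ∣ n := by
      refine Nat.dvd_of_mul_dvd_mul_right (by norm_num : 0 < 2) ?_
      rwa [Nat.div_mul_cancel (by omega)]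
    have hco : Nat.Coprime 2 ((q - 1) / 2) := by
      rw [Nat.coprime_two_left, Nat.odd_iff]; omega
    have h2 : 2 ∣ n := ⟨k, by omega⟩
    have := hco.mul_dvd_of_dvd_of_dvd h2 hhalf
    rwa [Nat.mul_div_cancel' (by omega)] at this

theorem exists_order_half {q : ℕ} (hq : Fintype.card F = q) (h4 : q % 4 = 3) :
    ∃ x : Ext F, orderOf x = (q + 1) / 2 := by
  classical
  let K := AlgebraicClosure F
  let ι := algebraMap F K
  haveI : Fact (Nat.Prime 3) := ⟨Nat.prime_three⟩
  obtain ⟨m, -, hm⟩ := FiniteField.card F 3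
  have h3 : ¬ 3 ∣ q + 1 := by
    rw [← hq, hm]
    intro h
    have := Nat.dvd_sub h (dvd_pow_self 3 m.ne_zero)
    simp at this
  have hne : NeZero ((q + 1 : ℕ) : K) := ⟨fun h => h3 ((CharP.cast_eq_zero_iff K 3 _).1 h)⟩
  obtain ⟨b, hb⟩ := HasEnoughRootsOfUnity.exists_primitiveRoot K (q + 1)
  have hb0 : b ≠ 0 := hb.ne_zero (by omega)
  have hbq : b ^ q = b⁻¹ := eq_inv_of_mul_eq_one_left (by rw [← pow_succ, hb.pow_eq_one])
  obtain ⟨s, hs⟩ : b + b⁻¹ ∈ Set.range ι := by
    have hfix : (b + b⁻¹) ^ q = b + b⁻¹ := by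
      rw [← hq, hm, add_pow_char_pow, ← hm, hq, inv_pow, hbq, inv_inv, add_comm]
    by_contra hnot
    let P : Polynomial K := Polynomial.X ^ q - Polynomial.X
    have hP : P ≠ 0 := FiniteField.X_pow_card_sub_X_ne_zero K (by omega)
    let S : Finset K := insert (b + b⁻¹) (Finset.univ.image ι)
    have hS : S.card = q + 1 := by
      rw [Finset.card_insert_of_notMem (by simpa using hnot),
        Finset.card_image_of_injective _ ι.injective, Finset.card_univ, hq]
    have hroot : ∀ x ∈ S, P.IsRoot x := by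
      intro x hx
      simp only [P, Polynomial.IsRoot, Polynomial.eval_sub, Polynomial.eval_pow, Polynomial.eval_X,
        sub_eq_zero]
      rcases Finset.mem_insert.1 hx with rfl | hx
      · exact hfix
      · obtain ⟨y, -, rfl⟩ := Finset.mem_image.1 hx
        rw [← map_pow, ← hq, FiniteField.pow_card]
    have hle : S ⊆ P.roots.toFinset := fun x hx =>
      Multiset.mem_toFinset.2 ((Polynomial.mem_roots hP).2 (hroot x hx))
    have := ((Finset.card_le_card hle).trans (Multiset.toFinset_card_le _)).trans (Polynomial.card_roots' P)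
    rw [hS, FiniteField.X_pow_card_sub_X_natDegree_eq K (by omega)] at this
    omega
  let g : SL := ⟨!![0, -1; 1, s], by simp [Matrix.det_fin_two_of]⟩
  have heig : ∀ n : ℕ, Matrix.vecMul ![1, b] ((g ^ n).val.map ι) = b ^ n • ![1, b] := by
    intro n
    induction n with
    | zero => simp
    | succ n ih =>
      rw [pow_succ, Matrix.SpecialLinearGroup.coe_mul, Matrix.map_mul, ← Matrix.vecMul_vecMul, ih,
        Matrix.smul_vecMul, pow_succ, ← smul_smul]
      congr 1
      ext i
      fin_cases i
      · simp [g, Matrix.vecMul, dotProduct, Fin.sum_univ_two]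
      · simp [g, Matrix.vecMul, dotProduct, Fin.sum_univ_two, hs]
        linear_combination mul_inv_cancel₀ hb0
  refine ⟨SemidirectProduct.inr ⟨act F (g, 1), ⟨_, rfl⟩⟩, ?_⟩
  rw [orderOf_injective _ SemidirectProduct.inr_injective]
  refine Nat.dvd_antisymm (orderOf_dvd_of_pow_eq_one (Subtype.ext ?_)) ?_
  · rw [SubgroupClass.coe_pow]
    refine act_of_neg_one_pow (p := (g, 1)) (by rw [Nat.even_iff]; omega) (Or.inr ?_)
    have ht : g.val.trace ^ 2 ≠ 4 := by
      intro h
      have h' := congrArg ι h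
      simp [g, Matrix.trace_fin_two, hs] at h'
      have : (b - b⁻¹) ^ 2 = 0 := by
        rw [map_ofNat] at h'
        linear_combination h' - 4 * mul_inv_cancel₀ hb0
      have hb2 : b ^ 2 = 1 := by
        have := (pow_eq_zero_iff (by norm_num)).1 this
        rw [sub_eq_zero] at this
        rw [sq]; nth_rewrite 2 [this]; exact mul_inv_cancel₀ hb0
      have := Nat.le_of_dvd (by norm_num) ((hb.pow_eq_one_iff_dvd 2).1 hb2)
      omega
    set w := g ^ ((q + 1) / 2) with hw
    have hwb : b ^ ((q + 1) / 2) = -1 := by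
      have hsq : (b ^ ((q + 1) / 2)) ^ 2 = 1 := by
        rw [← pow_mul, Nat.div_mul_cancel (by omega), hb.pow_eq_one]
      refine (sq_eq_one_iff.1 hsq).resolve_left fun h => ?_
      have := Nat.le_of_dvd (by omega) ((hb.pow_eq_one_iff_dvd _).1 h)
      omega
    have hpw : g ^ (q + 1) = 1 := by
      rcases pow_card_pm ht with h | h
      · exfalso
        have := heig (Fintype.card F - 1)
        rw [h, Matrix.SpecialLinearGroup.coe_one, Matrix.map_one _ (map_zero _) (map_one _),
          Matrix.vecMul_one] at this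
        have h0 := congrFun this 0
        simp at h0
        have := Nat.le_of_dvd (by omega) ((hb.pow_eq_one_iff_dvd _).1 h0.symm)
        omega
      · rwa [hq] at h
    have hsq : w * w = 1 := by
      rw [← pow_add, show (q + 1) / 2 + (q + 1) / 2 = q + 1 by omega, hpw]
    have hwq := quad w.val w.2
    rw [show w.val * w.val = 1 from congrArg Subtype.val hsq] at hwq
    have hh := heig ((q + 1) / 2)
    rw [← hw, hwb] at hh
    have h2w : (2 : F) • (1 : V) = w.val.trace • w.val := by
      rw [two_smul]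
      nth_rewrite 1 [hwq]
      abel
    have htr0 : w.val.trace ≠ 0 := by
      intro h0
      rw [h0, zero_smul, two_eq_neg_one] at h2w
      simpa using congrFun (congrFun h2w 0) 0
    have hw1 : w.val = ((2 : F) / w.val.trace) • (1 : V) := by
      rw [div_eq_inv_mul, mul_smul, h2w, smul_smul, inv_mul_cancel₀ htr0, one_smul]
    set c := (2 : F) / w.val.trace
    rw [hw1] at hh
    have h0 := congrFun hh 0
    simp [Matrix.vecMul, dotProduct, Fin.sum_univ_two] at h0
    have hc : c = -1 := ι.injective (by simpa using h0)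
    exact Subtype.ext (by rw [hw1, hc]; simp)
  · set n := orderOf (⟨act F (g, 1), ⟨_, rfl⟩⟩ : Acting F) with hn
    have h : act F (g ^ n, 1) = 1 := by
      have := congrArg Subtype.val (pow_orderOf_eq_one (⟨act F (g, 1), ⟨_, rfl⟩⟩ : Acting F))
      rwa [SubgroupClass.coe_pow, ← hn, ← map_pow, Prod.pow_mk, one_pow] at this
    obtain ⟨a, c, h00, h11, h01, hd⟩ := eq_scalar_of_act_eq_one h
    have := heig n
    generalize g ^ n = w at a c h00 h11 h01 hd this
    have h0 := congrFun this 0
    simp [Matrix.vecMul, dotProduct, Fin.sum_univ_two, a, c] at h0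
    have hsq : w.val 0 0 ^ 2 = 1 := by
      simp only [Units.val_one, Int.cast_one] at h01
      have h5 : w.val 0 0 ^ 2 * (w.val 0 0 * w.val 1 1 ^ 3) =
          (w.val 0 0 * w.val 1 1) ^ 3 := by ring
      rw [h01, hd, mul_one, one_pow] at h5
      exact h5
    have hbn : b ^ (n * 2) = 1 := by
      rw [pow_mul, ← h0, ← map_pow, hsq, map_one]
    have h2n := (hb.pow_eq_one_iff_dvd _).1 hbn
    refine Nat.dvd_of_mul_dvd_mul_right (by norm_num : 0 < 2) ?_
    rwa [Nat.div_mul_cancel (by omega)]

theorem normal_three (F : Type) [Field F] [CharP F 3] :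
    ∃ P : Subgroup (Ext F), P.Normal ∧ P ≠ ⊥ ∧ IsPGroup 3 ↥P := by
  refine ⟨(SemidirectProduct.rightHom : Ext F →* Acting F).ker, inferInstance, ?_, ?_⟩
  · intro h
    have hm : (SemidirectProduct.inl (Multiplicative.ofAdd (1 : Matrix (Fin 2) (Fin 2) F)) : Ext F) ∈
        (SemidirectProduct.rightHom : Ext F →* Acting F).ker := by simp
    rw [h, Subgroup.mem_bot] at hm
    have := congrArg (fun y : Ext F => y.left.toAdd 0 0) hm
    simp at this
  · intro x
    refine ⟨1, Subtype.ext ?_⟩
    have := pow_three_mul_eq_one x.1 (n := 1) (by rw [pow_one]; exact x.2)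
    simpa using this

end CfsgLib.KnownSimple.TwistedTensor
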