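import Cfsg.Agent.Lib.KnownSimple.UnitarySixTwo

set_option autoImplicit false

/-!
The stabiliser of a non-isotropic point; the minimal index statement over the field with four elements.
-/

namespace CfsgLib.KnownSimple.Unitary

open scoped Pointwise

variable {F : Type*} [Field F] [Fintype F] {q n : ℕ}

namespace HermData

variable {V : Type*} [AddCommGroup V] [Module F V] (D : HermData F V)

/-- the stabiliser of a non-isotropic point over the field with four elements -/
theorem exists_index_aniso [Finite V] [FiniteDimensional F V] (hq2 : D.q = 2)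
    (hdim : 3 ≤ Module.finrank F V) {N : ℕ}
    (hN : 3 * N = (D.normSet (⊤ : Submodule F V) 1).ncard) :
    ∃ H : Subgroup D.SUgrp, H.index = N ∧ Subgroup.center D.SUgrp ≤ H := by
  classical
  have : Fintype V := Fintype.ofFinite V
  have hF4 : Fintype.card F = 4 := by rw [D.card_F, hq2]; norm_num
  obtain ⟨p, p', hP⟩ := D.exists_pair D.nondeg_top (by rw [finrank_top]; omega)
  obtain ⟨b, hb⟩ := D.exists_trace (b := (1 : F)) (map_one _)
  set e := p + b • p' with hedef
  have hee : D.h e e = 1 := by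
    rw [hedef, D.add_left, D.add_right, D.add_right, D.smul_left, D.smul_left, D.smul_right, D.smul_right,
      hP.uu, hP.vv, hP.uv, hP.vu]
    linear_combination hb
  have he0 : e ≠ 0 := fun h => by rw [h, D.zero_left] at hee; exact zero_ne_one hee
  have hN1 : ∀ c : Fˣ, (c : F) * D.σ c = 1 := by
    intro c
    rw [D.σ_apply, hq2, ← pow_succ']
    have := FiniteField.pow_card_sub_one_eq_one (c : F) c.ne_zero
    rwa [hF4] at this
  let L : V → Set V := fun x => Set.range fun c : F => c • x
  have hsm : ∀ (g : D.SUgrp) x, g • L x = L ((g : V ≃ₗ[F] V) x) := by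
    intro g x
    ext y
    constructor
    · rintro ⟨_, ⟨c, rfl⟩, rfl⟩
      exact ⟨c, (map_smul (g : V ≃ₗ[F] V) c x).symm⟩
    · rintro ⟨c, rfl⟩
      exact ⟨_, ⟨c, rfl⟩, map_smul (g : V ≃ₗ[F] V) c x⟩
  have horb : MulAction.orbit D.SUgrp (L e) = L '' D.normSet ⊤ 1 := by
    ext y
    constructor
    · rintro ⟨g, rfl⟩
      refine ⟨(g : V ≃ₗ[F] V) e, ⟨trivial, fun h => he0 ((g : V ≃ₗ[F] V).map_eq_zero_iff.mp h), ?_⟩,
        (hsm g e).symm⟩
      rw [g.2.1, hee]
    · rintro ⟨x, hx, rfl⟩
      obtain ⟨γ, hγ, hγe⟩ := D.gam_transitive D.nondeg_top (by rwa [finrank_top])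
        (Submodule.mem_top (x := e)) hx.1 he0 hx.2.1 (hx.2.2.trans hee.symm)
      exact ⟨⟨γ, D.gam_le_SUgrp _ hγ⟩, by
        show _ • L e = L x
        rw [hsm]; exact congrArg L hγe⟩
  refine ⟨MulAction.stabilizer D.SUgrp (L e), ?_, ?_⟩
  · rw [MulAction.index_stabilizer, horb]
    set S := D.normSet (⊤ : Submodule F V) 1
    set s := S.toFinset
    have hc : s.card = 3 * (s.image L).card := by
      rw [Finset.card_eq_sum_card_image L s, mul_comm, Finset.sum_const_nat]
      intro y hy
      obtain ⟨x, hx, rfl⟩ := Finset.mem_image.mp hy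
      rw [Set.mem_toFinset] at hx
      rw [show (3 : ℕ) = Fintype.card Fˣ by rw [Fintype.card_units, hF4]]
      refine (Finset.card_bij (fun (c : Fˣ) _ => (c : F) • x) ?_ ?_ ?_).symm
      · intro c _
        rw [Finset.mem_filter, Set.mem_toFinset]
        refine ⟨⟨trivial, smul_ne_zero c.ne_zero hx.2.1,
          by rw [D.smul_left, D.smul_right, ← mul_assoc, hN1, one_mul, hx.2.2]⟩, ?_⟩
        ext z
        constructor
        · rintro ⟨d, rfl⟩; exact ⟨d * c, (smul_smul d (c : F) x).symm⟩
        · rintro ⟨d, rfl⟩; exact ⟨d * (c : F)⁻¹, by simp [smul_smul]⟩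
      · intro c _ c' _ h
        exact Units.ext (smul_left_injective F hx.2.1 h)
      · intro z hz
        rw [Finset.mem_filter, Set.mem_toFinset] at hz
        have : z ∈ L x := hz.2 ▸ ⟨1, one_smul _ _⟩
        obtain ⟨c, hc⟩ := this
        exact ⟨Units.mk0 c (by rintro rfl; exact hz.1.2.1 (by simpa using hc.symm)), Finset.mem_univ _, hc⟩
    have hs : S.ncard = s.card := Set.ncard_eq_toFinset_card' S
    have hi : (L '' S).ncard = (s.image L).card := by
      rw [← Set.ncard_coe_finset, Finset.coe_image, Set.coe_toFinset]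
    rw [hi]
    omega
  · intro z hz
    rw [MulAction.mem_stabilizer_iff, hsm]
    have hY := D.nondeg_cutOne D.nondeg_top (Submodule.mem_top (x := e)) (hee.trans_ne one_ne_zero)
    have hY1 := D.finrank_cutOne (Submodule.mem_top (x := e)) (hee.trans_ne one_ne_zero)
    rw [finrank_top] at hY1
    obtain ⟨a, ha, ha0⟩ := D.exists_skew_ne
    set w := (z : V ≃ₗ[F] V) e
    have hperp : D.cutOne ⊤ e ≤ LinearMap.ker (D.dot w) := by
      refine (D.iso_le_span hY (by omega)).trans (Submodule.span_le.mpr ?_)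
      rintro v ⟨hvY, hvv⟩
      rw [SetLike.mem_coe, LinearMap.mem_ker, dot_apply]
      have hcomm := LinearEquiv.congr_fun
        (congrArg Subtype.val (Subgroup.mem_center_iff.mp hz ⟨D.tau hvv ha, D.eEquiv_mem _⟩)) e
      simp only [Subgroup.coe_mul, LinearEquiv.mul_apply, tau_apply,
        D.eq_zero_comm (D.mem_cutOne.mp hvY).2, mul_zero, zero_smul, add_zero] at hcomm
      rcases eq_or_ne v 0 with rfl | hv0
      · exact D.zero_left w
      rw [add_eq_left, smul_eq_zero] at hcomm
      exact D.eq_zero_comm ((mul_eq_zero.mp (hcomm.resolve_right hv0)).resolve_left ha0)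
    have hwe : w = D.h w e • e := by
      rw [← sub_eq_zero]
      refine hY _ (D.mem_cutOne.mpr ⟨trivial, by rw [D.sub_left, D.smul_left, hee, mul_one, sub_self]⟩) ?_
      intro y hy
      have h0 : D.h y w = 0 := LinearMap.mem_ker.mp (hperp hy)
      rw [D.sub_left, D.smul_left, D.eq_zero_comm (D.mem_cutOne.mp hy).2, D.eq_zero_comm h0, mul_zero, sub_zero]
    have hc0 : D.h w e ≠ 0 := by
      intro h
      rw [h, zero_smul] at hwe
      exact he0 ((LinearEquiv.map_eq_zero_iff _).mp hwe)
    show L w = L e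
    rw [hwe]
    ext y
    constructor
    · rintro ⟨d, rfl⟩; exact ⟨_, (smul_smul d (D.h w e) e).symm⟩
    · rintro ⟨d, rfl⟩; exact ⟨d * (D.h w e)⁻¹, by simp [smul_smul, mul_assoc, inv_mul_cancel₀ hc0]⟩

end HermData

/-- from the special unitary group to its quotient by the centre -/
theorem psu_transfer (hF : Fintype.card F = q ^ 2) (N : ℕ)
    (hge : ∀ H : Subgroup (stdData hF n).SUgrp, H ≠ ⊤ → N ≤ H.index)
    (hex : ∃ H : Subgroup (stdData hF n).SUgrp, H.index = N ∧ Subgroup.center (stdData hF n).SUgrp ≤ H) :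
    (∀ H : Subgroup (Cfsg.PSU n F q), H ≠ ⊤ → N ≤ H.index) ∧
      ∃ H : Subgroup (Cfsg.PSU n F q), H.index = N := by
  classical
  let e := suEquiv hF n
  let π := QuotientGroup.mk' (Subgroup.center (Cfsg.SU n F q))
  have hsurj : Function.Surjective π := QuotientGroup.mk'_surjective _
  constructor
  · intro H hH
    have hne : (H.comap π).map e.toMonoidHom ≠ ⊤ := by
      intro h
      apply hH
      rw [← Subgroup.map_top_of_surjective e.toMonoidHom e.surjective,
        (Subgroup.map_injective (f := e.toMonoidHom) e.injective).eq_iff] at h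
      rw [← Subgroup.map_comap_eq_self_of_surjective hsurj H, h, Subgroup.map_top_of_surjective _ hsurj]
    have h2 := hge _ hne
    rwa [Subgroup.index_map_of_bijective e.bijective, Subgroup.index_comap_of_surjective H hsurj] at h2
  · obtain ⟨H, hH, hZ⟩ := hex
    refine ⟨(H.comap e.toMonoidHom).map π, ?_⟩
    rw [Subgroup.index_map, QuotientGroup.ker_mk', MonoidHom.range_eq_top.mpr hsurj, Subgroup.index_top,
      mul_one, sup_of_le_left, Subgroup.index_comap_of_surjective H e.surjective, hH]
    intro z hz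
    refine hZ (Subgroup.mem_center_iff.mpr fun g => ?_)
    obtain ⟨g, rfl⟩ := e.surjective g
    show e g * e z = e z * e g
    rw [← map_mul, ← map_mul, Subgroup.mem_center_iff.mp hz g]

/-- `PSU n 2` for `n` divisible by six -/
theorem psu_two_dim_six (hF : Fintype.card F = 2 ^ 2) (k : ℕ) (hk4 : 4 ≤ k) (h6 : 6 ∣ k + 2) (N : ℕ)
    (hN : 3 * N = 2 ^ (k + 1) * (2 ^ (k + 2) - 1))
    (hcard : k = 4 → Nat.card (Cfsg.SU (k + 2) F 2) = 27590492160) :
    (∀ H : Subgroup (Cfsg.PSU (k + 2) F 2), H ≠ ⊤ → N ≤ H.index) ∧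
      ∃ H : Subgroup (Cfsg.PSU (k + 2) F 2), H.index = N := by
  set D := stdData hF (k + 2) with hDdef
  have hdim : Module.finrank F (Fin (k + 2) → F) = k + 2 := Module.finrank_fin_fun F
  have hq2 : D.q = 2 := rfl
  have hodd : ¬ Even (k + 1) := by
    obtain ⟨c, hc⟩ := h6
    rw [Nat.not_even_iff_odd]
    exact ⟨3 * c - 1, by omega⟩
  have hone : (D.normSet (⊤ : Submodule F (Fin (k + 2) → F)) 1).ncard = 2 ^ (k + 1) * (2 ^ (k + 2) - 1) := by
    have hS : D.normSet (⊤ : Submodule F (Fin (k + 2) → F)) 1 =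
        {v : Fin (k + 2) → F | Cfsg.hermForm (k + 2) F 2 v v = 1} := by
      ext v
      refine ⟨fun h => h.2.2, fun h => ⟨trivial, fun h0 => ?_, h⟩⟩
      have h' : D.h v v = 1 := h
      rw [h0, D.zero_left] at h'
      exact zero_ne_one h'
    rw [hS, ← Nat.card_coe_set_eq]
    exact (CfsgLib.ClassicalGroups.herm_count_one hF (k + 1)).trans (if_neg hodd)
  have hzero : (D.normSet (⊤ : Submodule F (Fin (k + 2) → F)) 0).ncard =
      (2 ^ (k + 2) - 1) * (2 ^ (k + 1) + 1) := by
    have h0 : (insert 0 (D.normSet (⊤ : Submodule F (Fin (k + 2) → F)) 0)).ncard =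
        (D.normSet (⊤ : Submodule F (Fin (k + 2) → F)) 0).ncard + 1 :=
      Set.ncard_insert_of_notMem (fun h => h.2.1 rfl) (Set.toFinite _)
    have h1 : insert 0 (D.normSet (⊤ : Submodule F (Fin (k + 2) → F)) 0) =
        {v : Fin (k + 2) → F | Cfsg.hermForm (k + 2) F 2 v v = 0} := by
      ext v
      constructor
      · rintro (rfl | h)
        · exact D.zero_left 0
        · exact h.2.2
      · intro h
        by_cases hv : v = 0
        · exact Or.inl hv
        · exact Or.inr ⟨trivial, hv, h⟩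
    rw [h1, ← Nat.card_coe_set_eq] at h0
    have h2 : Nat.card {v : Fin (k + 2) → F // Cfsg.hermForm (k + 2) F 2 v v = 0} =
        (2 ^ (k + 2) - 1) * (2 ^ (k + 1) + 1) + 1 := by
      rw [CfsgLib.ClassicalGroups.herm_count_zero hF (k + 1), if_neg hodd]
    have h3 : Nat.card {v : Fin (k + 2) → F // Cfsg.hermForm (k + 2) F 2 v v = 0} =
        (D.normSet (⊤ : Submodule F (Fin (k + 2) → F)) 0).ncard + 1 := h0
    omega
  have hgen := suGen_le (n := k + 2) hF (by omega) (by omega)
  refine psu_transfer hF N (fun H hH => ?_) (D.exists_index_aniso hq2 (by omega) (by rw [hone, hN]))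
  rcases eq_or_lt_of_le hk4 with h4 | h5
  · subst h4
    obtain rfl : N = 672 := by norm_num at hN; omega
    refine HermData.index_ge_six_two hq2 hdim hgen ?_ (by rw [hzero]; norm_num) H hH
    rw [← hcard rfl, Nat.card_congr (suEquiv hF (4 + 2)).toEquiv]
  · have h2 : 1 ≤ 2 ^ (k + 2) := Nat.one_le_two_pow
    have hB : N ≤ (2 + 1) * 2 ^ (2 * k) := by
      refine Nat.le_of_mul_le_mul_left (hN.le.trans ?_) (show 0 < 3 by norm_num)
      refine (Nat.mul_le_mul_left _ (Nat.sub_le _ _)).trans ?_
      rw [← pow_add, show k + 1 + (k + 2) = 2 * k + 3 by ring, pow_add]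
      omega
    refine HermData.index_ge (D := D) hdim (by omega) (Or.inr ⟨by omega, Or.inr (by omega)⟩) hgen ?_ ?_ ?_
      (fun hP => orbB_of_four D hdim (by omega) hB hP) H hH
    · rw [hzero, hq2]
      show 3 * N ≤ _
      rw [hN, mul_comm]
      exact Nat.mul_le_mul_left _ (Nat.le_succ _)
    · rw [hq2]
      omega
    · intro b hb hb0
      obtain rfl : b = 1 := by
        change b ^ 2 = b at hb
        exact mul_left_cancel₀ hb0 (by rw [mul_one, ← pow_two, hb])
      rw [hone, hq2]
      exact hN.le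

end CfsgLib.KnownSimple.Unitary
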