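import Cfsg.Agent.Lib.KnownSimple.UnitaryPSU
import Mathlib.GroupTheory.Sylow
import Mathlib.GroupTheory.Perm.Cycle.Type

set_option autoImplicit false

/-!
The special unitary group in dimension five over the field with four elements has no proper
subgroup of index less than 165: the only surviving degree 160 contradicts Sylow's theorem for 11.
-/

namespace CfsgLib.KnownSimple.Unitary

open scoped Pointwise
open CfsgLib.KnownSimple.HeisenbergCount

theorem five_two_arith {d f c : ℕ} (hd : d < 165) (h1 : d = f + 128) (h2 : f * 165 = d * c) (hc : 9 ≤ c) :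
    d = 160 := by
  subst h1
  have hf : f < 37 := by omega
  interval_cases f <;> omega

theorem five_two_sylow {n : ℕ} (hd : n ∣ 7776) (hm : n % 11 = 1) : n ≤ 243 := by
  rw [show (7776 : ℕ) = 2 ^ 5 * 3 ^ 5 by norm_num] at hd
  obtain ⟨a, b, ha, hb, rfl⟩ := Nat.dvd_mul.mp hd
  obtain ⟨i, hi, rfl⟩ := (Nat.dvd_prime_pow Nat.prime_two).mp ha
  obtain ⟨j, hj, rfl⟩ := (Nat.dvd_prime_pow Nat.prime_three).mp hb
  interval_cases i <;> interval_cases j <;> omega

variable {F V : Type*} [Field F] [Fintype F] [AddCommGroup V] [Module F V]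

namespace HermData

variable (D : HermData F V)

/-- a semisimple element of order eleven is free on non-zero vectors, and so is its centraliser -/
theorem eleven_free [Finite V] [FiniteDimensional F V] (hF4 : Fintype.card F = 4)
    (hk : Module.finrank F V = 5) {x : V ≃ₗ[F] V} (hx : x ^ 11 = 1) (hx1 : x ≠ 1) {g : V ≃ₗ[F] V}
    (hc : g * x = x * g) {v : V} (hv : v ≠ 0) (hgv : g v = v) : g = 1 := by
  classical
  have : Fintype V := Fintype.ofFinite V
  have : Fact (Nat.Prime 11) := ⟨by norm_num⟩
  -- invariant subspace against the vectors fixed in it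
  have key : ∀ U : Submodule F V, (∀ u ∈ U, x u ∈ U) → ∀ U' : Submodule F V,
      (∀ u, u ∈ U' ↔ u ∈ U ∧ x u = u) →
      (4 ^ Module.finrank F U) % 11 = (4 ^ Module.finrank F U') % 11 := by
    intro U hU U' hU'
    let f : Function.End U := fun u => ⟨x u, hU u u.2⟩
    have hf : ∀ (n : ℕ) (u : U), ((f ^ n) u : V) = (x ^ n) (u : V) := by
      intro n
      induction n with
      | zero => intro u; rfl
      | succ n ih => intro u; rw [pow_succ, pow_succ]; exact ih (f u)
    have hf11 : f ^ (11 ^ 1) = 1 := by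
      funext u
      apply Subtype.ext
      rw [hf, pow_one, hx]
      rfl
    have h := Equiv.Perm.card_fixedPoints_modEq (f := f) hf11
    have e : Fintype.card f.fixedPoints = Fintype.card U' := by
      refine Fintype.card_congr
        { toFun := fun u => ⟨(u.1 : V), (hU' _).mpr ⟨u.1.2, congrArg Subtype.val u.2⟩⟩
          invFun := fun u => ⟨⟨u, ((hU' _).mp u.2).1⟩, Subtype.ext ((hU' _).mp u.2).2⟩
          left_inv := fun u => rfl
          right_inv := fun u => rfl }
    rw [e, Module.card_eq_pow_finrank (K := F) (V := U), Module.card_eq_pow_finrank (K := F) (V := U'), hF4] at h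
    exact h
  let Fx : Submodule F V := LinearMap.ker ((x : V →ₗ[F] V) - LinearMap.id)
  have hFx : ∀ u, u ∈ Fx ↔ x u = u := fun u => by
    simp [Fx, LinearMap.mem_ker, sub_eq_zero]
  -- no fixed vectors
  have h0 : Fx = ⊥ := by
    have h := key ⊤ (fun _ _ => trivial) Fx (fun u => by simp [hFx])
    rw [finrank_top, hk] at h
    have hle := Submodule.finrank_le Fx
    rw [hk] at hle
    generalize hj : Module.finrank F Fx = j at h hle
    interval_cases j <;> norm_num at h
    · exact Submodule.finrank_eq_zero.mp hj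
    · refine absurd ?_ hx1
      refine LinearEquiv.ext fun u => (hFx u).mp ?_
      rw [Submodule.eq_top_of_finrank_eq (hj.trans hk.symm)]
      trivial
  let U : Submodule F V := LinearMap.ker ((g : V →ₗ[F] V) - LinearMap.id)
  have hUm : ∀ u, u ∈ U ↔ g u = u := fun u => by
    simp [U, LinearMap.mem_ker, sub_eq_zero]
  have h := key U (fun u hu => (hUm _).mpr (by
    have e := LinearEquiv.congr_fun hc u
    rw [LinearEquiv.mul_apply, LinearEquiv.mul_apply, (hUm u).mp hu] at e
    exact e)) ⊥ (fun u => by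
      refine ⟨fun hu => ?_, fun hu => ?_⟩
      · rw [Submodule.mem_bot] at hu; subst hu; exact ⟨U.zero_mem, map_zero _⟩
      · rw [← h0]; exact (hFx u).mpr hu.2)
  rw [finrank_bot] at h
  have hle := Submodule.finrank_le U
  rw [hk] at hle
  generalize hj : Module.finrank F U = j at h hle
  interval_cases j <;> norm_num at h
  · refine absurd ?_ hv
    have : v ∈ U := (hUm v).mpr hgv
    rwa [Submodule.finrank_eq_zero.mp hj, Submodule.mem_bot] at this
  · refine LinearEquiv.ext fun u => (hUm u).mp ?_
    rw [Submodule.eq_top_of_finrank_eq (hj.trans hk.symm)]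
    trivial

/-- no subgroup of order 85536 -/
theorem no_order_85536 [Finite V] [FiniteDimensional F V] (hF4 : Fintype.card F = 4)
    (hk : Module.finrank F V = 5) (K : Subgroup (V ≃ₗ[F] V)) (hK : Nat.card K = 85536) : False := by
  classical
  have : Finite (V ≃ₗ[F] V) := Finite.of_injective (fun g => (g : V → V)) DFunLike.coe_injective
  have : Fact (Nat.Prime 11) := ⟨by norm_num⟩
  let P : Sylow 11 K := default
  have hP : Nat.card P = 11 := by
    rw [P.card_eq_multiplicity, hK, show (85536 : ℕ) = 7776 * 11 by norm_num,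
      Nat.factorization_mul (by norm_num) (by norm_num), Finsupp.add_apply,
      Nat.factorization_eq_zero_of_not_dvd (by norm_num : ¬ 11 ∣ 7776),
      Nat.Prime.factorization (by norm_num : Nat.Prime 11)]
    simp
  have hidx : (P : Subgroup K).index = 7776 := by
    have h1 := (P : Subgroup K).card_mul_index
    rw [hK, show Nat.card (P : Subgroup K) = 11 from hP] at h1
    omega
  have hn : Nat.card (Sylow 11 K) ≤ 243 := by
    have hd : Nat.card (Sylow 11 K) ∣ 7776 := hidx ▸ P.card_dvd_index
    exact five_two_sylow hd (card_sylow_modEq_one 11 K)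
  set N : Subgroup K := Subgroup.normalizer ((P : Subgroup K) : Set K)
  have hN : 352 ≤ Nat.card N := by
    have h1 := N.card_mul_index
    rw [hK] at h1
    change Nat.card N * (Subgroup.normalizer (P : Set K)).index = _ at h1
    rw [← P.card_eq_index_normalizer] at h1
    by_contra hlt
    push Not at hlt
    have := Nat.mul_le_mul (Nat.le_sub_one_of_lt hlt) hn
    omega
  obtain ⟨⟨x, hxP⟩, hx⟩ := exists_prime_orderOf_dvd_card' (G := (P : Subgroup K)) 11 (by
    rw [show Nat.card (P : Subgroup K) = 11 from hP])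
  rw [← Subgroup.orderOf_coe] at hx
  change orderOf x = 11 at hx
  have hx' : (x : V ≃ₗ[F] V) ^ 11 = 1 := by
    rw [← Subgroup.coe_pow, ← hx, pow_orderOf_eq_one, Subgroup.coe_one]
  have hx1 : (x : V ≃ₗ[F] V) ≠ 1 := by
    intro h
    have : x = 1 := Subtype.ext h
    rw [this, orderOf_one] at hx
    norm_num at hx
  obtain ⟨v, hv⟩ : ∃ v : V, v ≠ 0 := by
    have : Nontrivial V := Module.nontrivial_of_finrank_pos (R := F) (by omega)
    exact exists_ne 0
  -- the centraliser of `x` is small
  let C : Subgroup K := Subgroup.centralizer {x}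
  have hC33 : Nat.card C ≤ 33 := by
    have hfree : ∀ (c : C) (w : V), w ≠ 0 → ((c : K) : V ≃ₗ[F] V) w = w → c = 1 := by
      intro c w hw hcw
      apply Subtype.ext
      apply Subtype.ext
      refine eleven_free hF4 hk hx' hx1 ?_ hw hcw
      exact congrArg Subtype.val (Subgroup.mem_centralizer_singleton_iff.mp c.2)
    -- the orbits on non-zero vectors are regular
    let X := {w : V // w ≠ 0}
    letI : MulAction C X :=
      { smul := fun c w => ⟨((c : K) : V ≃ₗ[F] V) w.1, fun h => w.2 ((LinearEquiv.map_eq_zero_iff _).mp h)⟩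
        one_smul := fun w => rfl
        mul_smul := fun c c' w => rfl }
    have hdvd : Nat.card C ∣ Nat.card X := by
      have hst : ∀ w : X, MulAction.stabilizer C w = ⊥ := by
        intro w
        rw [Subgroup.eq_bot_iff_forall]
        intro c hc
        exact hfree c w.1 w.2 (congrArg Subtype.val hc)
      have hcard : Nat.card X = ∑ᶠ ω : Quotient (MulAction.orbitRel C X), Nat.card C := by
        have : Fintype (Quotient (MulAction.orbitRel C X)) := Fintype.ofFinite _
        rw [finsum_eq_sum_of_fintype, Nat.card_congr (MulAction.selfEquivSigmaOrbits C X), Nat.card_sigma]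
        refine Finset.sum_congr rfl fun ω _ => ?_
        rw [Nat.card_coe_set_eq, ← MulAction.index_stabilizer, hst, Subgroup.index_bot]
      rw [hcard]
      have : Fintype (Quotient (MulAction.orbitRel C X)) := Fintype.ofFinite _
      rw [finsum_eq_sum_of_fintype, Finset.sum_const, smul_eq_mul]
      exact Dvd.intro_left _ rfl
    have hX : Nat.card X = 1023 := by
      have : Fintype V := Fintype.ofFinite V
      rw [Nat.card_eq_fintype_card, Fintype.card_subtype_compl, Fintype.card_subtype_eq,
        Module.card_eq_pow_finrank (K := F), hF4, hk]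
      norm_num
    rw [hX] at hdvd
    have h2 : Nat.card C ∣ 85536 := hK ▸ C.card_subgroup_dvd_card
    exact Nat.le_of_dvd (by norm_num) ((Nat.dvd_gcd hdvd h2).trans (by norm_num))
  -- the normaliser permutes the ten elements of order eleven
  let f : N → (P : Subgroup K) := fun n => ⟨(n : K) * x * (n : K)⁻¹,
    (Subgroup.mem_normalizer_iff.mp n.2 x).mp hxP⟩
  have : Fintype N := Fintype.ofFinite N
  have hbound : Fintype.card N ≤ 33 * (Finset.univ.image f).card := by
    rw [← Finset.card_univ]
    refine Finset.card_le_mul_card_image _ _ fun y hy => ?_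
    obtain ⟨n₀, -, rfl⟩ := Finset.mem_image.mp hy
    refine le_trans ?_ hC33
    have : Fintype C := Fintype.ofFinite C
    rw [Nat.card_eq_fintype_card, ← Finset.card_univ (α := C)]
    refine Finset.card_le_card_of_injOn
      (fun n => if h : (n₀ : K)⁻¹ * n ∈ C then (⟨_, h⟩ : C) else 1) (fun _ _ => Finset.mem_univ _) ?_
    have hmem : ∀ n : N, f n = f n₀ → (n₀ : K)⁻¹ * n ∈ C := by
      intro n hn
      rw [Subgroup.mem_centralizer_singleton_iff]
      have h1 : (n : K) * x * (n : K)⁻¹ = (n₀ : K) * x * (n₀ : K)⁻¹ := congrArg Subtype.val hn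
      rw [mul_inv_eq_iff_eq_mul] at h1
      rw [mul_assoc, h1]
      group
    intro n hn n' hn' h
    simp only [Finset.coe_filter, Finset.mem_univ, true_and, Set.mem_setOf_eq] at hn hn'
    simp only [dif_pos (hmem n hn), dif_pos (hmem n' hn'), Subtype.mk.injEq, mul_right_inj] at h
    exact Subtype.ext h
  have himg : (Finset.univ.image f).card ≤ 10 := by
    have : Fintype (P : Subgroup K) := Fintype.ofFinite _
    have h11 : Fintype.card (P : Subgroup K) = 11 := by rw [← Nat.card_eq_fintype_card]; exact hP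
    refine le_trans (Finset.card_le_card (t := Finset.univ.erase 1) fun y hy => ?_)
      (by rw [Finset.card_erase_of_mem (Finset.mem_univ _), Finset.card_univ, h11])
    obtain ⟨n, -, rfl⟩ := Finset.mem_image.mp hy
    rw [Finset.mem_erase]
    refine ⟨fun h => ?_, Finset.mem_univ _⟩
    have h1 : (n : K) * x * (n : K)⁻¹ = 1 := congrArg Subtype.val h
    rw [mul_inv_eq_one, mul_eq_left] at h1
    rw [h1, orderOf_one] at hx
    norm_num at hx
  rw [Nat.card_eq_fintype_card] at hN
  omega

section

variable {D} [Finite V] [FiniteDimensional F V]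

/-- every proper subgroup has index at least `165` -/
theorem index_ge_five_two (hq2 : D.q = 2) (hk : Module.finrank F V = 3 + 2)
    (hgen : D.SUgrp ≤ D.tgam (⊤ : Submodule F V)) (hcard : Nat.card D.SUgrp = 13685760)
    (hI : (D.normSet (⊤ : Submodule F V) 0).ncard = 495) (H : Subgroup D.SUgrp) (hH : H ≠ ⊤) :
    165 ≤ H.index := by
  classical
  have hF4 : Fintype.card F = 4 := by rw [D.card_F, hq2]; norm_num
  have : Finite (V ≃ₗ[F] V) := Finite.of_injective (fun g => (g : V → V)) DFunLike.coe_injective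
  have : Fintype V := Fintype.ofFinite V
  obtain ⟨p, p', hP⟩ := D.exists_pair D.nondeg_top (by rw [finrank_top, hk]; omega)
  by_contra hlt
  push Not at hlt
  let Ω := D.SUgrp ⧸ H
  have : Fintype Ω := Fintype.ofFinite _
  have hcΩ : Nat.card Ω = H.index := rfl
  -- transport between transvections
  obtain ⟨s, hs, hs0⟩ := D.exists_skew_ne
  have hskew : ∀ a : D.skew, a = 0 ∨ a = ⟨s, hs⟩ := by
    intro a
    have hc : Fintype.card D.skew = 2 := by rw [← Nat.card_eq_fintype_card, D.card_skew, hq2]
    by_contra hcon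
    push Not at hcon
    have h3 := Finset.card_le_univ ({0, ⟨s, hs⟩, a} : Finset D.skew)
    rw [Finset.card_insert_of_notMem, Finset.card_insert_of_notMem, Finset.card_singleton, hc] at h3
    · omega
    · simp [hcon.2.symm]
    · have h00 : (0 : D.skew) ≠ ⟨s, hs⟩ := fun h => hs0 (congrArg Subtype.val h).symm
      simp [hcon.1.symm, h00]
  set O := (D.normSet (⊤ : Submodule F V) 0).toFinset
  have htau : ∀ v ∈ O, D.h v v = 0 := fun v hv => (Set.mem_toFinset.mp hv).2.2
  let R : V → Ω → Prop := fun v ω => ∃ hv : D.h v v = 0, (⟨D.tau hv hs, D.eEquiv_mem _⟩ : D.SUgrp) • ω = ω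
  have hRg : ∀ (g : D.SUgrp) (v : V) (ω : Ω), R ((g : V ≃ₗ[F] V) v) (g • ω) ↔ R v ω := by
    intro g v ω
    have key : ∀ (hv : D.h v v = 0) (hv' : D.h ((g : V ≃ₗ[F] V) v) ((g : V ≃ₗ[F] V) v) = 0),
        g * (⟨D.tau hv hs, D.eEquiv_mem _⟩ : D.SUgrp) = ⟨D.tau hv' hs, D.eEquiv_mem _⟩ * g := by
      intro hv hv'
      apply Subtype.ext
      simp only [Subgroup.coe_mul, tau]
      rw [D.conj_eEquiv g.2.1]
      exact congrArg (· * _) (D.eEquiv_congr _ _ (map_zero _) rfl)
    constructor
    · rintro ⟨hv', h⟩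
      have hv : D.h v v = 0 := by rwa [g.2.1] at hv'
      refine ⟨hv, MulAction.injective g ?_⟩
      show g • _ • ω = g • ω
      rw [← mul_smul, key hv hv', mul_smul, h]
    · rintro ⟨hv, h⟩
      have hv' : D.h ((g : V ≃ₗ[F] V) v) ((g : V ≃ₗ[F] V) v) = 0 := by rw [g.2.1, hv]
      exact ⟨hv', by rw [← mul_smul, ← key hv hv', mul_smul, h]⟩
  have hgmem : ∀ (g : D.SUgrp) {v : V}, v ∈ O → (g : V ≃ₗ[F] V) v ∈ O := by
    intro g v hv
    rw [Set.mem_toFinset] at hv ⊢
    exact ⟨trivial, fun h => hv.2.1 ((LinearEquiv.map_eq_zero_iff _).mp h), by rw [g.2.1, hv.2.2]⟩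
  -- some transvection moves some point
  have hmove : ∃ (ω : Ω) (a : D.skew), tz hP a • ω ≠ ω := by
    by_contra hcon
    push Not at hcon
    have hfix : ∀ (u : V) (a : F) (hu : D.h u u = 0) (ha : D.σ a = -a) (ω : Ω),
        (⟨D.tau hu ha, D.eEquiv_mem _⟩ : D.SUgrp) • ω = ω := by
      intro u a hu ha ω
      rcases eq_or_ne u 0 with rfl | hu0
      · have : (⟨D.tau hu ha, D.eEquiv_mem _⟩ : D.SUgrp) = 1 :=
          Subtype.ext (LinearEquiv.ext fun x => by simp [tau_apply])
        rw [this, one_smul]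
      obtain ⟨γ, hγ, hγp⟩ := D.gam_transitive_iso D.nondeg_top (by rw [finrank_top, hk]; omega)
        (Submodule.mem_top (x := p)) (Submodule.mem_top (x := u)) (hP.ne_zero D) hu0 hP.uu hu
      let γ' : D.SUgrp := ⟨γ, D.gam_le_SUgrp _ hγ⟩
      have h := hcon (γ'⁻¹ • ω) ⟨a, ha⟩
      have e : γ' * tz hP ⟨a, ha⟩ = ⟨D.tau hu ha, D.eEquiv_mem _⟩ * γ' := by
        apply Subtype.ext
        simp only [γ', tz, Subgroup.coe_mul, tau]
        rw [D.conj_eEquiv (D.gam_isom hγ)]
        exact congrArg (· * _) (D.eEquiv_congr3 _ _ hγp (map_zero _) rfl)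
      have h2 : γ' • tz hP ⟨a, ha⟩ • γ'⁻¹ • ω = γ' • γ'⁻¹ • ω := congrArg (fun ω => γ' • ω) h
      rwa [← mul_smul, e, mul_smul, smul_inv_smul] at h2
    refine hH (eq_top_iff.mpr fun g _ => ?_)
    have hg : (g : V ≃ₗ[F] V) ∈ D.tgam ⊤ := hgen g.2
    have hker : D.tgam (⊤ : Submodule F V) ≤ H.map D.SUgrp.subtype := by
      rw [tgam, Subgroup.closure_le]
      rintro _ ⟨u, a, hu, ha, -, rfl⟩
      have h := hfix u a hu ha ((1 : D.SUgrp) : Ω)
      rw [MulAction.Quotient.smul_coe, QuotientGroup.eq, smul_eq_mul, mul_one, mul_one] at h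
      exact ⟨_, H.inv_mem_iff.mp h, rfl⟩
    obtain ⟨g', hg', he⟩ := Subgroup.mem_map.mp (hker hg)
    rw [Subgroup.coe_subtype] at he
    rwa [Subtype.ext he] at hg'
  obtain ⟨t⟩ := exists_tors (Ω := Ω) hP hk (by omega)
    (orbB_three D (N := 165) hk (by rw [hq2]; norm_num) hP) (by rw [hq2]; norm_num) (hcΩ ▸ hlt) hmove
  obtain ⟨ω₁, hω₁⟩ := exists_fixed_point_two hP hq2 hk le_rfl (Or.inl (by norm_num)) t
  -- the orbits allowed by the character are the moved pairs
  set E := theta (Ω := Ω) (tz hP) (tz_add hP) t.χ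
  have hE : E.ncard = 64 := by
    have hW : Nat.card (D.cutPair ⊤ p p') = 64 := by
      have hfr := D.finrank_cutPair hP
      rw [finrank_top, hk] at hfr
      rw [D.card_submodule, hq2, show Module.finrank F (D.cutPair ⊤ p p') = 3 by omega]
      norm_num
    rw [← Nat.card_coe_set_eq, ← hW]
    refine (Nat.card_eq_of_bijective (fun w => (⟨ew hP w • t.θ₀, ew_smul_mem hP w t.mem⟩ : E)) ⟨?_, ?_⟩).symm
    · intro w w' h
      exact t.free t.θ₀ t.mem w w' (congrArg Subtype.val h)
    · rintro ⟨θ, hθ⟩
      obtain ⟨w, hw⟩ := t.tors θ hθ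
      exact ⟨w, Subtype.ext hw.symm⟩
  set f := (Finset.univ.filter fun ω : Ω => tz hP ⟨s, hs⟩ • ω = ω).card
  have hd : Nat.card Ω = f + 128 := by
    rw [Nat.card_eq_fintype_card, ← Finset.card_univ,
      ← Finset.card_filter_add_card_filter_not (fun ω : Ω => tz hP ⟨s, hs⟩ • ω = ω)]
    congr 1
    set M := Finset.univ.filter fun ω : Ω => ¬ tz hP ⟨s, hs⟩ • ω = ω
    have hMeq : ∀ ω : Ω, zorb (tz hP) ω = {ω, tz hP ⟨s, hs⟩ • ω} := by
      intro ω
      ext x
      constructor
      · rintro ⟨a, rfl⟩
        rcases hskew a with rfl | rfl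
        · left
          show tz hP 0 • ω = ω
          rw [t_zero _ (tz_add hP), one_smul]
        · right; rfl
      · rintro (h | h)
        · exact h ▸ zorb_self (tz hP) (tz_add hP) ω
        · exact ⟨⟨s, hs⟩, h.symm⟩
    have himg : M.image (zorb (tz hP)) = E.toFinset := by
      ext θ
      rw [Finset.mem_image, Set.mem_toFinset]
      constructor
      · rintro ⟨ω, hω, rfl⟩
        refine ⟨ω, fun a ha => ?_, rfl⟩
        rcases hskew a with rfl | rfl
        · exact AddChar.map_zero_eq_one _
        · exact absurd ha (Finset.mem_filter.mp hω).2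
      · rintro ⟨ω, hω, rfl⟩
        refine ⟨ω, Finset.mem_filter.mpr ⟨Finset.mem_univ _, fun h => ?_⟩, rfl⟩
        apply t.ne
        ext a
        rcases hskew a with rfl | rfl
        · simp
        · rw [hω _ h, AddChar.one_apply]
    have hcM : M.card = 2 * (M.image (zorb (tz hP))).card := by
      rw [Finset.card_eq_sum_card_image (zorb (tz hP)) M, mul_comm, Finset.sum_const_nat]
      intro y hy
      obtain ⟨ω, hω, rfl⟩ := Finset.mem_image.mp hy
      have hne : ω ≠ tz hP ⟨s, hs⟩ • ω := fun h => (Finset.mem_filter.mp hω).2 h.symm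
      rw [← Finset.card_pair hne]
      congr 1
      ext x
      simp only [Finset.mem_filter, Finset.mem_insert, Finset.mem_singleton, M, Finset.mem_univ, true_and]
      constructor
      · rintro ⟨-, hx⟩
        have : x ∈ zorb (tz hP) ω := hx ▸ zorb_self (tz hP) (tz_add hP) x
        rwa [hMeq] at this
      · intro hx
        have hmem : x ∈ zorb (tz hP) ω := by rw [hMeq]; exact hx
        refine ⟨fun h => hne ?_, zorb_eq_of_mem _ (tz_add hP) hmem⟩
        rcases hx with rfl | rfl
        · exact h.symm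
        · exact MulAction.injective _ h.symm
    rw [hcM, himg, ← Set.ncard_eq_toFinset_card', hE]
  -- double counting
  have hcol : ∀ v ∈ O, (Finset.univ.filter fun ω : Ω => R v ω).card = f := by
    intro v hv
    obtain ⟨γ, hγ, hγp⟩ := D.gam_transitive_iso D.nondeg_top (by rw [finrank_top, hk]; omega)
      (Submodule.mem_top (x := p)) (Submodule.mem_top (x := v)) (hP.ne_zero D) (Set.mem_toFinset.mp hv).2.1
      hP.uu (htau v hv)
    let γ' : D.SUgrp := ⟨γ, D.gam_le_SUgrp _ hγ⟩
    refine (Finset.card_bij' (fun ω _ => γ' • ω) (fun ω _ => γ'⁻¹ • ω) ?_ ?_ ?_ ?_).symm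
    · intro ω hω
      rw [Finset.mem_filter] at hω ⊢
      refine ⟨Finset.mem_univ _, ?_⟩
      rw [← hγp]
      exact (hRg γ' p ω).mpr ⟨hP.uu, hω.2⟩
    · intro ω hω
      rw [Finset.mem_filter] at hω ⊢
      refine ⟨Finset.mem_univ _, ?_⟩
      obtain ⟨_, h'⟩ := (hRg γ' p (γ'⁻¹ • ω)).mp (by rw [smul_inv_smul]; show R (γ p) ω; rw [hγp]; exact hω.2)
      exact h'
    · intro ω _; exact inv_smul_smul _ _
    · intro ω _; exact smul_inv_smul _ _
  set C := (O.filter fun v => R v ω₁).card
  have hrow : ∀ ω : Ω, (O.filter fun v => R v ω).card = C := by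
    intro ω
    obtain ⟨g, hg⟩ := MulAction.exists_smul_eq D.SUgrp ω₁ ω
    subst hg
    refine (Finset.card_bij' (fun v _ => (g : V ≃ₗ[F] V) v) (fun v _ => (g⁻¹ : D.SUgrp).1 v) ?_ ?_ ?_ ?_).symm
    · intro v hv
      rw [Finset.mem_filter] at hv ⊢
      exact ⟨hgmem g hv.1, (hRg g v ω₁).mpr hv.2⟩
    · intro v hv
      rw [Finset.mem_filter] at hv ⊢
      refine ⟨hgmem g⁻¹ hv.1, ?_⟩
      have := (hRg g⁻¹ v (g • ω₁)).mpr hv.2
      rwa [inv_smul_smul] at this
    · intro v _
      show ((g⁻¹ * g : D.SUgrp) : V ≃ₗ[F] V) v = v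
      rw [inv_mul_cancel]; rfl
    · intro v _
      show ((g * g⁻¹ : D.SUgrp) : V ≃ₗ[F] V) v = v
      rw [mul_inv_cancel]; rfl
  have hdc : 495 * f = Nat.card Ω * C := by
    have h1 := Finset.sum_card_bipartiteAbove_eq_sum_card_bipartiteBelow R (s := O) (t := (Finset.univ : Finset Ω))
    simp only [Finset.bipartiteAbove, Finset.bipartiteBelow] at h1
    rw [Finset.sum_congr rfl hcol, Finset.sum_congr rfl (fun ω _ => hrow ω), Finset.sum_const,
      Finset.sum_const, smul_eq_mul, smul_eq_mul, Finset.card_univ, ← Nat.card_eq_fintype_card] at h1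
    rwa [show O.card = 495 by rw [← Set.ncard_eq_toFinset_card']; exact hI] at h1
  -- the centres over a point come in triples
  let L : V → Finset V := fun v => Finset.univ.image fun c : F => c • v
  have hC3 : C = 3 * ((O.filter fun v => R v ω₁).image L).card := by
    show (O.filter fun v => R v ω₁).card = _
    rw [Finset.card_eq_sum_card_image L (O.filter fun v => R v ω₁), mul_comm, Finset.sum_const_nat]
    intro y hy
    obtain ⟨v, hv, rfl⟩ := Finset.mem_image.mp hy
    rw [Finset.mem_filter] at hv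
    obtain ⟨hvO, hvv, hvR⟩ := hv
    have hv0 := (Set.mem_toFinset.mp hvO).2.1
    have h3 : Fintype.card Fˣ = 3 := by rw [Fintype.card_units, hF4]
    rw [← h3, ← Finset.card_univ]
    refine (Finset.card_bij (fun (c : Fˣ) _ => (c : F) • v) ?_ ?_ ?_).symm
    · intro c _
      have hcv : D.h ((c : F) • v) ((c : F) • v) = 0 := by
        rw [D.smul_left, D.smul_right, hvv, mul_zero, mul_zero]
      rw [Finset.mem_filter, Finset.mem_filter]
      refine ⟨⟨Set.mem_toFinset.mpr ⟨trivial, smul_ne_zero c.ne_zero hv0, hcv⟩, hcv, ?_⟩, ?_⟩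
      · have hc : (c : F) * D.σ c = 1 := by
          rw [D.σ_apply, hq2, ← pow_succ']
          have := FiniteField.pow_card_sub_one_eq_one (c : F) c.ne_zero
          rwa [hF4] at this
        have e : D.tau hcv hs = D.tau hvv hs := by
          refine LinearEquiv.ext fun x => ?_
          simp only [tau_apply, D.smul_right, smul_smul]
          match_scalars <;> first | ring1 | linear_combination (s * D.h x v) * hc
        simp only [e]
        exact hvR
      · ext z
        simp only [L, Finset.mem_image, Finset.mem_univ, true_and]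
        constructor
        · rintro ⟨d, rfl⟩; exact ⟨d * c, (smul_smul d (c : F) v).symm⟩
        · rintro ⟨d, rfl⟩; exact ⟨d * (c : F)⁻¹, by simp [smul_smul]⟩
    · intro c _ c' _ h
      exact Units.ext (smul_left_injective F hv0 h)
    · intro z hz
      rw [Finset.mem_filter, Finset.mem_filter] at hz
      have : z ∈ L v := hz.2 ▸ Finset.mem_image.mpr ⟨1, Finset.mem_univ _, one_smul _ _⟩
      obtain ⟨c, -, hc⟩ := Finset.mem_image.mp this
      exact ⟨Units.mk0 c (by rintro rfl; exact (Set.mem_toFinset.mp hz.1.1).2.1 (by simpa using hc.symm)),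
        Finset.mem_univ _, hc⟩
  -- all centres in `W` occur
  have hC27 : 24 ≤ C := by
    have hfr := D.finrank_cutPair hP
    rw [finrank_top, hk] at hfr
    have hW := D.nondeg_cutPair D.nondeg_top hP
    obtain ⟨u, u', hPu⟩ := D.exists_pair hW (by omega)
    have h := D.card_normSet_ge hPu (b := 0) (map_zero _)
    rw [hq2, show Module.finrank F (D.cutPair ⊤ p p') = 3 by omega] at h
    refine le_trans (le_trans (by norm_num) h) ?_
    show _ ≤ (O.filter fun v => R v ω₁).card
    rw [← Set.ncard_coe_finset]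
    refine Set.ncard_le_ncard ?_ (Set.toFinite _)
    rintro v ⟨hvW, hv0, hvv⟩
    rw [Finset.mem_coe, Finset.mem_filter]
    exact ⟨Set.mem_toFinset.mpr ⟨trivial, hv0, hvv⟩, hvv, hω₁ v s hvv hs hvW⟩
  have hC495 : C ≤ 495 := by
    refine (Finset.card_filter_le _ _).trans (le_of_eq ?_)
    rw [← Set.ncard_eq_toFinset_card']; exact hI
  generalize hc : ((O.filter fun v => R v ω₁).image L).card = c at hC3
  have h160 : H.index = 160 := by
    rw [hcΩ] at hd hdc
    rw [hC3] at hdc hC27 hC495
    rcases le_or_gt 9 c with h9 | h9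
    · exact five_two_arith hlt hd (by linarith) h9
    · -- `c = 8` is impossible
      obtain rfl : c = 8 := by omega
      omega
  apply no_order_85536 hF4 hk (H.map D.SUgrp.subtype)
  rw [← Nat.card_congr (Subgroup.equivMapOfInjective H _ D.SUgrp.subtype_injective).toEquiv]
  have h1 := H.card_mul_index
  rw [h160, hcard] at h1
  omega

end

end HermData

end CfsgLib.KnownSimple.Unitary
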