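import Cfsg.Agent.Lib.KnownSimple.UnitaryPSU
import Mathlib.GroupTheory.Sylow
import Mathlib.GroupTheory.Perm.Cycle.Type

set_option autoImplicit false

/-!
The special unitary group in dimension six over the field with four elements has no proper
subgroup of index less than 672: in such an action a transvection has no fixed point, so the degree
is 512, which contradicts Sylow's theorem for 11.
-/

namespace CfsgLib.KnownSimple.Unitary

open scoped Pointwise
open CfsgLib.KnownSimple.HeisenbergCount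

theorem six_two_degree {d f c : ℕ} (h1 : d = f + 512) (h2 : 693 * f = d * c) (hd : d < 672) :
    f < 128 := by
  by_contra hf
  have hlo : 640 ≤ d := by omega
  interval_cases d <;> omega

theorem six_two_sylow {n : ℕ} (hd : n ∣ 4898880) (hm : n % 11 = 1) {N : ℕ}
    (hN : n * N = 53887680) (hodd : N % 2 = 1) : 330 < N := by
  rw [show (4898880 : ℕ) = 2 ^ 6 * (3 ^ 7 * (5 * 7)) by norm_num] at hd
  obtain ⟨a, b, ha, hb, rfl⟩ := Nat.dvd_mul.mp hd
  obtain ⟨b₁, c, hb₁, hc₁, rfl⟩ := Nat.dvd_mul.mp hb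
  obtain ⟨c₁, e, hc, he, rfl⟩ := Nat.dvd_mul.mp hc₁
  obtain ⟨i, hi, rfl⟩ := (Nat.dvd_prime_pow Nat.prime_two).mp ha
  obtain ⟨j, hj, rfl⟩ := (Nat.dvd_prime_pow Nat.prime_three).mp hb₁
  rcases (Nat.dvd_prime (by norm_num : Nat.Prime 5)).mp hc with rfl | rfl <;>
    rcases (Nat.dvd_prime (by norm_num : Nat.Prime 7)).mp he with rfl | rfl <;>
    interval_cases i <;> interval_cases j <;> omega

variable {F V : Type*} [Field F] [Fintype F] [AddCommGroup V] [Module F V]

namespace HermData

variable (D : HermData F V)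

theorem eleven_modEq [Finite V] [FiniteDimensional F V] (hF4 : Fintype.card F = 4) {x : V ≃ₗ[F] V}
    (hx : x ^ 11 = 1) (U : Submodule F V) (hU : ∀ u ∈ U, x u ∈ U) (U' : Submodule F V)
    (hU' : ∀ u, u ∈ U' ↔ u ∈ U ∧ x u = u) :
    (4 ^ Module.finrank F U) % 11 = (4 ^ Module.finrank F U') % 11 := by
  classical
  have : Fintype V := Fintype.ofFinite V
  have : Fact (Nat.Prime 11) := ⟨by norm_num⟩
  let f : Function.End U := fun u => ⟨x u, hU u u.2⟩
  have hf : ∀ (n : ℕ) (u : U), ((f ^ n) u : V) = (x ^ n) (u : V) := by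
    intro n
    induction n with
    | zero => intro u; rfl
    | succ n ih => intro u; rw [pow_succ, pow_succ]; exact ih (f u)
  have hf11 : f ^ (11 ^ 1) = 1 := by
    funext u
    apply Subtype.ext
    rw [hf, pow_one, hx]
    rfl
  have h := Equiv.Perm.card_fixedPoints_modEq (f := f) hf11
  have e : Fintype.card f.fixedPoints = Fintype.card U' := by
    refine Fintype.card_congr
      { toFun := fun u => ⟨(u.1 : V), (hU' _).mpr ⟨u.1.2, congrArg Subtype.val u.2⟩⟩
        invFun := fun u => ⟨⟨u, ((hU' _).mp u.2).1⟩, Subtype.ext ((hU' _).mp u.2).2⟩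
        left_inv := fun u => rfl
        right_inv := fun u => rfl }
  rw [e, Module.card_eq_pow_finrank (K := F) (V := U), Module.card_eq_pow_finrank (K := F) (V := U'), hF4] at h
  exact h

theorem no_order_53887680 [Finite V] [FiniteDimensional F V] (hF4 : Fintype.card F = 4)
    (hk : Module.finrank F V = 6) (K : Subgroup D.SUgrp) (hK : Nat.card K = 53887680) : False := by
  classical
  have : Finite (V ≃ₗ[F] V) := Finite.of_injective (fun g => (g : V → V)) DFunLike.coe_injective
  have : Fact (Nat.Prime 11) := ⟨by norm_num⟩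
  let P : Sylow 11 K := default
  have hP : Nat.card P = 11 := by
    rw [P.card_eq_multiplicity, hK, show (53887680 : ℕ) = 4898880 * 11 by norm_num,
      Nat.factorization_mul (by norm_num) (by norm_num), Finsupp.add_apply,
      Nat.factorization_eq_zero_of_not_dvd (by norm_num : ¬ 11 ∣ 4898880),
      Nat.Prime.factorization (by norm_num : Nat.Prime 11)]
    simp
  have hidx : (P : Subgroup K).index = 4898880 := by
    have h1 := (P : Subgroup K).card_mul_index
    rw [hK, show Nat.card (P : Subgroup K) = 11 from hP] at h1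
    omega
  obtain ⟨⟨x, hxP⟩, hx⟩ := exists_prime_orderOf_dvd_card' (G := (P : Subgroup K)) 11 (by
    rw [show Nat.card (P : Subgroup K) = 11 from hP])
  rw [← Subgroup.orderOf_coe] at hx
  change orderOf x = 11 at hx
  set X : V ≃ₗ[F] V := ((x : D.SUgrp) : V ≃ₗ[F] V) with hXdef
  have hX11 : X ^ 11 = 1 := by
    rw [hXdef, ← Subgroup.coe_pow, ← Subgroup.coe_pow, ← hx, pow_orderOf_eq_one]
    rfl
  have hX1 : X ≠ 1 := by
    intro h
    have : x = 1 := Subtype.ext (Subtype.ext h)
    rw [this, orderOf_one] at hx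
    norm_num at hx
  -- the fixed line and its complement
  let Fx : Submodule F V := LinearMap.ker ((X : V →ₗ[F] V) - LinearMap.id)
  have hFx : ∀ u, u ∈ Fx ↔ X u = u := fun u => by
    simp [Fx, LinearMap.mem_ker, sub_eq_zero]
  have hFx1 : Module.finrank F Fx = 1 := by
    have h := eleven_modEq hF4 hX11 ⊤ (fun _ _ => trivial) Fx (fun u => by simp [hFx])
    rw [finrank_top, hk] at h
    have hle := Submodule.finrank_le Fx
    rw [hk] at hle
    generalize hj : Module.finrank F Fx = j at h hle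
    interval_cases j <;> norm_num at h
    · rfl
    · refine absurd ?_ hX1
      refine LinearEquiv.ext fun u => (hFx u).mp ?_
      rw [Submodule.eq_top_of_finrank_eq (hj.trans hk.symm)]
      trivial
  let Y : Submodule F V := LinearMap.range ((X : V →ₗ[F] V) - LinearMap.id)
  have hY5 : Module.finrank F Y = 5 := by
    have h := LinearMap.finrank_range_add_finrank_ker ((X : V →ₗ[F] V) - LinearMap.id)
    rw [hk] at h
    change Module.finrank F Y + Module.finrank F Fx = 6 at h
    omega
  have hYX : ∀ y ∈ Y, X y ∈ Y := by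
    rintro y ⟨v, rfl⟩
    exact ⟨X v, by simp⟩
  have hYfix : ∀ y ∈ Y, X y = y → y = 0 := by
    intro y hy hXy
    have h := eleven_modEq hF4 hX11 Y hYX (Y ⊓ Fx) (fun u => by simp [hFx])
    rw [hY5] at h
    have hle : Module.finrank F (Y ⊓ Fx : Submodule F V) ≤ 1 :=
      hFx1 ▸ Submodule.finrank_mono inf_le_right
    generalize hj : Module.finrank F (Y ⊓ Fx : Submodule F V) = j at h hle
    interval_cases j <;> norm_num at h
    have : y ∈ Y ⊓ Fx := ⟨hy, (hFx y).mpr hXy⟩
    rwa [Submodule.finrank_eq_zero.mp hj, Submodule.mem_bot] at this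
  obtain ⟨e, he, he0⟩ := Submodule.exists_mem_ne_zero_of_ne_bot (p := Fx) (by
    intro h; rw [h, finrank_bot] at hFx1; omega)
  have heY : ∀ y ∈ Y, D.h y e = 0 := by
    rintro y ⟨v, rfl⟩
    show D.h ((X : V →ₗ[F] V) v - v) e = 0
    rw [D.sub_left, LinearEquiv.coe_coe]
    conv_lhs => arg 1; arg 3; rw [← (hFx e).mp he]
    rw [hXdef, (x : D.SUgrp).2.1, sub_self]
  have hfree : ∀ g : D.SUgrp, (g : V ≃ₗ[F] V) * X = X * (g : V ≃ₗ[F] V) → ∀ v ∈ Y, v ≠ 0 →
      (g : V ≃ₗ[F] V) v = v → g = 1 := by
    intro g hc v hvY hv0 hgv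
    let U : Submodule F V := Y ⊓ LinearMap.ker (((g : V ≃ₗ[F] V) : V →ₗ[F] V) - LinearMap.id)
    have hUm : ∀ u, u ∈ U ↔ u ∈ Y ∧ (g : V ≃ₗ[F] V) u = u := fun u => by
      simp [U, LinearMap.mem_ker, sub_eq_zero]
    have hcomm : ∀ u, (g : V ≃ₗ[F] V) (X u) = X ((g : V ≃ₗ[F] V) u) := fun u => LinearEquiv.congr_fun hc u
    have h := eleven_modEq hF4 hX11 U (fun u hu => (hUm _).mpr ⟨hYX u ((hUm u).mp hu).1, by
        rw [hcomm, ((hUm u).mp hu).2]⟩) ⊥ (fun u => by
      refine ⟨fun hu => ?_, fun hu => ?_⟩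
      · rw [Submodule.mem_bot] at hu; subst hu; exact ⟨U.zero_mem, map_zero _⟩
      · rw [Submodule.mem_bot]; exact hYfix u ((hUm u).mp hu.1).1 hu.2)
    rw [finrank_bot] at h
    have hle : Module.finrank F U ≤ 5 := hY5 ▸ Submodule.finrank_mono inf_le_left
    generalize hj : Module.finrank F U = j at h hle
    interval_cases j <;> norm_num at h
    · refine absurd ?_ hv0
      have : v ∈ U := (hUm v).mpr ⟨hvY, hgv⟩
      rwa [Submodule.finrank_eq_zero.mp hj, Submodule.mem_bot] at this
    have hUY : U = Y := Submodule.eq_of_le_of_finrank_eq inf_le_left (hj.trans hY5.symm)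
    have hgY : ∀ y ∈ Y, (g : V ≃ₗ[F] V) y = y := fun y hy => ((hUm y).mp (hUY ▸ hy)).2
    -- `e` spans the orthogonal of `Y`
    have hee : D.h e e ≠ 0 := by
      intro hee
      refine he0 (D.nondeg e fun z => ?_)
      obtain ⟨a, ha, b, hb, rfl⟩ : ∃ a ∈ Fx, ∃ b ∈ Y, a + b = z := by
        have hdisj : Fx ⊓ Y = ⊥ := by
          rw [eq_bot_iff]
          exact fun u hu => (Submodule.mem_bot F).mpr (hYfix u hu.2 ((hFx u).mp hu.1))
        have hsup : Fx ⊔ Y = ⊤ := by
          apply Submodule.eq_top_of_finrank_eq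
          have h := Submodule.finrank_sup_add_finrank_inf_eq Fx Y
          rw [hdisj, finrank_bot, hFx1, hY5] at h
          rw [hk]; omega
        exact Submodule.mem_sup.mp (hsup ▸ Submodule.mem_top)
      obtain ⟨c, rfl⟩ : ∃ c : F, c • e = a := by
        obtain ⟨c, hc⟩ := exists_smul_eq_of_finrank_eq_one hFx1 (x := ⟨e, he⟩)
          (fun h => he0 (congrArg Subtype.val h)) ⟨a, ha⟩
        exact ⟨c, congrArg Subtype.val hc⟩
      rw [D.add_right, D.smul_right, hee, D.eq_zero_comm (heY b hb)]; ring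
    have hdecomp : ∀ z, z - (D.h z e / D.h e e) • e ∈ Y := by
      intro z
      have hle : Y ≤ D.cutOne ⊤ e := fun y hy => D.mem_cutOne.mpr ⟨trivial, heY y hy⟩
      have h5 := D.finrank_cutOne (Submodule.mem_top (x := e)) hee
      rw [finrank_top, hk] at h5
      rw [Submodule.eq_of_le_of_finrank_eq hle (by omega), D.mem_cutOne]
      exact ⟨trivial, by rw [D.sub_left, D.smul_left, div_mul_cancel₀ _ hee, sub_self]⟩
    set c := D.h ((g : V ≃ₗ[F] V) e) e / D.h e e
    have hge : (g : V ≃ₗ[F] V) e = c • e := by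
      have hz := hdecomp ((g : V ≃ₗ[F] V) e)
      have h0 : (g : V ≃ₗ[F] V) e - c • e = 0 := by
        have hX : X ((g : V ≃ₗ[F] V) e) = (g : V ≃ₗ[F] V) e := by rw [← hcomm, (hFx e).mp he]
        refine hYfix _ hz ?_
        rw [map_sub, map_smul, hX, (hFx e).mp he]
      exact sub_eq_zero.mp h0
    have hform : ((g : V ≃ₗ[F] V) : V →ₗ[F] V) =
        LinearMap.transvection (((c - 1) / D.h e e) • D.dot e) e := by
      refine LinearMap.ext fun z => ?_
      simp only [LinearEquiv.coe_coe, LinearMap.transvection.apply, LinearMap.smul_apply, dot_apply, smul_eq_mul]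
      have hx' := hgY _ (hdecomp z)
      rw [map_sub, map_smul, hge, sub_eq_iff_eq_add] at hx'
      rw [hx']
      module
    have hd := congrArg Units.val g.2.2
    rw [LinearEquiv.coe_det, hform, LinearMap.transvection.det] at hd
    simp only [LinearMap.smul_apply, dot_apply, smul_eq_mul, div_mul_cancel₀ _ hee, Units.val_one] at hd
    have hc1 : c = 1 := by linear_combination hd
    refine Subtype.ext (LinearEquiv.toLinearMap_injective ?_)
    rw [hform, hc1, sub_self, zero_div, zero_smul]
    ext z; simp [LinearMap.transvection.apply]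
  -- no inverting involution
  have hnoinv : ∀ g : D.SUgrp, g * g = 1 → g * (x : D.SUgrp) * g = (x : D.SUgrp)⁻¹ → False := by
    intro g hg hgx
    have hg' : ∀ v, (g : V ≃ₗ[F] V) ((g : V ≃ₗ[F] V) v) = v := fun v =>
      LinearEquiv.congr_fun (congrArg Subtype.val hg) v
    have hgx' : ∀ v, (g : V ≃ₗ[F] V) (X ((g : V ≃ₗ[F] V) v)) = X.symm v := fun v =>
      LinearEquiv.congr_fun (congrArg Subtype.val hgx) v
    have hgY : ∀ y ∈ Y, (g : V ≃ₗ[F] V) y ∈ Y := by
      rintro y ⟨v, rfl⟩
      refine ⟨-X.symm ((g : V ≃ₗ[F] V) v), ?_⟩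
      have e1 : (g : V ≃ₗ[F] V) (X v) = X.symm ((g : V ≃ₗ[F] V) v) := by rw [← hgx', hg']
      simp only [LinearMap.sub_apply, LinearEquiv.coe_coe, LinearMap.id_apply, map_sub, map_neg,
        LinearEquiv.apply_symm_apply, e1]
      abel
    have h2 : (2 : F) = 0 := by
      obtain ⟨p₀, hc⟩ := CharP.exists F
      obtain ⟨n, hp, hn⟩ := FiniteField.card F p₀
      rw [hF4] at hn
      have : p₀ = 2 := by
        have hd : p₀ ∣ 2 ^ 2 := by
          rw [show (2 : ℕ) ^ 2 = 4 by norm_num, hn]; exact dvd_pow_self _ n.ne_zero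
        exact (Nat.prime_dvd_prime_iff_eq hp Nat.prime_two).mp (hp.dvd_of_dvd_pow hd)
      subst this
      exact CharP.cast_eq_zero F 2
    let φ : Y →ₗ[F] V := (((g : V ≃ₗ[F] V) : V →ₗ[F] V) - LinearMap.id).comp Y.subtype
    have hker : 3 ≤ Module.finrank F (LinearMap.ker φ) := by
      have h := LinearMap.finrank_range_add_finrank_ker φ
      have hle : Module.finrank F (LinearMap.range φ) ≤ Module.finrank F (LinearMap.ker φ) := by
        rw [← Submodule.finrank_map_subtype_eq Y (LinearMap.ker φ)]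
        refine Submodule.finrank_mono ?_
        rintro _ ⟨y, rfl⟩
        refine ⟨⟨φ y, Y.sub_mem (hgY y y.2) y.2⟩, ?_, rfl⟩
        rw [SetLike.mem_coe, LinearMap.mem_ker]
        show (g : V ≃ₗ[F] V) ((g : V ≃ₗ[F] V) y - y) - ((g : V ≃ₗ[F] V) y - y) = 0
        rw [map_sub, hg']
        calc (y : V) - (g : V ≃ₗ[F] V) y - ((g : V ≃ₗ[F] V) y - y)
            = (2 : F) • ((y : V) - (g : V ≃ₗ[F] V) y) := by module
          _ = 0 := by rw [h2, zero_smul]
      rw [hY5] at h
      omega
    set U := (LinearMap.ker φ).map Y.subtype with hUdef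
    have hU : Module.finrank F U = Module.finrank F (LinearMap.ker φ) := Submodule.finrank_map_subtype_eq _ _
    have hUY : U ≤ Y := Submodule.map_subtype_le _ _
    have hUfix : ∀ u ∈ U, (g : V ≃ₗ[F] V) u = u := by
      rintro _ ⟨y, hy, rfl⟩
      exact sub_eq_zero.mp hy
    set U₂ := U.map (X : V →ₗ[F] V)
    have hU₂ : Module.finrank F U₂ = Module.finrank F U := LinearEquiv.finrank_map_eq _ _
    have hU₂Y : U₂ ≤ Y := by
      rintro _ ⟨u, hu, rfl⟩
      exact hYX u (hUY hu)
    have hinf : 1 ≤ Module.finrank F (U ⊓ U₂ : Submodule F V) := by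
      have h := Submodule.finrank_sup_add_finrank_inf_eq U U₂
      have hle : Module.finrank F (U ⊔ U₂ : Submodule F V) ≤ 5 := hY5 ▸ Submodule.finrank_mono (sup_le hUY hU₂Y)
      omega
    obtain ⟨v, ⟨hv1, u, hu, rfl⟩, hv0⟩ := Submodule.exists_mem_ne_zero_of_ne_bot (p := U ⊓ U₂) (by
      intro h; rw [h, finrank_bot] at hinf; omega)
    have e1 : X.symm u = X u := by
      rw [← hgx', hUfix u hu]
      exact hUfix _ hv1
    have e2 : X (X u) = u := by
      conv_rhs => rw [← X.apply_symm_apply u, e1]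
    have e3 : X u = u := by
      have hpow : ∀ n : ℕ, (X ^ (2 * n)) u = u := by
        intro n
        induction n with
        | zero => rfl
        | succ n ih =>
          rw [show 2 * (n + 1) = 2 * n + 1 + 1 by ring, pow_succ, pow_succ]
          simp only [LinearEquiv.mul_apply, e2]
          exact ih
      have := hpow 6
      rw [show 2 * 6 = 11 + 1 by norm_num, pow_succ, hX11, one_mul] at this
      exact this
    exact hv0 (by rw [LinearEquiv.coe_coe, e3]; exact hYfix u (hUY hu) e3)
  -- the centraliser of `x` is small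
  let C : Subgroup K := Subgroup.centralizer {x}
  have hC33 : Nat.card C ≤ 33 ∧ Odd (Nat.card C) := by
    let Pt := {w : Y // w ≠ 0}
    have hmaps : ∀ (c : C) (y : V), y ∈ Y → (((c : K) : D.SUgrp) : V ≃ₗ[F] V) y ∈ Y := by
      rintro c y ⟨v, rfl⟩
      refine ⟨(((c : K) : D.SUgrp) : V ≃ₗ[F] V) v, ?_⟩
      have hcx : (((c : K) : D.SUgrp) : V ≃ₗ[F] V) * X = X * (((c : K) : D.SUgrp) : V ≃ₗ[F] V) :=
        congrArg Subtype.val (congrArg Subtype.val (Subgroup.mem_centralizer_singleton_iff.mp c.2))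
      have := LinearEquiv.congr_fun hcx v
      simp only [LinearEquiv.mul_apply] at this
      simp [map_sub, this]
    let _ : MulAction C Pt :=
      { smul := fun c w => ⟨⟨(((c : K) : D.SUgrp) : V ≃ₗ[F] V) w.1.1, hmaps c _ w.1.2⟩, fun h =>
          w.2 (Subtype.ext ((LinearEquiv.map_eq_zero_iff _).mp (congrArg Subtype.val h)))⟩
        one_smul := fun w => rfl
        mul_smul := fun c c' w => rfl }
    have hdvd : Nat.card C ∣ Nat.card Pt := by
      have hst : ∀ w : Pt, MulAction.stabilizer C w = ⊥ := by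
        intro w
        rw [Subgroup.eq_bot_iff_forall]
        intro c hc
        apply Subtype.ext
        apply Subtype.ext
        exact hfree _ (congrArg Subtype.val (congrArg Subtype.val
          (Subgroup.mem_centralizer_singleton_iff.mp c.2))) w.1.1 w.1.2
          (fun h => w.2 (Subtype.ext h)) (congrArg Subtype.val (congrArg Subtype.val hc))
      have : Fintype (Quotient (MulAction.orbitRel C Pt)) := Fintype.ofFinite _
      rw [Nat.card_congr (MulAction.selfEquivSigmaOrbits C Pt), Nat.card_sigma,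
        Finset.sum_congr rfl (fun ω _ => by
          rw [Nat.card_coe_set_eq, ← MulAction.index_stabilizer, hst, Subgroup.index_bot]),
        Finset.sum_const, smul_eq_mul]
      exact Dvd.intro_left _ rfl
    have hPt : Nat.card Pt = 1023 := by
      have : Fintype Y := Fintype.ofFinite Y
      rw [Nat.card_eq_fintype_card, Fintype.card_subtype_compl, Fintype.card_subtype_eq,
        Module.card_eq_pow_finrank (K := F), hF4, hY5]
      norm_num
    rw [hPt] at hdvd
    refine ⟨Nat.le_of_dvd (by norm_num) ((Nat.dvd_gcd hdvd (hK ▸ C.card_subgroup_dvd_card)).trans (by norm_num)),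
      Odd.of_dvd_nat (by decide) hdvd⟩
  set N : Subgroup K := Subgroup.normalizer ((P : Subgroup K) : Set K)
  -- the normaliser has odd order
  have hNodd : Nat.card N % 2 = 1 := by
    by_contra heven
    have : Fact (Nat.Prime 2) := ⟨Nat.prime_two⟩
    obtain ⟨g, hg⟩ := exists_prime_orderOf_dvd_card' (G := N) 2 (Nat.dvd_of_mod_eq_zero (by omega))
    rw [← Subgroup.orderOf_coe] at hg
    have hg2 : (g : K) * g = 1 := by rw [← pow_two, ← hg, pow_orderOf_eq_one]
    have hinv : (g : K)⁻¹ = g := inv_eq_of_mul_eq_one_left hg2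
    have hgen : Subgroup.zpowers x = (P : Subgroup K) :=
      Subgroup.eq_of_le_of_card_ge (Subgroup.zpowers_le.mpr hxP) (by
        rw [Nat.card_zpowers, hx]
        exact le_of_eq hP)
    obtain ⟨j, hj⟩ := Subgroup.mem_zpowers_iff.mp
      (hgen.symm ▸ (Subgroup.mem_normalizer_iff.mp g.2 x).mp hxP)
    rw [hinv] at hj
    -- the exponent squares to one
    have hjj : x ^ (j * j) = x := by
      have h1 : ((g : K) * x * g) ^ j = (g : K) * x ^ j * g := by
        conv_lhs => arg 1; arg 2; rw [← hinv]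
        rw [conj_zpow, hinv]
      rw [zpow_mul, hj, h1, hj]
      simp only [← mul_assoc, hg2, one_mul]
      rw [mul_assoc, hg2, mul_one]
    have hmod : (j * j - 1) % 11 = 0 := by
      have h2 : x ^ (j * j - 1) = 1 := by rw [zpow_sub_one, hjj, mul_inv_cancel]
      have h3 := orderOf_dvd_iff_zpow_eq_one.mpr h2
      rw [hx] at h3
      exact Int.emod_eq_zero_of_dvd h3
    have hj11 : j % 11 = 1 ∨ j % 11 = 10 := by
      have h4 : (j % 11 * (j % 11)) % 11 = 1 := by
        rw [← Int.mul_emod]
        omega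
      have hlo := Int.emod_nonneg j (show (11 : ℤ) ≠ 0 by norm_num)
      have hhi := Int.emod_lt_of_pos j (show (0 : ℤ) < 11 by norm_num)
      generalize j % 11 = i at h4 hlo hhi ⊢
      interval_cases i <;> omega
    have hxj : x ^ j = x ^ (j % 11) := by
      rw [← zpow_mod_orderOf, hx]
      norm_num
    rcases hj11 with h | h
    · -- an even centraliser
      rw [hxj, h, zpow_one] at hj
      have hgC : (g : K) ∈ C := by
        rw [Subgroup.mem_centralizer_singleton_iff]
        calc (g : K) * x = (g : K) * ((g : K) * x * g) := by rw [← hj]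
          _ = x * g := by simp only [← mul_assoc, hg2, one_mul]
      have hdv := orderOf_dvd_natCard (⟨(g : K), hgC⟩ : C)
      rw [← Subgroup.orderOf_coe, Subgroup.coe_mk, hg] at hdv
      exact Nat.not_even_iff_odd.mpr hC33.2 (even_iff_two_dvd.mpr hdv)
    · rw [hxj, h] at hj
      have h10 : x ^ (10 : ℤ) = x⁻¹ := by
        apply eq_inv_of_mul_eq_one_left
        rw [← zpow_add_one, show (10 : ℤ) + 1 = ((11 : ℕ) : ℤ) by norm_num, zpow_natCast, ← hx, pow_orderOf_eq_one]
      rw [h10] at hj
      exact hnoinv ((g : K) : D.SUgrp) (congrArg Subtype.val hg2) (congrArg Subtype.val hj.symm)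
  -- so it is small, against the congruence
  let f : N → (P : Subgroup K) := fun n => ⟨(n : K) * x * (n : K)⁻¹,
    (Subgroup.mem_normalizer_iff.mp n.2 x).mp hxP⟩
  have : Fintype N := Fintype.ofFinite N
  have hbound : Fintype.card N ≤ 33 * (Finset.univ.image f).card := by
    rw [← Finset.card_univ]
    refine Finset.card_le_mul_card_image _ _ fun y hy => ?_
    obtain ⟨n₀, -, rfl⟩ := Finset.mem_image.mp hy
    refine le_trans ?_ hC33.1
    have : Fintype C := Fintype.ofFinite C
    rw [Nat.card_eq_fintype_card, ← Finset.card_univ (α := C)]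
    refine Finset.card_le_card_of_injOn
      (fun n => if h : (n₀ : K)⁻¹ * n ∈ C then (⟨_, h⟩ : C) else 1) (fun _ _ => Finset.mem_univ _) ?_
    have hmem : ∀ n : N, f n = f n₀ → (n₀ : K)⁻¹ * n ∈ C := by
      intro n hn
      rw [Subgroup.mem_centralizer_singleton_iff]
      have h1 : (n : K) * x * (n : K)⁻¹ = (n₀ : K) * x * (n₀ : K)⁻¹ := congrArg Subtype.val hn
      rw [mul_inv_eq_iff_eq_mul] at h1
      rw [mul_assoc, h1]
      group
    intro n hn n' hn' h
    simp only [Finset.coe_filter, Finset.mem_univ, true_and, Set.mem_setOf_eq] at hn hn'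
    simp only [dif_pos (hmem n hn), dif_pos (hmem n' hn'), Subtype.mk.injEq, mul_right_inj] at h
    exact Subtype.ext h
  have himg : (Finset.univ.image f).card ≤ 10 := by
    have : Fintype (P : Subgroup K) := Fintype.ofFinite _
    have h11 : Fintype.card (P : Subgroup K) = 11 := by rw [← Nat.card_eq_fintype_card]; exact hP
    refine le_trans (Finset.card_le_card (t := Finset.univ.erase 1) fun y hy => ?_)
      (by rw [Finset.card_erase_of_mem (Finset.mem_univ _), Finset.card_univ, h11])
    obtain ⟨n, -, rfl⟩ := Finset.mem_image.mp hy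
    rw [Finset.mem_erase]
    refine ⟨fun h => ?_, Finset.mem_univ _⟩
    have h1 : (n : K) * x * (n : K)⁻¹ = 1 := congrArg Subtype.val h
    rw [mul_inv_eq_one, mul_eq_left] at h1
    rw [h1, orderOf_one] at hx
    norm_num at hx
  have h1 := N.card_mul_index
  rw [hK] at h1
  change Nat.card N * (Subgroup.normalizer (P : Set K)).index = _ at h1
  rw [← P.card_eq_index_normalizer, mul_comm] at h1
  have h330 := six_two_sylow (hidx ▸ P.card_dvd_index) (card_sylow_modEq_one 11 K) h1 hNodd
  rw [Nat.card_eq_fintype_card] at h330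
  omega

section

variable {D} [Finite V] [FiniteDimensional F V]

/-- every proper subgroup has index at least `672` -/
theorem index_ge_six_two (hq2 : D.q = 2) (hk : Module.finrank F V = 4 + 2)
    (hgen : D.SUgrp ≤ D.tgam (⊤ : Submodule F V)) (hcard : Nat.card D.SUgrp = 27590492160)
    (hI : (D.normSet (⊤ : Submodule F V) 0).ncard = 2079) (H : Subgroup D.SUgrp) (hH : H ≠ ⊤) :
    672 ≤ H.index := by
  classical
  have hF4 : Fintype.card F = 4 := by rw [D.card_F, hq2]; norm_num
  have : Finite (V ≃ₗ[F] V) := Finite.of_injective (fun g => (g : V → V)) DFunLike.coe_injective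
  have : Fintype V := Fintype.ofFinite V
  obtain ⟨p, p', hP⟩ := D.exists_pair D.nondeg_top (by rw [finrank_top, hk]; omega)
  by_contra hlt
  push Not at hlt
  let Ω := D.SUgrp ⧸ H
  have : Fintype Ω := Fintype.ofFinite _
  have hcΩ : Nat.card Ω = H.index := rfl
  -- transport between transvections
  obtain ⟨s, hs, hs0⟩ := D.exists_skew_ne
  have hskew : ∀ a : D.skew, a = 0 ∨ a = ⟨s, hs⟩ := by
    intro a
    have hc : Fintype.card D.skew = 2 := by rw [← Nat.card_eq_fintype_card, D.card_skew, hq2]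
    by_contra hcon
    push Not at hcon
    have h3 := Finset.card_le_univ ({0, ⟨s, hs⟩, a} : Finset D.skew)
    rw [Finset.card_insert_of_notMem, Finset.card_insert_of_notMem, Finset.card_singleton, hc] at h3
    · omega
    · simp [hcon.2.symm]
    · have h00 : (0 : D.skew) ≠ ⟨s, hs⟩ := fun h => hs0 (congrArg Subtype.val h).symm
      simp [hcon.1.symm, h00]
  set O := (D.normSet (⊤ : Submodule F V) 0).toFinset
  have htau : ∀ v ∈ O, D.h v v = 0 := fun v hv => (Set.mem_toFinset.mp hv).2.2
  let R : V → Ω → Prop := fun v ω => ∃ hv : D.h v v = 0, (⟨D.tau hv hs, D.eEquiv_mem _⟩ : D.SUgrp) • ω = ω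
  have hRg : ∀ (g : D.SUgrp) (v : V) (ω : Ω), R ((g : V ≃ₗ[F] V) v) (g • ω) ↔ R v ω := by
    intro g v ω
    have key : ∀ (hv : D.h v v = 0) (hv' : D.h ((g : V ≃ₗ[F] V) v) ((g : V ≃ₗ[F] V) v) = 0),
        g * (⟨D.tau hv hs, D.eEquiv_mem _⟩ : D.SUgrp) = ⟨D.tau hv' hs, D.eEquiv_mem _⟩ * g := by
      intro hv hv'
      apply Subtype.ext
      simp only [Subgroup.coe_mul, tau]
      rw [D.conj_eEquiv g.2.1]
      exact congrArg (· * _) (D.eEquiv_congr _ _ (map_zero _) rfl)
    constructor
    · rintro ⟨hv', h⟩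
      have hv : D.h v v = 0 := by rwa [g.2.1] at hv'
      refine ⟨hv, MulAction.injective g ?_⟩
      show g • _ • ω = g • ω
      rw [← mul_smul, key hv hv', mul_smul, h]
    · rintro ⟨hv, h⟩
      have hv' : D.h ((g : V ≃ₗ[F] V) v) ((g : V ≃ₗ[F] V) v) = 0 := by rw [g.2.1, hv]
      exact ⟨hv', by rw [← mul_smul, ← key hv hv', mul_smul, h]⟩
  have hgmem : ∀ (g : D.SUgrp) {v : V}, v ∈ O → (g : V ≃ₗ[F] V) v ∈ O := by
    intro g v hv
    rw [Set.mem_toFinset] at hv ⊢
    exact ⟨trivial, fun h => hv.2.1 ((LinearEquiv.map_eq_zero_iff _).mp h), by rw [g.2.1, hv.2.2]⟩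
  -- some transvection moves some point
  have hmove : ∃ (ω : Ω) (a : D.skew), tz hP a • ω ≠ ω := by
    by_contra hcon
    push Not at hcon
    have hfix : ∀ (u : V) (a : F) (hu : D.h u u = 0) (ha : D.σ a = -a) (ω : Ω),
        (⟨D.tau hu ha, D.eEquiv_mem _⟩ : D.SUgrp) • ω = ω := by
      intro u a hu ha ω
      rcases eq_or_ne u 0 with rfl | hu0
      · have : (⟨D.tau hu ha, D.eEquiv_mem _⟩ : D.SUgrp) = 1 :=
          Subtype.ext (LinearEquiv.ext fun x => by simp [tau_apply])
        rw [this, one_smul]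
      obtain ⟨γ, hγ, hγp⟩ := D.gam_transitive_iso D.nondeg_top (by rw [finrank_top, hk]; omega)
        (Submodule.mem_top (x := p)) (Submodule.mem_top (x := u)) (hP.ne_zero D) hu0 hP.uu hu
      let γ' : D.SUgrp := ⟨γ, D.gam_le_SUgrp _ hγ⟩
      have h := hcon (γ'⁻¹ • ω) ⟨a, ha⟩
      have e : γ' * tz hP ⟨a, ha⟩ = ⟨D.tau hu ha, D.eEquiv_mem _⟩ * γ' := by
        apply Subtype.ext
        simp only [γ', tz, Subgroup.coe_mul, tau]
        rw [D.conj_eEquiv (D.gam_isom hγ)]
        exact congrArg (· * _) (D.eEquiv_congr3 _ _ hγp (map_zero _) rfl)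
      have h2 : γ' • tz hP ⟨a, ha⟩ • γ'⁻¹ • ω = γ' • γ'⁻¹ • ω := congrArg (fun ω => γ' • ω) h
      rwa [← mul_smul, e, mul_smul, smul_inv_smul] at h2
    refine hH (eq_top_iff.mpr fun g _ => ?_)
    have hg : (g : V ≃ₗ[F] V) ∈ D.tgam ⊤ := hgen g.2
    have hker : D.tgam (⊤ : Submodule F V) ≤ H.map D.SUgrp.subtype := by
      rw [tgam, Subgroup.closure_le]
      rintro _ ⟨u, a, hu, ha, -, rfl⟩
      have h := hfix u a hu ha ((1 : D.SUgrp) : Ω)
      rw [MulAction.Quotient.smul_coe, QuotientGroup.eq, smul_eq_mul, mul_one, mul_one] at h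
      exact ⟨_, H.inv_mem_iff.mp h, rfl⟩
    obtain ⟨g', hg', he⟩ := Subgroup.mem_map.mp (hker hg)
    rw [Subgroup.coe_subtype] at he
    rwa [Subtype.ext he] at hg'
  obtain ⟨t⟩ := exists_tors (Ω := Ω) hP hk (by omega)
    (orbB_of_four D (N := 672) hk (by omega) (by rw [hq2]; norm_num) hP) (by rw [hq2]; norm_num) (hcΩ ▸ hlt) hmove
  obtain ⟨ω₁, a₁, -⟩ := hmove
  -- the orbits allowed by the character are the moved pairs
  set E := theta (Ω := Ω) (tz hP) (tz_add hP) t.χ
  have hE : E.ncard = 256 := by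
    have hW : Nat.card (D.cutPair ⊤ p p') = 256 := by
      have hfr := D.finrank_cutPair hP
      rw [finrank_top, hk] at hfr
      rw [D.card_submodule, hq2, show Module.finrank F (D.cutPair ⊤ p p') = 4 by omega]
      norm_num
    rw [← Nat.card_coe_set_eq, ← hW]
    refine (Nat.card_eq_of_bijective (fun w => (⟨ew hP w • t.θ₀, ew_smul_mem hP w t.mem⟩ : E)) ⟨?_, ?_⟩).symm
    · intro w w' h
      exact t.free t.θ₀ t.mem w w' (congrArg Subtype.val h)
    · rintro ⟨θ, hθ⟩
      obtain ⟨w, hw⟩ := t.tors θ hθ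
      exact ⟨w, Subtype.ext hw.symm⟩
  set f := (Finset.univ.filter fun ω : Ω => tz hP ⟨s, hs⟩ • ω = ω).card
  have hd : Nat.card Ω = f + 512 := by
    rw [Nat.card_eq_fintype_card, ← Finset.card_univ,
      ← Finset.card_filter_add_card_filter_not (fun ω : Ω => tz hP ⟨s, hs⟩ • ω = ω)]
    congr 1
    set M := Finset.univ.filter fun ω : Ω => ¬ tz hP ⟨s, hs⟩ • ω = ω
    have hMeq : ∀ ω : Ω, zorb (tz hP) ω = {ω, tz hP ⟨s, hs⟩ • ω} := by
      intro ω
      ext x
      constructor
      · rintro ⟨a, rfl⟩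
        rcases hskew a with rfl | rfl
        · left
          show tz hP 0 • ω = ω
          rw [t_zero _ (tz_add hP), one_smul]
        · right; rfl
      · rintro (h | h)
        · exact h ▸ zorb_self (tz hP) (tz_add hP) ω
        · exact ⟨⟨s, hs⟩, h.symm⟩
    have himg : M.image (zorb (tz hP)) = E.toFinset := by
      ext θ
      rw [Finset.mem_image, Set.mem_toFinset]
      constructor
      · rintro ⟨ω, hω, rfl⟩
        refine ⟨ω, fun a ha => ?_, rfl⟩
        rcases hskew a with rfl | rfl
        · exact AddChar.map_zero_eq_one _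
        · exact absurd ha (Finset.mem_filter.mp hω).2
      · rintro ⟨ω, hω, rfl⟩
        refine ⟨ω, Finset.mem_filter.mpr ⟨Finset.mem_univ _, fun h => ?_⟩, rfl⟩
        apply t.ne
        ext a
        rcases hskew a with rfl | rfl
        · simp
        · rw [hω _ h, AddChar.one_apply]
    have hcM : M.card = 2 * (M.image (zorb (tz hP))).card := by
      rw [Finset.card_eq_sum_card_image (zorb (tz hP)) M, mul_comm, Finset.sum_const_nat]
      intro y hy
      obtain ⟨ω, hω, rfl⟩ := Finset.mem_image.mp hy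
      have hne : ω ≠ tz hP ⟨s, hs⟩ • ω := fun h => (Finset.mem_filter.mp hω).2 h.symm
      rw [← Finset.card_pair hne]
      congr 1
      ext x
      simp only [Finset.mem_filter, Finset.mem_insert, Finset.mem_singleton, M, Finset.mem_univ, true_and]
      constructor
      · rintro ⟨-, hx⟩
        have : x ∈ zorb (tz hP) ω := hx ▸ zorb_self (tz hP) (tz_add hP) x
        rwa [hMeq] at this
      · intro hx
        have hmem : x ∈ zorb (tz hP) ω := by rw [hMeq]; exact hx
        refine ⟨fun h => hne ?_, zorb_eq_of_mem _ (tz_add hP) hmem⟩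
        rcases hx with rfl | rfl
        · exact h.symm
        · exact MulAction.injective _ h.symm
    rw [hcM, himg, ← Set.ncard_eq_toFinset_card', hE]
  -- double counting
  have hcol : ∀ v ∈ O, (Finset.univ.filter fun ω : Ω => R v ω).card = f := by
    intro v hv
    obtain ⟨γ, hγ, hγp⟩ := D.gam_transitive_iso D.nondeg_top (by rw [finrank_top, hk]; omega)
      (Submodule.mem_top (x := p)) (Submodule.mem_top (x := v)) (hP.ne_zero D) (Set.mem_toFinset.mp hv).2.1
      hP.uu (htau v hv)
    let γ' : D.SUgrp := ⟨γ, D.gam_le_SUgrp _ hγ⟩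
    refine (Finset.card_bij' (fun ω _ => γ' • ω) (fun ω _ => γ'⁻¹ • ω) ?_ ?_ ?_ ?_).symm
    · intro ω hω
      rw [Finset.mem_filter] at hω ⊢
      refine ⟨Finset.mem_univ _, ?_⟩
      rw [← hγp]
      exact (hRg γ' p ω).mpr ⟨hP.uu, hω.2⟩
    · intro ω hω
      rw [Finset.mem_filter] at hω ⊢
      refine ⟨Finset.mem_univ _, ?_⟩
      obtain ⟨_, h'⟩ := (hRg γ' p (γ'⁻¹ • ω)).mp (by rw [smul_inv_smul]; show R (γ p) ω; rw [hγp]; exact hω.2)
      exact h'
    · intro ω _; exact inv_smul_smul _ _
    · intro ω _; exact smul_inv_smul _ _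
  set C := (O.filter fun v => R v ω₁).card
  have hrow : ∀ ω : Ω, (O.filter fun v => R v ω).card = C := by
    intro ω
    obtain ⟨g, hg⟩ := MulAction.exists_smul_eq D.SUgrp ω₁ ω
    subst hg
    refine (Finset.card_bij' (fun v _ => (g : V ≃ₗ[F] V) v) (fun v _ => (g⁻¹ : D.SUgrp).1 v) ?_ ?_ ?_ ?_).symm
    · intro v hv
      rw [Finset.mem_filter] at hv ⊢
      exact ⟨hgmem g hv.1, (hRg g v ω₁).mpr hv.2⟩
    · intro v hv
      rw [Finset.mem_filter] at hv ⊢
      refine ⟨hgmem g⁻¹ hv.1, ?_⟩
      have := (hRg g⁻¹ v (g • ω₁)).mpr hv.2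
      rwa [inv_smul_smul] at this
    · intro v _
      show ((g⁻¹ * g : D.SUgrp) : V ≃ₗ[F] V) v = v
      rw [inv_mul_cancel]; rfl
    · intro v _
      show ((g * g⁻¹ : D.SUgrp) : V ≃ₗ[F] V) v = v
      rw [mul_inv_cancel]; rfl
  have hdc : 2079 * f = Nat.card Ω * C := by
    have h1 := Finset.sum_card_bipartiteAbove_eq_sum_card_bipartiteBelow R (s := O) (t := (Finset.univ : Finset Ω))
    simp only [Finset.bipartiteAbove, Finset.bipartiteBelow] at h1
    rw [Finset.sum_congr rfl hcol, Finset.sum_congr rfl (fun ω _ => hrow ω), Finset.sum_const,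
      Finset.sum_const, smul_eq_mul, smul_eq_mul, Finset.card_univ, ← Nat.card_eq_fintype_card] at h1
    rwa [show O.card = 2079 by rw [← Set.ncard_eq_toFinset_card']; exact hI] at h1
  -- the centres over a point come in triples
  let L : V → Finset V := fun v => Finset.univ.image fun c : F => c • v
  have hC3 : C = 3 * ((O.filter fun v => R v ω₁).image L).card := by
    show (O.filter fun v => R v ω₁).card = _
    rw [Finset.card_eq_sum_card_image L (O.filter fun v => R v ω₁), mul_comm, Finset.sum_const_nat]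
    intro y hy
    obtain ⟨v, hv, rfl⟩ := Finset.mem_image.mp hy
    rw [Finset.mem_filter] at hv
    obtain ⟨hvO, hvv, hvR⟩ := hv
    have hv0 := (Set.mem_toFinset.mp hvO).2.1
    have h3 : Fintype.card Fˣ = 3 := by rw [Fintype.card_units, hF4]
    rw [← h3, ← Finset.card_univ]
    refine (Finset.card_bij (fun (c : Fˣ) _ => (c : F) • v) ?_ ?_ ?_).symm
    · intro c _
      have hcv : D.h ((c : F) • v) ((c : F) • v) = 0 := by
        rw [D.smul_left, D.smul_right, hvv, mul_zero, mul_zero]
      rw [Finset.mem_filter, Finset.mem_filter]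
      refine ⟨⟨Set.mem_toFinset.mpr ⟨trivial, smul_ne_zero c.ne_zero hv0, hcv⟩, hcv, ?_⟩, ?_⟩
      · have hc : (c : F) * D.σ c = 1 := by
          rw [D.σ_apply, hq2, ← pow_succ']
          have := FiniteField.pow_card_sub_one_eq_one (c : F) c.ne_zero
          rwa [hF4] at this
        have e : D.tau hcv hs = D.tau hvv hs := by
          refine LinearEquiv.ext fun x => ?_
          simp only [tau_apply, D.smul_right, smul_smul]
          match_scalars <;> first | ring1 | linear_combination (s * D.h x v) * hc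
        simp only [e]
        exact hvR
      · ext z
        simp only [L, Finset.mem_image, Finset.mem_univ, true_and]
        constructor
        · rintro ⟨d, rfl⟩; exact ⟨d * c, (smul_smul d (c : F) v).symm⟩
        · rintro ⟨d, rfl⟩; exact ⟨d * (c : F)⁻¹, by simp [smul_smul]⟩
    · intro c _ c' _ h
      exact Units.ext (smul_left_injective F hv0 h)
    · intro z hz
      rw [Finset.mem_filter, Finset.mem_filter] at hz
      have : z ∈ L v := hz.2 ▸ Finset.mem_image.mpr ⟨1, Finset.mem_univ _, one_smul _ _⟩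
      obtain ⟨c, -, hc⟩ := Finset.mem_image.mp this
      exact ⟨Units.mk0 c (by rintro rfl; exact (Set.mem_toFinset.mp hz.1.1).2.1 (by simpa using hc.symm)),
        Finset.mem_univ _, hc⟩
  generalize hc : ((O.filter fun v => R v ω₁).image L).card = c at hC3
  have hf : f < 128 := by
    rw [hcΩ] at hd hdc
    rw [hC3] at hdc
    exact six_two_degree hd (c := c) (by linarith) hlt
  have hcolp : (Finset.univ.filter fun ω : Ω => tz hP ⟨s, hs⟩ • ω = ω).card = f := rfl
  -- an orthogonal transvection fixes no moved point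
  have hincl : ∀ {p p' : V}, D.Pair (⊤ : Submodule F V) p p' → ∀ u : V, u ∈ D.cutPair ⊤ p p' → u ≠ 0 →
      D.h u u = 0 → ∀ ω : Ω, R u ω → R p ω := by
    intro p₁ p₁' hP₁ u huW hu0 huu ω hRu
    by_contra hRp
    have hmv : tz hP₁ ⟨s, hs⟩ • ω ≠ ω := fun h => hRp ⟨hP₁.uu, h⟩
    obtain ⟨t₁⟩ := exists_tors (Ω := Ω) hP₁ hk (by omega)
      (orbB_of_four D (N := 672) hk (by omega) (by rw [hq2]; norm_num) hP₁) (by rw [hq2]; norm_num)
      (hcΩ ▸ hlt) ⟨ω, ⟨s, hs⟩, hmv⟩
    have hθ : zorb (tz hP₁) ω ∈ theta (Ω := Ω) (tz hP₁) (tz_add hP₁) t₁.χ := by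
      refine ⟨ω, fun a ha => ?_, rfl⟩
      rcases hskew a with rfl | rfl
      · exact AddChar.map_zero_eq_one _
      · exact absurd ha hmv
    set W₁ := D.cutPair ⊤ p₁ p₁'
    have hW₁ : D.Nondeg W₁ := D.nondeg_cutPair D.nondeg_top hP₁
    have hW4 := D.finrank_cutPair hP₁
    rw [finrank_top, hk] at hW4
    change Module.finrank F W₁ + 2 = _ at hW4
    obtain ⟨u', hPu⟩ := D.exists_partner hW₁ huW hu0 huu
    have hZ2 := D.finrank_cutPair hPu
    set Z := D.cutPair W₁ u u'
    have hZc : Nat.card (F × Z × D.skew) = 128 := by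
      rw [Nat.card_prod, Nat.card_prod, Nat.card_eq_fintype_card, hF4, D.card_submodule, D.card_skew, hq2,
        show Module.finrank F Z = 2 by omega]
      norm_num
    let wv : F × Z → W₁ := fun r => ⟨r.1 • u + (r.2 : V),
      W₁.add_mem (W₁.smul_mem _ huW) (D.mem_cutPair.mp r.2.2).1⟩
    have hwu : ∀ r, D.h (wv r : V) u = 0 := fun r => by
      show D.h (r.1 • u + (r.2 : V)) u = 0
      rw [D.add_left, D.smul_left, huu, (D.mem_cutPair.mp r.2.2).2.1]; ring
    have hwvinj : Function.Injective wv := by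
      rintro ⟨c, z⟩ ⟨c', z'⟩ h
      have h' : c • u + (z : V) = c' • u + (z' : V) := congrArg Subtype.val h
      have e := congrArg (fun v => D.h v u') h'
      simp only [D.add_left, D.smul_left, hPu.uv, (D.mem_cutPair.mp z.2).2.2, (D.mem_cutPair.mp z'.2).2.2,
        mul_one, add_zero] at e
      subst e
      rw [Subtype.ext (add_left_cancel h')]
    obtain ⟨_, hfix⟩ := hRu
    let τu : D.SUgrp := ⟨D.tau huu hs, D.eEquiv_mem _⟩
    have hτp : (τu : V ≃ₗ[F] V) p₁ = p₁ := by
      show D.tau huu hs p₁ = p₁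
      rw [tau_apply, perp_p hP₁ huW]; simp
    have hcw : ∀ r, τu * ew hP₁ (wv r) = ew hP₁ (wv r) * τu := fun r =>
      ew_conj hP₁ hτp (wv r) (wv r) (by
        show (wv r : V) = D.tau huu hs (wv r)
        rw [tau_apply, hwu]; simp)
    let g : F × Z × D.skew → Ω := fun r => tz hP₁ r.2.2 • ew hP₁ (wv (r.1, r.2.1)) • ω
    have hgfix : ∀ r, R u (g r) := fun r => ⟨huu, by
      show τu • tz hP₁ r.2.2 • ew hP₁ (wv (r.1, r.2.1)) • ω = _
      rw [← mul_smul, comm_tz hP₁ hτp, mul_smul, ← mul_smul τu, hcw, mul_smul]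
      exact congrArg (fun y => tz hP₁ r.2.2 • ew hP₁ (wv (r.1, r.2.1)) • y) hfix⟩
    have hginj : Function.Injective g := by
      rintro ⟨c, z, a⟩ ⟨c', z', a'⟩ h
      have hz : ∀ r a, zorb (tz hP₁) (tz hP₁ a • ew hP₁ (wv r) • ω) = ew hP₁ (wv r) • zorb (tz hP₁) ω := by
        intro r a
        rw [zorb_shift _ (tz_add hP₁), smul_zorb (tz hP₁) (π := AddEquiv.refl D.skew)
          (fun b => comm_tz hP₁ (ew_fix_p hP₁ (wv r)) b)]
      have h' := congrArg (zorb (tz hP₁)) h
      simp only [g] at h h'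
      rw [hz, hz] at h'
      have hw := t₁.free _ hθ _ _ h'
      obtain ⟨rfl, rfl⟩ := Prod.mk.inj (hwvinj hw)
      rw [← mul_smul, ← mul_smul, ← comm_tz hP₁ (ew_fix_p hP₁ _), ← comm_tz hP₁ (ew_fix_p hP₁ _),
        mul_smul, mul_smul] at h
      have h2 := MulAction.injective _ h
      rcases hskew a with rfl | rfl <;> rcases hskew a' with rfl | rfl
      · rfl
      · rw [t_zero _ (tz_add hP₁), one_smul] at h2; exact absurd h2.symm hmv
      · rw [t_zero _ (tz_add hP₁), one_smul] at h2; exact absurd h2 hmv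
      · rfl
    have h128 : 128 ≤ (Finset.univ.filter fun ω : Ω => R u ω).card := by
      rw [← hZc, ← Fintype.card_subtype, ← Nat.card_eq_fintype_card (α := {ω : Ω // R u ω})]
      exact Nat.card_le_card_of_injective (fun r => (⟨g r, hgfix r⟩ : {ω : Ω // R u ω}))
        fun r r' h => hginj (congrArg Subtype.val h)
    rw [hcol u (Set.mem_toFinset.mpr ⟨trivial, hu0, huu⟩)] at h128
    omega
  -- so a transvection fixes no point
  have hf0 : f = 0 := by
    by_contra hne
    obtain ⟨ω, hω⟩ : (Finset.univ.filter fun ω : Ω => tz hP ⟨s, hs⟩ • ω = ω).Nonempty := by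
      rw [← Finset.card_pos, hcolp]; omega
    have hRp : R p ω := ⟨hP.uu, (Finset.mem_filter.mp hω).2⟩
    -- step to an orthogonal independent centre
    have hstep : ∀ a b : V, a ≠ 0 → b ≠ 0 → D.h a a = 0 → D.h b b = 0 → D.h b a = 0 →
        (∀ c : F, a ≠ c • b) → ∀ ω : Ω, R b ω → R a ω := by
      intro a b ha0 hb0 haa hbb hba hind ω hb
      obtain ⟨v, -, hvb, hva⟩ := D.exists_pairing_orth D.nondeg_top (Submodule.mem_top (x := b))
        (Submodule.mem_top (x := a)) hind
      obtain ⟨d, hd'⟩ := D.exists_trace (b := -D.h v v) (by rw [map_neg, D.self_fixed])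
      have hav : D.h a v = 1 := by rw [← D.symm, hva, map_one]
      have hPa : D.Pair (⊤ : Submodule F V) a (v + d • a) := by
        refine ⟨trivial, trivial, haa, ?_, ?_⟩
        · rw [D.add_left, D.add_right, D.add_right, D.smul_left, D.smul_left, D.smul_right, D.smul_right,
            haa, hva, hav]
          linear_combination hd'
        · rw [D.add_right, D.smul_right, haa, hav, mul_zero, add_zero]
      refine hincl hPa b (D.mem_cutPair.mpr ⟨trivial, hba, ?_⟩) hb0 hbb ω hb
      rw [D.add_right, D.smul_right, hba, mul_zero, add_zero, D.eq_zero_comm hvb]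
    have hall : ∀ v : V, v ≠ 0 → D.h v v = 0 → R v ω := by
      intro v hv0 hvv
      by_cases hgood : D.h p v = 0 ∧ ∀ c : F, v ≠ c • p
      · exact hstep v p hv0 (hP.ne_zero D) hvv hP.uu hgood.1 hgood.2 ω hRp
      -- an isotropic vector orthogonal to both
      obtain ⟨w, hw0, hww, hwp, hwv, hwp', hwv'⟩ : ∃ w : V, w ≠ 0 ∧ D.h w w = 0 ∧ D.h w p = 0 ∧
          D.h w v = 0 ∧ (∀ c : F, w ≠ c • p) ∧ (∀ c : F, v ≠ c • w) := by
        by_cases hpv : D.h p v = 0
        · push Not at hgood
          obtain ⟨c, rfl⟩ := hgood hpv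
          have hW := D.nondeg_cutPair D.nondeg_top hP
          have hfr := D.finrank_cutPair hP
          rw [finrank_top, hk] at hfr
          obtain ⟨w, w', hPw⟩ := D.exists_pair hW (by omega)
          obtain ⟨-, h1, h2⟩ := D.mem_cutPair.mp hPw.mu
          refine ⟨w, hPw.ne_zero D, hPw.uu, h1, by rw [D.smul_right, h1, mul_zero], fun d hd' => ?_, fun d hd' => ?_⟩
          · rw [hd', D.smul_left, hP.uv, mul_one] at h2
            exact hPw.ne_zero D (by rw [hd', h2, zero_smul])
          · have h3 := congrArg (fun z => D.h z p') hd'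
            simp only [D.smul_left, hP.uv, h2, mul_one, mul_zero] at h3
            exact hv0 (by rw [h3, zero_smul])
        · have hvp : D.h v p ≠ 0 := fun h => hpv (D.eq_zero_comm h)
          have hP' : D.Pair (⊤ : Submodule F V) p ((D.h v p)⁻¹ • v) :=
            ⟨trivial, trivial, hP.uu, by rw [D.smul_left, D.smul_right, hvv, mul_zero, mul_zero],
              by rw [D.smul_right, map_inv₀, D.symm, inv_mul_cancel₀ hpv]⟩
          have hW := D.nondeg_cutPair D.nondeg_top hP'
          have hfr := D.finrank_cutPair hP'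
          rw [finrank_top, hk] at hfr
          obtain ⟨w, w', hPw⟩ := D.exists_pair hW (by omega)
          obtain ⟨-, h1, h2⟩ := D.mem_cutPair.mp hPw.mu
          have h2' : D.h w v = 0 := by
            rw [D.smul_right, mul_eq_zero] at h2
            exact h2.resolve_left ((map_ne_zero D.σ).mpr (inv_ne_zero hvp))
          refine ⟨w, hPw.ne_zero D, hPw.uu, h1, h2', fun d hd' => ?_, fun d hd' => ?_⟩
          · rw [hd', D.smul_left, mul_eq_zero] at h2'
            rcases h2' with h | h
            · exact hPw.ne_zero D (by rw [hd', h, zero_smul])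
            · exact hpv h
          · exact hvp (by rw [hd', D.smul_left, h1, mul_zero])
      exact hstep v w hv0 hw0 hvv hww hwv hwv' ω
        (hstep w p hw0 (hP.ne_zero D) hww hP.uu (D.eq_zero_comm hwp) hwp' ω hRp)
    have htop : MulAction.stabilizer D.SUgrp ω = ⊤ := by
      have hker : D.tgam (⊤ : Submodule F V) ≤ (MulAction.stabilizer D.SUgrp ω).map D.SUgrp.subtype := by
        rw [tgam, Subgroup.closure_le]
        rintro _ ⟨u, a, hu, ha, -, rfl⟩
        refine ⟨⟨D.tau hu ha, D.eEquiv_mem _⟩, ?_, rfl⟩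
        show _ • ω = ω
        rcases eq_or_ne u 0 with rfl | hu0
        · have : (⟨D.tau hu ha, D.eEquiv_mem _⟩ : D.SUgrp) = 1 :=
            Subtype.ext (LinearEquiv.ext fun x => by simp [tau_apply])
          rw [this, one_smul]
        rcases hskew ⟨a, ha⟩ with h | h
        · obtain rfl : a = 0 := congrArg Subtype.val h
          have : (⟨D.tau hu ha, D.eEquiv_mem _⟩ : D.SUgrp) = 1 :=
            Subtype.ext (LinearEquiv.ext fun x => by simp [tau_apply])
          rw [this, one_smul]
        · obtain rfl : a = s := congrArg Subtype.val h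
          obtain ⟨_, h'⟩ := hall u hu0 hu
          exact h'
      refine eq_top_iff.mpr fun g _ => ?_
      obtain ⟨g', hg', he⟩ := Subgroup.mem_map.mp (hker (hgen g.2))
      rw [Subgroup.coe_subtype] at he
      rwa [Subtype.ext he] at hg'
    have h1 := MulAction.index_stabilizer_of_transitive D.SUgrp ω
    rw [htop, Subgroup.index_top] at h1
    rw [hd] at h1
    omega
  have h512 : H.index = 512 := by rw [← hcΩ, hd, hf0]
  refine D.no_order_53887680 hF4 hk H ?_
  have h1 := H.card_mul_index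
  rw [h512, hcard] at h1
  omega

end

end HermData

end CfsgLib.KnownSimple.Unitary
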